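import Groth.Agent.S7520
import Groth.Agent.S5341
import Groth.Agent.S18082
import Groth.Agent.L08.Borel.Borels
import Mathlib.AlgebraicGeometry.Geometrically.Irreducible

/-!
# The reduced identity component over an algebraically closed field
-/

set_option autoImplicit false
set_option backward.isDefEq.respectTransparency.types false
set_option linter.style.haveILetI false

universe u

open CategoryTheory CategoryTheory.Limits MonoidalCategory CartesianMonoidalCategory MonObj GrpObj AlgebraicGeometry

noncomputable section

namespace Groth.L19.SpecSub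

open Groth.Agent.S18082 (lP dP)

variable {k : Type u} [Field k] {C : Over (Spec (CommRingCat.of k))}

theorem geomIrred_tensor {X Y : Over (Spec (CommRingCat.of k))}
    [GeometricallyIrreducible X.hom] [GeometricallyIrreducible Y.hom] [UniversallyOpen X.hom] [UniversallyOpen Y.hom] :
    GeometricallyIrreducible (X ⊗ Y).hom ∧ UniversallyOpen (X ⊗ Y).hom := by
  haveI : UniversallyOpen (pullback.fst X.hom Y.hom) := MorphismProperty.pullback_fst _ _ ‹UniversallyOpen Y.hom›
  exact ⟨GeometricallyIrreducible.comp (pullback.fst X.hom Y.hom) X.hom,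
    inferInstanceAs (UniversallyOpen (pullback.fst X.hom Y.hom ≫ X.hom))⟩

theorem connected_of_geomIrred (X : Over (Spec (CommRingCat.of k))) [GeometricallyIrreducible X.hom] :
    ConnectedSpace X.left := by
  haveI : Subsingleton (Spec (CommRingCat.of k)) := inferInstanceAs (Subsingleton (PrimeSpectrum k))
  haveI : Nonempty (Spec (CommRingCat.of k)) := ⟨IsLocalRing.closedPoint k⟩
  haveI := GeometricallyIrreducible.irreducibleSpace_of_subsingleton (f := X.hom)
  infer_instance

variable [GrpObj C] [GeometricallyIrreducible C.hom] [UniversallyOpen C.hom]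

theorem connected_dP (n : ℕ) : ConnectedSpace (dP C n).left := by
  suffices GeometricallyIrreducible (dP C n).hom ∧ UniversallyOpen (dP C n).hom from
    haveI := this.1; connected_of_geomIrred _
  induction n with
  | zero => exact ⟨‹_›, ‹_›⟩
  | succ n ih => haveI := ih.1; haveI := ih.2; exact geomIrred_tensor (X := dP C n) (Y := dP C n)

theorem connected_lP (n : ℕ) : ConnectedSpace (lP C n).left := by
  suffices GeometricallyIrreducible (lP C n).hom ∧ UniversallyOpen (lP C n).hom from
    haveI := this.1; connected_of_geomIrred _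
  induction n with
  | zero => exact ⟨‹_›, ‹_›⟩
  | succ n ih => haveI := ih.1; haveI := ih.2; exact geomIrred_tensor (X := lP C n) (Y := C)

theorem connected_tensor : ConnectedSpace (C ⊗ C).left := connected_dP (C := C) 1

omit [GrpObj C] [GeometricallyIrreducible C.hom] [UniversallyOpen C.hom] in
/-- identity component and its reduction -/
theorem exists_idComp [IsAlgClosed k] (G : Over (Spec (CommRingCat.of k))) [GrpObj G] [LocallyOfFiniteType G.hom] :
    ∃ (C : Over (Spec (CommRingCat.of k))) (_ : GrpObj C) (R : Over (Spec (CommRingCat.of k))) (_ : GrpObj R)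
      (c : C ⟶ G) (j : R ⟶ C), IsMonHom c ∧ IsClosedImmersion c.left ∧ IsMonHom j ∧ IsClosedImmersion j.left ∧
      GeometricallyIrreducible C.hom ∧ UniversallyOpen C.hom ∧ Smooth R.hom ∧ ConnectedSpace R.left ∧
      topologicalKrullDim R.left = topologicalKrullDim G.left := by
  obtain ⟨C, gC, c, hc, hcc, hcf, hr, hgi, -⟩ := Groth.Agent.S7520.result k G
  haveI : LocallyOfFiniteType C.hom := by rw [← Over.w c]; infer_instance
  haveI : IsLocallyNoetherian G.left := LocallyOfFiniteType.isLocallyNoetherian G.hom
  haveI : IsOpenImmersion c.left := IsOpenImmersion.of_flat_of_mono c.left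
  haveI : UniversallyOpen C.hom := inferInstance
  obtain ⟨R, gR, j, hj, hjc, hjs, hsurj, -⟩ := Groth.L08.Borel.exists_red_subgroup C
  let e : R.left ≃ₜ C.left :=
    (j.left.isEmbedding.toHomeomorph).trans
      ((Homeomorph.setCongr (Set.range_eq_univ.2 hsurj.surj)).trans (Homeomorph.Set.univ _))
  haveI : ConnectedSpace R.left := by
    haveI := connected_of_geomIrred C
    exact e.symm.surjective.connectedSpace e.symm.continuous
  refine ⟨C, gC, R, gR, c, j, hc, hcc, hj, hjc, hgi, inferInstance, hjs, inferInstance, ?_⟩
  rw [IsHomeomorph.topologicalKrullDim_eq _ e.isHomeomorph]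
  refine le_antisymm c.left.isEmbedding.isInducing.topologicalKrullDim_le ?_
  rw [← (Groth.Agent.S5341.result k G).2 (c.left ((η[C] : 𝟙_ _ ⟶ C).left (IsLocalRing.closedPoint k)))]
  refine iInf_le_of_le ⟨c.left.opensRange, ⟨_, rfl⟩⟩ ?_
  exact le_of_eq (IsHomeomorph.topologicalKrullDim_eq _ c.left.isEmbedding.toHomeomorph.isHomeomorph).symm

end Groth.L19.SpecSub
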