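import Groth.Agent.L19.SpecSub.Induction
import Groth.Agent.L19.SubgroupStage
import Groth.Agent.L26.AV.Image
import Groth.Agent.S18063
import Groth.Agent.S18082

/-!
# Normal, commutative, nilpotent and solvable subgroups specialise
-/

set_option autoImplicit false
set_option backward.isDefEq.respectTransparency.types false
set_option linter.style.haveILetI false

universe u

open CategoryTheory CategoryTheory.Limits MonoidalCategory CartesianMonoidalCategory MonObj GrpObj AlgebraicGeometry

noncomputable section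

namespace Groth.L19.SpecSub

/-- base change preserves normality -/
theorem isNormalHom_bc {S S' : Scheme.{u}} (t : S' ⟶ S) {G L : Over S} [GrpObj G] [GrpObj L] (l : L ⟶ G)
    (h : AlgGrp.IsNormalHom l) :
    AlgGrp.IsNormalHom ((Over.pullback t).map l : Red.bc t L ⟶ Red.bc t G) := by
  intro T g n
  let F := Over.pullback t
  let adj := Over.mapPullbackAdj t
  obtain ⟨n', hn'⟩ := h ((Over.map t).obj T) ((adj.homEquiv _ _).symm g) ((adj.homEquiv _ _).symm n)
  refine ⟨adj.homEquiv _ _ n', ?_⟩
  have e := congrArg (fun m => adj.unit.app T ≫ F.map m) hn'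
  simp only [Functor.map_mul, Functor.map_comp, Functor.map_inv', MonObj.comp_mul, GrpObj.comp_inv] at e
  have hu : ∀ {Y : Over S} (x : T ⟶ F.obj Y), adj.unit.app T ≫ F.map ((adj.homEquiv T Y).symm x) = x := fun {Y} x => by
    exact (adj.homEquiv_unit (X := T) (Y := Y) (f := (adj.homEquiv T Y).symm x)).symm.trans
      ((adj.homEquiv T Y).apply_symm_apply x)
  rw [hu, ← Category.assoc, hu, ← Category.assoc] at e
  rw [Adjunction.homEquiv_unit]
  exact e

/-- no condition -/
def PAny : Pred.{u} := fun _ _ _ _ _ _ => True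

/-- normal subgroups -/
def PNormal : Pred.{u} := fun _ _ _ _ _ i => AlgGrp.IsNormalHom i

/-- commutative subgroups -/
def PComm : Pred.{u} := fun _ H _ _ _ _ => IsCommMonObj H

/-- nilpotent subgroups -/
def PNilp : Pred.{u} := fun _ H _ _ _ _ => AGF.IsNilpotentGrp H

/-- solvable subgroups -/
def PSolv : Pred.{u} := fun _ H _ _ _ _ => Red.IsSolvableGrp H

theorem stable_any : Stable PAny.{u} := by
  constructor
  · intros; trivial
  · intros; trivial

theorem stable_normal : Stable PNormal.{u} := by
  constructor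
  · intro B H H' G G' _ _ _ _ i a e _ _ he hi T g n
    obtain ⟨n', hn'⟩ := hi T (g ≫ e.inv) (n ≫ a.hom)
    refine ⟨n' ≫ a.inv, ?_⟩
    have := congrArg (· ≫ e.hom) hn'
    simp only [MonObj.mul_comp, GrpObj.inv_comp, Category.assoc, Iso.inv_hom_id, Category.comp_id] at this
    simpa using this
  · intro B B' g H G _ _ i _ hi
    exact isNormalHom_bc g i hi

/-- composition with an injective homomorphism, on points -/
def postcomp {B : Scheme.{u}} {H' H : Over B} [GrpObj H] [GrpObj H'] (a : H' ⟶ H) [IsMonHom a] (X : Over B) :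
    (X ⟶ H') →* (X ⟶ H) where
  toFun x := x ≫ a
  map_one' := MonObj.one_comp a
  map_mul' x y := MonObj.mul_comp x y a

theorem isCommMonObj_of_mono {B : Scheme.{u}} {H' H : Over B} [GrpObj H] [GrpObj H'] (a : H' ⟶ H) [IsMonHom a]
    [Mono a] [IsCommMonObj H] : IsCommMonObj H' := by
  refine ⟨?_⟩
  rw [← cancel_mono a, Category.assoc, IsMonHom.mul_hom, ← Category.assoc, ← BraidedCategory.braiding_naturality,
    Category.assoc, IsCommMonObj.mul_comm]

theorem stable_comm : Stable PComm.{u} := by
  constructor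
  · intro B H H' G G' _ _ _ _ i a e _ ha _ hi
    haveI : IsCommMonObj H := hi
    exact isCommMonObj_of_mono a.hom
  · intro B B' g H G _ _ i _ hi
    haveI : IsCommMonObj H := hi
    exact inferInstanceAs (IsCommMonObj ((Over.pullback g).obj H))

theorem stable_solv : Stable PSolv.{u} := by
  constructor
  · intro B H H' G G' _ _ _ _ i a e _ ha _ hi
    obtain ⟨n, hn⟩ := hi
    exact ⟨n, fun X =>
      Groth.Agent.S18082.der_eq_bot (postcomp a.hom X) (fun x y h => (cancel_mono a.hom).1 h) (hn X)⟩
  · intro B B' g H G _ _ i _ hi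
    obtain ⟨n, hn⟩ := hi
    exact ⟨n, fun X =>
      Groth.Agent.S18082.der_eq_bot (Groth.Agent.S18082.push H g X) (Groth.Agent.S18082.push_inj H g X) (hn _)⟩

theorem stable_nilp : Stable PNilp.{u} := by
  constructor
  · intro B H H' G G' _ _ _ _ i a e _ ha _ hi
    obtain ⟨n, hn⟩ := hi
    exact ⟨n, fun X => (Groth.Agent.S7999.upper_eq_top_iff n).2
      (Groth.Agent.S18082.lcs_eq_bot (postcomp a.hom X) (fun x y h => (cancel_mono a.hom).1 h)
        ((Groth.Agent.S7999.upper_eq_top_iff n).1 (hn X)))⟩
  · intro B B' g H G _ _ i _ hi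
    obtain ⟨n, hn⟩ := hi
    exact ⟨n, fun X => (Groth.Agent.S7999.upper_eq_top_iff n).2
      (Groth.Agent.S18082.lcs_eq_bot (Groth.Agent.S18082.push H g X) (Groth.Agent.S18082.push_inj H g X)
        ((Groth.Agent.S7999.upper_eq_top_iff n).1 (hn _)))⟩

variable {S : Scheme.{u}} (G : Over S) [GrpObj G]

theorem specialises_any : Specialises PAny G := fun _ _ _ _ _ _ _ _ _ _ _ _ => trivial

theorem specialises_normal [Flat G.hom] : Specialises PNormal G := by
  intro V _ _ _ f H _ j _ _ _ hn
  haveI : Flat (Red.bc f G).hom := MorphismProperty.pullback_snd _ _ ‹Flat G.hom›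
  haveI : Flat (Red.bc f G ⊗ H).hom :=
    inferInstanceAs (Flat (pullback.fst (Red.bc f G).hom H.hom ≫ (Red.bc f G).hom))
  haveI : IsMonHom ((Over.pullback (Neron.genPt V)).map j) := inferInstance
  obtain ⟨v, hv⟩ := Groth.L19.SubgroupStage.fac_conjMap (Neron.genPt V) j hn
  obtain ⟨l, hl⟩ := Groth.Agent.AV.exists_fac_of_schDom j.left
    (pullback.fst (Red.bc f G ⊗ H).hom (Neron.genPt V)) (Groth.L19.SubgroupStage.conjMap j).left
    (v.left ≫ pullback.fst H.hom (Neron.genPt V)) (by
      rw [Category.assoc, ← Groth.Agent.NeronL.pb_map_fst (Neron.genPt V) j, ← Category.assoc, ← Over.comp_left, hv]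
      exact (Groth.Agent.NeronL.pb_map_fst _ _).symm)
  let l' : Red.bc f G ⊗ H ⟶ H := Over.homMk l (by rw [← Over.w j, ← Category.assoc, hl, Over.w])
  have hl' : l' ≫ j = Groth.L19.SubgroupStage.conjMap j := Over.OverMorphism.ext hl
  refine isNormalHom_bc (resPt V) j fun T g n => ⟨lift g n ≫ l', ?_⟩
  rw [Category.assoc, hl', Groth.L19.SubgroupStage.conjMap]
  simp only [MonObj.comp_mul, GrpObj.comp_inv, lift_fst, lift_snd_assoc]

theorem isSeparated_sub [IsSeparated G.hom] {V : Type u} [CommRing V] (f : Spec (CommRingCat.of V) ⟶ S)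
    {H : Over (Spec (CommRingCat.of V))} (j : H ⟶ Red.bc f G) [IsClosedImmersion j.left] : IsSeparated H.hom := by
  haveI : IsSeparated (Red.bc f G).hom := MorphismProperty.pullback_snd _ _ ‹IsSeparated G.hom›
  rw [← Over.w j]
  infer_instance

theorem fp_sub [LocallyOfFinitePresentation G.hom] [QuasiCompact G.hom] {V : Type u} [CommRing V] [IsNoetherianRing V]
    (f : Spec (CommRingCat.of V) ⟶ S) {H : Over (Spec (CommRingCat.of V))} (j : H ⟶ Red.bc f G)
    [IsClosedImmersion j.left] : LocallyOfFinitePresentation H.hom ∧ QuasiCompact H.hom := by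
  haveI : LocallyOfFinitePresentation (Red.bc f G).hom :=
    MorphismProperty.pullback_snd _ _ ‹LocallyOfFinitePresentation G.hom›
  haveI : QuasiCompact (Red.bc f G).hom := MorphismProperty.pullback_snd _ _ ‹QuasiCompact G.hom›
  haveI : LocallyOfFiniteType H.hom := by rw [← Over.w j]; infer_instance
  exact ⟨inferInstance, by rw [← Over.w j]; infer_instance⟩

theorem specialises_comm [IsSeparated G.hom] [LocallyOfFinitePresentation G.hom] [QuasiCompact G.hom] :
    Specialises PComm G := by
  intro V _ _ _ f H _ j _ _ _ hc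
  haveI := isSeparated_sub G f j
  obtain ⟨_, _⟩ := fp_sub G f j
  haveI : IsCommMonObj (Red.bc (Spec.map (CommRingCat.ofHom (algebraMap V (FractionRing V)))) H) := hc
  exact Groth.Agent.S18063.result V (FractionRing V) H

theorem specialises_nilp [IsSeparated G.hom] [LocallyOfFinitePresentation G.hom] [QuasiCompact G.hom] :
    Specialises PNilp G := by
  intro V _ _ _ f H _ j _ _ _ hc
  haveI := isSeparated_sub G f j
  obtain ⟨_, _⟩ := fp_sub G f j
  exact (Groth.Agent.S18082.result V (FractionRing V) H).1 hc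

theorem specialises_solv [IsSeparated G.hom] [LocallyOfFinitePresentation G.hom] [QuasiCompact G.hom] :
    Specialises PSolv G := by
  intro V _ _ _ f H _ j _ _ _ hc
  haveI := isSeparated_sub G f j
  obtain ⟨_, _⟩ := fp_sub G f j
  exact (Groth.Agent.S18082.result V (FractionRing V) H).2 hc

end Groth.L19.SpecSub
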