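import Groth.Agent.L19.SpecSub.SabExponent
import Groth.Agent.L19.SpecSub.IdComp
import Groth.Agent.L23.AffineMor
import Groth.Agent.L08.FlatHom

/-!
# Powers on semiabelian varieties; quotients by the largest semiabelian subgroup
-/

set_option autoImplicit false
set_option backward.isDefEq.respectTransparency.types false
set_option linter.style.haveILetI false
set_option linter.unusedSectionVars false

universe u

open CategoryTheory CategoryTheory.Limits MonoidalCategory CartesianMonoidalCategory MonObj GrpObj AlgebraicGeometry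
open Groth.L08.P1Hom (lineK lineAt)

noncomputable section

namespace Groth.L19.SpecSub

variable {k : Type u} [Field k]

theorem map_pow_gbc {S : Over (Spec (CommRingCat.of k))} [GrpObj S] (n : ℕ) :
    (Over.pullback (AbVar.ext k (AlgebraicClosure k))).map ((𝟙 S : S ⟶ S) ^ n) = (𝟙 (gbc S) : gbc S ⟶ gbc S) ^ n :=
  (((Over.pullback (AbVar.ext k (AlgebraicClosure k))).homMonoidHom (X := S) (M := S)).map_pow (𝟙 S) n).trans
    (congrArg (· ^ n) ((Over.pullback (AbVar.ext k (AlgebraicClosure k))).map_id S))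

/-- A semiabelian variety with finite exponent is trivial. -/
theorem IsSemiab.isIso_unit {S : Over (Spec (CommRingCat.of k))} [GrpObj S]
    [LocallyOfFiniteType S.hom] [QuasiCompact S.hom] (h : IsSemiab S) (n : ℕ) (hn : 0 < n)
    (hpow : (𝟙 S : S ⟶ S) ^ n = 1) : IsIso η[S] := by
  let t := AbVar.ext k (AlgebraicClosure k)
  haveI := h.smooth
  haveI := smooth_gbc S
  haveI := qc_gbc S
  have hK : (𝟙 (gbc S) : _ ⟶ _) ^ n = 1 := by
    rw [← map_pow_gbc, hpow]
    exact map_one ((Over.pullback t).homMonoidHom (X := S) (M := S))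
  haveI := (h.bc (AlgebraicClosure k)).isIso_unit_of_pow n hn hK
  refine isIso_unit_of_surjective_one ?_
  have h2 : (1 : S ⟶ S) = 𝟙 S := by
    refine Over.OverMorphism.ext ?_
    have hb : (Over.pullback t).map (1 : S ⟶ S) = (Over.pullback t).map (𝟙 S) :=
      (eq_one_of_isIso_unit (G := gbc S) _).trans (eq_one_of_isIso_unit (G := gbc S) _).symm
    haveI : Epi (pullback.fst S.hom t) := by
      haveI : Surjective t := Groth.L08.ChevPerf.ext_props.1
      haveI : Flat t := Groth.L08.ChevPerf.ext_props.2.1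
      haveI : QuasiCompact t := Groth.L08.ChevPerf.ext_props.2.2
      haveI : Surjective (pullback.fst S.hom t) := MorphismProperty.pullback_fst _ _ ‹Surjective t›
      haveI : Flat (pullback.fst S.hom t) := MorphismProperty.pullback_fst _ _ ‹Flat t›
      exact Flat.epi_of_flat_of_surjective _
    rw [← cancel_epi (pullback.fst S.hom t)]
    exact (Groth.L08.Albanese.isPullback_bc_map (K := AlgebraicClosure k) (1 : S ⟶ S)).w.symm.trans
      ((congrArg (fun m => m.left ≫ pullback.fst S.hom t) hb).trans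
        (Groth.L08.Albanese.isPullback_bc_map (K := AlgebraicClosure k) (𝟙 S)).w)
  rw [h2, Over.id_left]
  infer_instance

/-- Powers on a semiabelian variety are surjective. -/
theorem IsSemiab.surjective_pow {S : Over (Spec (CommRingCat.of k))} [GrpObj S] [LocallyOfFiniteType S.hom]
    [QuasiCompact S.hom] (h : IsSemiab S) (n : ℕ) (hn : 0 < n) : Surjective ((𝟙 S : S ⟶ S) ^ n).left := by
  haveI := h.comm
  haveI := Groth.L08.AbelianGrp.isSeparated S
  haveI : IsMonHom ((𝟙 S : S ⟶ S) ^ n) := Groth.Agent.AV.Isogeny.isMonHom_pow n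
  obtain ⟨C, _, π, i, hπ, hi, hπi, hπf, hπs, hπl, hic⟩ := Groth.L08.AbelianGrp.exists_image ((𝟙 S : S ⟶ S) ^ n)
  haveI := hi; haveI := hic; haveI := hπs
  obtain ⟨E, _, q, hq, hqs, hqf, hql, hEl, hEq, hEc, hkq⟩ := Groth.L08.AbelianGrp.exists_quotient i
  haveI := hq; haveI := hqs; haveI := hqf; haveI := hql; haveI := hEl; haveI := hEq; haveI := hEc
  haveI : Epi q := Groth.L08.GQuot.epi_of_cover q
  have hiq : i ≫ q = 1 := hkq.w.trans (Hom.one_def).symm
  have hE : (𝟙 E : E ⟶ E) ^ n = 1 := by
    rw [← cancel_epi q, MonObj.comp_pow, Category.comp_id, MonObj.comp_one]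
    calc q ^ n = ((𝟙 S : S ⟶ S) ^ n) ≫ q := by rw [MonObj.pow_comp, Category.id_comp]
      _ = π ≫ i ≫ q := by rw [← Category.assoc, hπi]
      _ = 1 := by rw [hiq, MonObj.comp_one]
  haveI := (h.of_surjective q).isIso_unit n hn hE
  obtain ⟨l, hl⟩ : ∃ l : S ⟶ C, l ≫ i = 𝟙 S :=
    ⟨hkq.lift (𝟙 S) (toUnit S) (by rw [Category.id_comp, eq_one_of_isIso_unit q, Hom.one_def]), hkq.lift_fst _ _ _⟩
  haveI : Surjective i.left := by
    haveI : Surjective (l.left ≫ i.left) := by rw [← Over.comp_left, hl, Over.id_left]; infer_instance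
    exact Surjective.of_comp l.left i.left
  rw [← hπi, Over.comp_left]
  infer_instance

/-- A subgroup of a semiabelian variety with finite exponent is finite. -/
theorem IsSemiab.isFinite_of_pow {S K : Over (Spec (CommRingCat.of k))} [GrpObj S] [GrpObj K]
    [LocallyOfFiniteType S.hom] [QuasiCompact S.hom] (h : IsSemiab S) (e : K ⟶ S) [IsMonHom e]
    [IsClosedImmersion e.left] (n : ℕ) (hn : 0 < n) (hK : (𝟙 K : K ⟶ K) ^ n = 1) : IsFinite K.hom := by
  let Ω := AlgebraicClosure k
  let t := AbVar.ext k Ω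
  haveI : LocallyOfFiniteType K.hom := by rw [← Over.w e]; infer_instance
  haveI : QuasiCompact K.hom := by rw [← Over.w e]; infer_instance
  haveI : LocallyOfFiniteType (gbc K).hom := MorphismProperty.pullback_snd _ _ ‹LocallyOfFiniteType K.hom›
  haveI := qc_gbc K
  haveI : IsClosedImmersion ((Over.pullback t).map e).left :=
    MorphismProperty.of_isPullback (P := @IsClosedImmersion) (Groth.L08.Albanese.isPullback_bc_map (K := Ω) e).flip ‹_›
  haveI : Mono ((Over.pullback t).map e) :=
    (Over.forget _).mono_of_mono_map (inferInstanceAs (Mono ((Over.pullback t).map e).left))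
  refine Groth.L08.ChevPerf.descends (K := Ω) @IsFinite K ?_
  show IsFinite (gbc K).hom
  obtain ⟨C, gC, R, gR, c, j, hc, hcc, hj, hjc, -, -, hRs, hRc, hRd⟩ := exists_idComp (gbc K)
  haveI := hc; haveI := hcc; haveI := hj; haveI := hjc; haveI := hRs; haveI := hRc
  haveI : IsClosedImmersion (j ≫ c).left := by rw [Over.comp_left]; infer_instance
  haveI : Mono (j ≫ c) := (Over.forget _).mono_of_mono_map (inferInstanceAs (Mono (j ≫ c).left))
  haveI : LocallyOfFiniteType R.hom := inferInstance
  haveI : QuasiCompact R.hom := by rw [← Over.w (j ≫ c)]; infer_instance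
  have hR : IsSemiab R :=
    isSemiab_of_lineConst (((h.bc Ω).lineConst.of_mono ((Over.pullback t).map e)).of_mono (j ≫ c))
  have hK' : (𝟙 (gbc K) : _ ⟶ _) ^ n = 1 := by
    rw [← map_pow_gbc, hK]
    exact map_one ((Over.pullback t).homMonoidHom (X := K) (M := K))
  have hR1 : (𝟙 R : R ⟶ R) ^ n = 1 := by
    rw [← cancel_mono (j ≫ c), MonObj.pow_comp, Category.id_comp, MonObj.one_comp]
    have h1 := congrArg ((j ≫ c) ≫ ·) hK'
    simpa [MonObj.comp_pow] using h1
  haveI := hR.isIso_unit_of_pow n hn hR1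
  haveI : IsIso η[R].left := inferInstanceAs (IsIso ((Over.forget _).map η[R]))
  haveI : Subsingleton ↥R.left := by
    refine ⟨fun a b => ?_⟩
    obtain ⟨x, rfl⟩ := η[R].left.surjective a
    obtain ⟨y, rfl⟩ := η[R].left.surjective b
    exact congrArg η[R].left (Subsingleton.elim (α := PrimeSpectrum Ω) _ _)
  have hd0 : topologicalKrullDim (gbc K).left ≤ 0 := by
    rw [← hRd]; exact topologicalKrullDim_zero_of_discreteTopology _
  haveI : CompactSpace ↥(gbc K).left := QuasiCompact.compactSpace_of_compactSpace (gbc K).hom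
  haveI : IsLocallyNoetherian (gbc K).left := LocallyOfFiniteType.isLocallyNoetherian (gbc K).hom
  haveI : IsNoetherian (gbc K).left := ⟨⟩
  haveI : TopologicalSpace.NoetherianSpace ↥(gbc K).left := inferInstance
  obtain ⟨_, _⟩ := Groth.L06.Dim.discreteTopology_of_dim_le_zero (X := ↥(gbc K).left) hd0
  exact Groth.L21.CurveTop.isFinite_of_discrete (gbc K).hom

section Quot

variable {G : Over (Spec (CommRingCat.of k))} [GrpObj G] [IsCommMonObj G] [LocallyOfFiniteType G.hom]
  [QuasiCompact G.hom] {S : Over (Spec (CommRingCat.of k))} [GrpObj S] (s : S ⟶ G) [IsMonHom s]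
  [IsClosedImmersion s.left] (hS : IsSemiab S)
  (hmax : ∀ (S' : Over (Spec (CommRingCat.of k))) [GrpObj S'] (s' : S' ⟶ G) [IsMonHom s'] [IsClosedImmersion s'.left],
    IsSemiab S' → ∃ g : S' ⟶ S, g ≫ s = s')

include hS hmax in
/-- The quotient by the largest semiabelian subgroup has no semiabelian subgroups. -/
theorem quot_noSemiab {Q : Over (Spec (CommRingCat.of k))} [GrpObj Q] [LocallyOfFiniteType Q.hom]
    [QuasiCompact Q.hom] (q : G ⟶ Q) [IsMonHom q] [Surjective q.left] [Flat q.left] (hker : AlgGrp.IsKernel s q)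
    (C : Over (Spec (CommRingCat.of k))) [GrpObj C] (i : C ⟶ Q) [IsMonHom i] [IsClosedImmersion i.left]
    (hC : IsSemiab C) : IsIso η[C] := by
  haveI : LocallyOfFinitePresentation q.left := lfp_hom_field q
  haveI : IsCommMonObj Q := Groth.L08.AbelianGrp.isCommMonObj_of_cover q
  obtain ⟨P, _, e, π, f, he, hπ, hf, hec, -, hfe, hsq, hπf, hπs, hkf⟩ :=
    Groth.L19.AlgGrpBasic.exists_preimage_normal s q hker i (Groth.L08.AbelianGrp.isNormalHom_of_comm i)
  haveI := he; haveI := hπ; haveI := hf; haveI := hec; haveI := hπf; haveI := hπs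
  haveI : LocallyOfFiniteType P.hom := by rw [← Over.w e]; infer_instance
  haveI : QuasiCompact P.hom := by rw [← Over.w e]; infer_instance
  haveI : LocallyOfFiniteType C.hom := by rw [← Over.w i]; infer_instance
  haveI : QuasiCompact C.hom := by rw [← Over.w i]; infer_instance
  haveI : LocallyOfFiniteType S.hom := by rw [← Over.w s]; infer_instance
  haveI : QuasiCompact S.hom := by rw [← Over.w s]; infer_instance
  obtain ⟨g, hg⟩ := hmax P e (IsSemiab.of_extension f π hkf hS hC)
  haveI : Mono i := (Over.forget _).mono_of_mono_map (inferInstanceAs (Mono i.left))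
  have hπ1 : π = 1 := by
    have hsq1 : s ≫ q = 1 := hker.w.trans (Hom.one_def).symm
    rw [← cancel_mono i, MonObj.one_comp, ← hsq, ← hg, Category.assoc, hsq1, MonObj.comp_one]
  haveI : LocallyOfFinitePresentation π.left := lfp_hom_field π
  haveI : Epi π := Groth.L08.GQuot.epi_of_cover π
  have h1 : (1 : C ⟶ C) = 𝟙 C := by rw [← cancel_epi π, MonObj.comp_one, Category.comp_id, hπ1]
  exact ⟨toUnit C, toUnit_unique _ _, by rw [← Hom.one_def, h1]⟩

variable (p : ℕ) [Fact p.Prime] [CharP k p]

include p hS hmax in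
/-- Some power map factors through the largest semiabelian subgroup. -/
theorem exists_pow_fac : ∃ (n : ℕ) (h : G ⟶ S), 0 < n ∧ h ≫ s = (𝟙 G : G ⟶ G) ^ n := by
  obtain ⟨Q, _, q, hq, hqs, hqf, hql, hQl, hQq, hQc, hker⟩ := Groth.L08.AbelianGrp.exists_quotient s
  haveI := hq; haveI := hqs; haveI := hqf; haveI := hql; haveI := hQl; haveI := hQq; haveI := hQc
  obtain ⟨n, hn, hn1⟩ := exists_pow_eq_one p Q fun C _ i _ _ hC => quot_noSemiab s hS hmax q hker C i hC
  have h1 : ((𝟙 G : G ⟶ G) ^ n) ≫ q = 1 := by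
    rw [MonObj.pow_comp, Category.id_comp, ← Category.comp_id q, ← MonObj.comp_pow, hn1, MonObj.comp_one]
  exact ⟨n, hker.lift _ (toUnit G) (by rw [h1, Hom.one_def]), hn, hker.lift_fst _ _ _⟩

end Quot

end Groth.L19.SpecSub
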