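import Groth.Agent.L01.Unip.Poly
import Groth.Agent.L24.Count.UnipScheme
import Groth.Agent.L08.P1Hom.LargeGrp
import Groth.Agent.S7976
import Groth.Agent.S2966

/-!
# Affine lines in unipotent groups; the affine line criterion for semiabelian varieties
-/

set_option autoImplicit false
set_option backward.isDefEq.respectTransparency.types false
set_option linter.style.haveILetI false
set_option linter.unusedSectionVars false

universe u

open CategoryTheory CategoryTheory.Limits MonoidalCategory CartesianMonoidalCategory MonObj GrpObj AlgebraicGeometry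
open TensorProduct WithConv Groth.L08 Groth.L01.MultConj
open Groth.L25.Bridge (P exists_hopf)
open Groth.L08.P1Hom (lineK lineAt)

noncomputable section

namespace Groth.L19.SpecSub

variable {k : Type u} [Field k] [IsAlgClosed k]

/-- A nontrivial connected unipotent Hopf algebra maps onto a polynomial ring in one variable. -/
theorem exists_lineHom (A : Type u) [CommRing A] [HopfAlgebra k A] [Algebra.FiniteType k A] [IsDomain A]
    (hU : HopfRep.IsUnipotent k A) (hne : RingHom.ker (Bialgebra.counitAlgHom k A) ≠ ⊥) :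
    ∃ φ : A →ₐ[k] Polynomial k, Function.Surjective φ := by
  classical
  haveI : IsNoetherianRing A := Algebra.FiniteType.isNoetherianRing k A
  let S : Set (Ideal A) := {I | I.IsHopfIdeal k ∧ I.IsPrime ∧ I ≠ RingHom.ker (Bialgebra.counitAlgHom k A)}
  obtain ⟨I, ⟨hI, hIp, hIne⟩, hmax⟩ := set_has_maximal_iff_noetherian.2 inferInstance S
    ⟨⊥, Groth.L01.Unip.isHopfIdeal_bot A, Ideal.isPrime_bot, fun h => hne h.symm⟩
  haveI := hI
  haveI := hIp
  let C := A ⧸ I
  let π : A →ₐc[k] C := Bialgebra.Quotient.mkBialgHom I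
  have hπs : Function.Surjective π := Ideal.Quotient.mk_surjective
  haveI : Algebra.FiniteType k C :=
    Algebra.FiniteType.of_surjective (Ideal.Quotient.mkₐ k I) Ideal.Quotient.mk_surjective
  haveI : IsDomain C := Ideal.Quotient.isDomain I
  have hUC : HopfRep.IsUnipotent k C := (Groth.Agent.S5422.result k A).1 C π hπs hU
  have hker : ∀ x, π x ∈ RingHom.ker (Bialgebra.counitAlgHom k C) ↔
      x ∈ RingHom.ker (Bialgebra.counitAlgHom k A) := fun x => by
    rw [RingHom.mem_ker, RingHom.mem_ker]
    exact Iff.rfl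
  have hCne : RingHom.ker (Bialgebra.counitAlgHom k C) ≠ ⊥ := by
    intro h
    refine hIne (le_antisymm (fun x hx => ?_) fun x hx => ?_)
    · exact hI.toIsCoideal.counit_eq_zero hx
    · refine Ideal.Quotient.eq_zero_iff_mem.1 ?_
      have := (hker x).2 hx
      rwa [h, Ideal.mem_bot] at this
  haveI := Groth.L01.Unip.isDomain_tensor_self (k := k) (C := C)
  obtain ⟨f, hf, hf0, hdom⟩ := exists_good (K := k) hUC hCne
  haveI := isHopfIdeal_span_prim hf
  have hspan : Ideal.span {f} = RingHom.ker (Bialgebra.counitAlgHom k C) := by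
    by_contra hne'
    haveI : IsDomain (C ⧸ Ideal.span {f}) :=
      haveI := hdom
      MulEquiv.isDomain (k ⊗[k] (C ⧸ Ideal.span {f}))
        (Algebra.TensorProduct.lid k (C ⧸ Ideal.span {f})).symm.toMulEquiv
    haveI : (Ideal.span {f}).IsPrime := (Ideal.Quotient.isDomain_iff_prime _).1 inferInstance
    refine hmax ((Ideal.span {f}).comap (π : A →ₐ[k] C))
      ⟨Groth.L01.UnipSplit.isHopfIdeal_comap π _, Ideal.comap_isPrime _ _, fun h => ?_⟩
      (lt_of_le_of_ne (fun x hx => ?_) fun h => ?_)
    · refine hne' ?_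
      rw [← Ideal.map_comap_of_surjective (π : A →ₐ[k] C) hπs (Ideal.span {f}), h]
      refine le_antisymm (Ideal.map_le_iff_le_comap.2 fun x hx => (hker x).2 hx) fun y hy => ?_
      obtain ⟨x, rfl⟩ := hπs y
      exact Ideal.mem_map_of_mem _ ((hker x).1 hy)
    · rw [Ideal.mem_comap]
      show π x ∈ _
      rw [show π x = 0 from Ideal.Quotient.eq_zero_iff_mem.2 hx]
      exact zero_mem _
    · obtain ⟨x, rfl⟩ := hπs f
      refine hf0 (Ideal.Quotient.eq_zero_iff_mem.2 ?_)
      rw [h]
      exact Ideal.mem_span_singleton_self _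
  haveI : IsNoetherianRing C := Algebra.FiniteType.isNoetherianRing k C
  haveI hmC : (RingHom.ker (Bialgebra.counitAlgHom k C)).IsMaximal :=
    RingHom.ker_isMaximal_of_surjective _ fun c => ⟨algebraMap k C c, AlgHom.commutes _ c⟩
  have hdim : ringKrullDim C = 1 := by
    rw [← Groth.L08.HopfDim.height_eq_ringKrullDim k (RingHom.ker (Bialgebra.counitAlgHom k C))]
    have hH : (RingHom.ker (Bialgebra.counitAlgHom k C)).height ≤ 1 := by
      rw [← hspan]
      refine le_trans (Ideal.height_le_spanFinrank _ (by rw [hspan]; exact RingHom.ker_ne_top _)) ?_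
      exact_mod_cast (Submodule.spanFinrank_span_le_ncard_of_finite (Set.finite_singleton f)).trans (by simp)
    have h0 : (RingHom.ker (Bialgebra.counitAlgHom k C)).height ≠ 0 := ne_of_gt
      (lt_of_le_of_lt zero_le (Ideal.height_strict_mono_of_isPrime (I := (⊥ : Ideal C))
        (lt_of_le_of_ne bot_le (Ne.symm hCne))))
    rw [le_antisymm hH (Order.one_le_iff_ne_zero.2 h0)]
    rfl
  rcases Groth.Agent.S7976.result k C
      (fun e he => (IsIdempotentElem.iff_eq_zero_or_one).1 he) hdim with ⟨⟨e⟩⟩ | ⟨⟨e⟩⟩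
  · exfalso
    let t : MonoidAlgebra k (Multiplicative ℤ) := MonoidAlgebra.of k (Multiplicative ℤ) (Multiplicative.ofAdd 1)
    have ht : IsGroupLikeElem k t := MonoidAlgebra.isGroupLikeElem_of _
    have hne1 : t ≠ 1 := fun h => by
      have := (MonoidAlgebra.of_injective (R := k) (M := Multiplicative ℤ))
        (h.trans (map_one (MonoidAlgebra.of k (Multiplicative ℤ))).symm)
      exact absurd this (by decide)
    have h1 := Groth.Agent.S2966.groupLike_eq_one hUC (ht.map e.symm)
    exact hne1 (e.symm.injective (h1.trans (map_one _).symm))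
  · let L : SymmetricAlgebra k k →ₐ[k] Polynomial k :=
      SymmetricAlgebra.lift (LinearMap.toSpanSingleton k (Polynomial k) Polynomial.X)
    have hL : Function.Surjective L := by
      intro p
      refine ⟨Polynomial.aeval (SymmetricAlgebra.ι k k 1) p, ?_⟩
      rw [← Polynomial.aeval_algHom_apply]
      simp [L]
    exact ⟨L.comp ((e.toAlgEquiv.toAlgHom).comp (π : A →ₐ[k] C)),
      hL.comp (e.toAlgEquiv.surjective.comp hπs)⟩

/-- A nontrivial connected smooth affine group without subtori over an algebraically closed field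
receives a nonconstant morphism from the affine line. -/
theorem exists_line_of_noSubtorus (U : Over (Spec (CommRingCat.of k))) [GrpObj U] [IsAffine U.left]
    [Smooth U.hom] [ConnectedSpace U.left] (hns : Red.HasNoSubtorus k U) (hU : ¬ Red.IsTrivialGrp U) :
    ∃ f : lineK k ⟶ U, lineAt k 0 ≫ f ≠ lineAt k 1 ≫ f := by
  haveI : IsAffineHom U.hom := isAffineHom_of_isAffine _
  obtain ⟨A, _, _, ⟨E⟩⟩ := exists_hopf (R := k) U
  have hiso : IsIso E.inv.hom.hom :=
    ⟨E.hom.hom.hom, congr($(E.inv_hom_id).hom.hom), congr($(E.hom_inv_id).hom.hom)⟩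
  haveI : IsIso E.inv.hom.hom.left := inferInstanceAs (IsIso ((Over.forget _).map E.inv.hom.hom))
  haveI : IsMonHom E.inv.hom.hom := E.inv.hom.isMonHom_hom
  haveI hsm : Smooth (P k A).hom := by
    rw [← Over.w E.inv.hom.hom]
    exact inferInstanceAs (Smooth (E.inv.hom.hom.left ≫ U.hom))
  haveI : Algebra.FiniteType k A := by
    have h : LocallyOfFiniteType (P k A).hom := inferInstance
    change LocallyOfFiniteType (Spec.map (CommRingCat.ofHom (algebraMap k A))) at h
    rw [HasRingHomProperty.Spec_iff (P := @LocallyOfFiniteType), CommRingCat.hom_ofHom,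
      RingHom.finiteType_algebraMap] at h
    exact h
  haveI : _root_.IsReduced A :=
    (affine_isReduced_iff (CommRingCat.of A)).1
      (@Groth.Agent.AV.isReduced_of_smooth_field k _ _ (Spec.map (CommRingCat.ofHom (algebraMap k A))) hsm)
  haveI : ConnectedSpace (P k A).left :=
    (Scheme.homeoOfIso (asIso E.inv.hom.hom.left)).symm.surjective.connectedSpace (Homeomorph.continuous _)
  haveI : ConnectedSpace (PrimeSpectrum A) := inferInstanceAs (ConnectedSpace (P k A).left)
  have hconn : ∀ e : A, IsIdempotentElem e → e = 0 ∨ e = 1 := fun e he => by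
    have hc : IsClopen (PrimeSpectrum.basicOpen e : Set (PrimeSpectrum A)) :=
      PrimeSpectrum.isClopen_iff.2 ⟨e, he, rfl⟩
    rcases isClopen_iff.1 hc with h | h
    · left
      exact (IsNilpotent.eq_zero ((PrimeSpectrum.basicOpen_eq_bot_iff e).1 (TopologicalSpace.Opens.ext h)))
    · right
      have hu : IsUnit e := by
        by_contra hne
        obtain ⟨m, hm, hem⟩ := exists_max_ideal_of_mem_nonunits (mem_nonunits_iff.2 hne)
        have : (⟨m, hm.isPrime⟩ : PrimeSpectrum A) ∈ PrimeSpectrum.basicOpen e := by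
          rw [← SetLike.mem_coe, h]; trivial
        exact this hem
      exact hu.mul_left_cancel (he.eq.trans (_root_.mul_one e).symm)
  have hdom : IsDomain (k ⊗[k] A) := by
    haveI : _root_.IsReduced (k ⊗[k] A) :=
      isReduced_of_injective (Algebra.TensorProduct.lid k A).toRingHom (Algebra.TensorProduct.lid k A).injective
    exact Groth.L01.MultConj.isDomain_of_connected hconn
  haveI : IsDomain A := MulEquiv.isDomain (k ⊗[k] A) (Algebra.TensorProduct.lid k A).symm.toMulEquiv
  have hns' : Red.HasNoSubtorus k (P k A) := fun T _ j _ _ hT => hns T (j ≫ E.inv.hom.hom) hT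
  have hunip := Groth.L24.Count.isUnipotent_of_noSubtorus (A := A) hconn hns'
  have hne : RingHom.ker (Bialgebra.counitAlgHom k A) ≠ ⊥ := by
    intro h
    refine hU ?_
    have hbij : Function.Bijective (algebraMap k A) := ⟨(algebraMap k A).injective, fun a =>
      ⟨Bialgebra.counitAlgHom k A a, by
        refine ((RingHom.injective_iff_ker_eq_bot _).2 h) ?_
        simp⟩⟩
    haveI : IsIso (CommRingCat.ofHom (algebraMap k A)) :=
      ((RingEquiv.ofBijective _ hbij).toCommRingCatIso).isIso_hom
    haveI : IsIso (P k A).hom := inferInstanceAs (IsIso (Spec.map (CommRingCat.ofHom (algebraMap k A))))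
    show IsIso U.hom
    have h2 : U.hom = inv E.inv.hom.hom.left ≫ (P k A).hom := by
      rw [IsIso.eq_inv_comp]; exact Over.w E.inv.hom.hom
    rw [h2]
    infer_instance
  obtain ⟨φ, hφ⟩ := exists_lineHom A hunip hne
  let g : lineK k ⟶ P k A := Over.homMk (Spec.map (CommRingCat.ofHom φ.toRingHom)) (by
    show Spec.map _ ≫ Spec.map _ = Spec.map _
    rw [← Spec.map_comp, ← CommRingCat.ofHom_comp,
      show φ.toRingHom.comp (algebraMap k A) = Polynomial.C from RingHom.ext fun c => φ.commutes c])
  refine ⟨g ≫ E.inv.hom.hom, fun h => ?_⟩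
  rw [← Category.assoc, ← Category.assoc, cancel_mono] at h
  have h' : (Spec.map (CommRingCat.ofHom (Polynomial.evalRingHom (0 : k))) ≫
      Spec.map (CommRingCat.ofHom φ.toRingHom) : Spec (CommRingCat.of k) ⟶ Spec (CommRingCat.of A)) =
      Spec.map (CommRingCat.ofHom (Polynomial.evalRingHom (1 : k))) ≫ Spec.map (CommRingCat.ofHom φ.toRingHom) :=
    congrArg (fun m : 𝟙_ (Over (Spec (CommRingCat.of k))) ⟶ P k A => m.left) h
  rw [← Spec.map_comp, ← Spec.map_comp] at h'
  obtain ⟨a, ha⟩ := hφ Polynomial.X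
  have := congrArg (fun m : CommRingCat.of A ⟶ CommRingCat.of k => m.hom a) (Spec.map_injective h')
  simp [ha] at this

/-- Every morphism from the affine line to an extension of a proper group by a torus is constant. -/
theorem const_of_semiabelian {T G A : Over (Spec (CommRingCat.of k))} [GrpObj T] [GrpObj G] [GrpObj A]
    [IsProper A.hom] (i : T ⟶ G) [IsMonHom i] (hT : Red.IsTorus T) (q : G ⟶ A) [IsMonHom q]
    (hker : AlgGrp.IsKernel i q) (f : lineK k ⟶ G) : f = toUnit _ ≫ lineAt k 0 ≫ f := by
  obtain ⟨g, hg⟩ : ∃ g, g = f * (toUnit _ ≫ lineAt k 0 ≫ f)⁻¹ := ⟨_, rfl⟩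
  have hz : lineAt k 0 ≫ g = 1 := by
    rw [hg, MonObj.comp_mul, GrpObj.comp_inv, ← Category.assoc (lineAt k 0) (toUnit _),
      Subsingleton.elim (lineAt k 0 ≫ toUnit _) (𝟙 _), Category.id_comp, mul_inv_cancel]
  obtain ⟨c, hc⟩ := Groth.L08.P1Hom.const_of_affineLine (k := k) (g ≫ q)
  have hc1 : c = 1 := by
    have h1 : lineAt k 0 ≫ g ≫ q = c := by
      rw [hc, ← Category.assoc, Subsingleton.elim (lineAt k 0 ≫ toUnit _) (𝟙 _), Category.id_comp]
    rw [← h1, ← Category.assoc, hz, MonObj.one_comp]
  have hq : g ≫ q = toUnit _ ≫ η[A] := by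
    rw [hc, hc1, Hom.one_def]
    exact congrArg (toUnit _ ≫ ·) (by rw [Subsingleton.elim (toUnit (𝟙_ _)) (𝟙 _), Category.id_comp])
  let hh := hker.lift g (toUnit _) hq
  have hhi : hh ≫ i = g := hker.lift_fst _ _ hq
  have h1 : g = 1 := by
    rw [← hhi, Groth.L08.P1Hom.const_line_torus k hT hh]
    simp only [Category.assoc]
    rw [hhi, hz, MonObj.comp_one]
  rw [hg] at h1
  exact mul_inv_eq_one.1 h1

end Groth.L19.SpecSub
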