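import Groth.Agent.L19.SpecSub.IsogenyTorus
import Groth.Agent.L08.Borel.OverField
import Groth.Agent.L08.Borel.CentralTorus
import Groth.Agent.L08.Borel.Borels
import Groth.Agent.S3899

/-!
# A connected affine group without connected unipotent subgroups is a torus
-/

set_option autoImplicit false
set_option backward.isDefEq.respectTransparency.types false
set_option linter.style.haveILetI false

universe u

open CategoryTheory CategoryTheory.Limits MonoidalCategory CartesianMonoidalCategory MonObj GrpObj AlgebraicGeometry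
open Groth.L08.Borel

noncomputable section

namespace Groth.L19.SpecSub

variable {k : Type u} [Field k] [IsAlgClosed k]

local notation "U₀" => 𝟙_ (Over (Spec (CommRingCat.of k)))

/-- over an algebraically closed field an element centralizing a Borel subgroup is central -/
theorem commutes_of_commutes_borelOver {G B T : Over (Spec (CommRingCat.of k))} [GrpObj G] [GrpObj B]
    [IsAffine G.left] [Smooth G.hom] [ConnectedSpace G.left] {iB : B ⟶ G} (hB : Red.IsBorelOver k iB) (g : T ⟶ G)
    (hg : ∀ (T' : Over (Spec (CommRingCat.of k))) (t : T' ⟶ T) (b : T' ⟶ B),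
      (t ≫ g) * (b ≫ iB) = (b ≫ iB) * (t ≫ g)) :
    ∀ (T' : Over (Spec (CommRingCat.of k))) (t : T' ⟶ T) (h : T' ⟶ G), (t ≫ g) * h = h * (t ≫ g) := by
  haveI := hB.1; haveI := hB.2.1; haveI := hB.2.2.1
  haveI : LocallyOfFiniteType G.hom := inferInstance
  haveI : QuasiCompact G.hom := quasiCompact_of_compactSpace _
  haveI : Mono iB := Over.mono_of_mono_left iB
  obtain ⟨X, a, o, hX⟩ := exists_isQuotient iB
  haveI : IsProper X.hom := Groth.Agent.S3899.result k G B iB hB X a o hX
  haveI : Smooth X.hom := Groth.Agent.S7993.result k G B X iB a o hX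
  haveI : IsReduced X.left := Groth.Agent.AV.isReduced_of_smooth_field X.hom
  haveI := hX.2.2.1
  haveI : ConnectedSpace X.left := (a.orbitMap o).left.surjective.connectedSpace (a.orbitMap o).left.continuous
  haveI : CompactSpace X.left := QuasiCompact.compactSpace_of_compactSpace X.hom
  let f : T ⊗ G ⟶ G := snd T G * (fst T G ≫ g) * (snd T G)⁻¹
  have hf : ∀ (W : Over (Spec (CommRingCat.of k))) (t : W ⟶ T) (x : W ⟶ G),
      lift t x ≫ f = x * (t ≫ g) * x⁻¹ := fun W t x => by
    simp only [f, MonObj.comp_mul, GrpObj.comp_inv, lift_snd, lift_fst_assoc]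
  have h := orbit_invariant_const hX (Groth.L08.FibreTranslate.bijective_appTop X o) f fun W t x y ⟨z, hz⟩ => by
    rw [hf, hf, show y = x * (z ≫ iB) by rw [hz, mul_inv_cancel_left]]
    rw [_root_.mul_assoc x (z ≫ iB) (t ≫ g), ← hg W t z]
    group
  intro T' t y
  have h1 := hf T' t y
  rw [h, ← Category.assoc, lift_fst, ← Category.assoc, comp_lift, Category.comp_id, MonObj.comp_one, hf] at h1
  rw [_root_.one_mul, _root_.inv_one, _root_.mul_one] at h1
  calc (t ≫ g) * y = (y * (t ≫ g) * y⁻¹) * y := by rw [← h1]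
    _ = y * (t ≫ g) := by group

/-- A connected affine group without non-trivial connected unipotent subgroups is a torus. -/
theorem isTorus_of_noUnip (G : Over (Spec (CommRingCat.of k))) [GrpObj G] [IsAffine G.left] [Smooth G.hom]
    [ConnectedSpace G.left]
    (h : ∀ (U : Over (Spec (CommRingCat.of k))) [GrpObj U] (i : U ⟶ G) [IsMonHom i], IsClosedImmersion i.left →
      Smooth U.hom → ConnectedSpace U.left → Red.HasNoSubtorus k U → Red.IsTrivialGrp U) :
    Red.IsTorus G := by
  haveI : LocallyOfFiniteType G.hom := inferInstance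
  haveI : QuasiCompact G.hom := quasiCompact_of_compactSpace _
  obtain ⟨B, gB, iB, hB⟩ := exists_borel G
  haveI := hB.1; haveI := hB.2.1; haveI := hB.2.2.1; haveI := hB.2.2.2.1
  haveI : IsAffine B.left := isAffine_of_isAffineHom iB.left
  haveI : Mono iB := Over.mono_of_mono_left iB
  haveI : LocallyOfFiniteType B.hom := inferInstance
  haveI : QuasiCompact B.hom := quasiCompact_of_compactSpace _
  obtain ⟨T, gT, iT, p, hiT, hiTm, hT, hp, hpT, -, habs, habsG⟩ := exists_absorbing_of_borel hB
  haveI := hiT; haveI := hiTm; haveI := hp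
  obtain ⟨hTa, hTs, hTc, -, -⟩ := torus_props hT
  haveI := hTa; haveI := hTs; haveI := hTc
  haveI : LocallyOfFiniteType T.hom := inferInstance
  -- the kernel of the retraction is finite
  obtain ⟨K, gK, κ, hκ, hκc, -, sq⟩ := Groth.L08.AbelianGrp.exists_kernel p
  haveI := hκ; haveI := hκc
  haveI : LocallyOfFiniteType K.hom := by rw [← Over.w κ]; infer_instance
  haveI : QuasiCompact K.hom := by rw [← Over.w κ]; infer_instance
  obtain ⟨C, gC, R, gR, c, j, hc, hcc, hj, hjc, -, -, hRs, hRc, hdim⟩ := exists_idComp K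
  let e : R ⟶ B := j ≫ c ≫ κ
  haveI : IsMonHom e := inferInstanceAs (IsMonHom (j ≫ c ≫ κ))
  haveI : IsClosedImmersion e.left := by rw [Over.comp_left, Over.comp_left]; infer_instance
  haveI : IsClosedImmersion (e ≫ iB).left := by rw [Over.comp_left]; infer_instance
  haveI : IsMonHom (e ≫ iB) := inferInstance
  have hRU : Red.HasNoSubtorus k R := by
    intro S gS s hs hsm hS
    haveI := hs; haveI := hsm
    obtain ⟨hSa, hSs, hSc, -, -⟩ := torus_props hS
    haveI : Mono e := Over.mono_of_mono_left e
    obtain ⟨g, f, hf⟩ := habs S (s ≫ e) hS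
    have hep : e ≫ p = 1 := by
      show (j ≫ c ≫ κ) ≫ p = 1
      rw [Category.assoc, Category.assoc, sq.w, ← Category.assoc, ← Category.assoc,
        toUnit_unique ((j ≫ c) ≫ toUnit K) (toUnit R), ← Hom.one_def]
    have hf1 : f = 1 := by
      have e1 := congrArg (fun z => z ≫ p) hf
      simp only [Category.assoc, hpT, Category.comp_id, conjBy_comp, MonObj.comp_one, hep] at e1
      rw [e1, AGF.conjBy, _root_.mul_one, mul_inv_cancel]
    rw [hf1, MonObj.one_comp] at hf
    have hse : s ≫ e = 1 := by
      have e2 := hf.symm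
      simp only [AGF.conjBy] at e2
      rw [mul_inv_eq_one, mul_eq_left] at e2
      exact e2
    have hs1 : s = 1 := by
      rw [← cancel_mono e, hse, MonObj.one_comp]
    have hSη : toUnit S ≫ η[S] = 𝟙 S := by
      rw [← cancel_mono s, Category.id_comp, Category.assoc, IsMonHom.one_hom, hs1, Hom.one_def]
    haveI : IsIso (η[S] : U₀ ⟶ S) := ⟨toUnit S, toUnit_unique _ _, hSη⟩
    haveI : IsIso (η[S] : U₀ ⟶ S).left := inferInstanceAs (IsIso ((Over.forget _).map η[S]))
    show IsIso S.hom
    have e' : (η[S] : U₀ ⟶ S).left ≫ S.hom = 𝟙 _ := Over.w _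
    rw [(IsIso.eq_inv_comp _).2 e']
    infer_instance
  haveI : IsIso R.hom := h R (e ≫ iB) inferInstance hRs hRc hRU
  haveI : IsFinite K.hom := by
    haveI : CompactSpace K.left := QuasiCompact.compactSpace_of_compactSpace K.hom
    haveI : IsLocallyNoetherian K.left := LocallyOfFiniteType.isLocallyNoetherian K.hom
    haveI : IsNoetherian K.left := ⟨⟩
    haveI : TopologicalSpace.NoetherianSpace K.left := inferInstance
    have h0 : topologicalKrullDim K.left ≤ 0 := by
      rw [← hdim, IsHomeomorph.topologicalKrullDim_eq _ (Scheme.homeoOfIso (asIso R.hom)).isHomeomorph]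
      haveI : Subsingleton (Spec (CommRingCat.of k)) := inferInstanceAs (Subsingleton (PrimeSpectrum k))
      exact topologicalKrullDim_zero_of_discreteTopology _
    obtain ⟨_, _⟩ := Groth.L06.Dim.discreteTopology_of_dim_le_zero (X := K.left) h0
    exact Groth.L21.CurveTop.isFinite_of_discrete K.hom
  haveI : IsFinite p.left := Groth.L18.GrpHomFinite.isFinite_of_kernel_finite p κ sq
  haveI : Surjective p.left := ⟨fun y => ⟨iT.left y, by
    rw [← Scheme.Hom.comp_apply, ← Over.comp_left, hpT]; rfl⟩⟩
  have hBT : Red.IsTorus B := (isTorus_iff_of_isogeny_closed p).2 hT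
  obtain ⟨-, -, -, -, hBcomm⟩ := torus_props hBT
  have hBc : ∀ (T' : Over (Spec (CommRingCat.of k))) (b : T' ⟶ B) (g : T' ⟶ G), (b ≫ iB) * g = g * (b ≫ iB) := by
    intro T' b g
    have := commutes_of_commutes_borelOver hB iB (fun T'' t b' => by
      rw [← MonObj.mul_comp, hBcomm T'' t b', MonObj.mul_comp]) T' b g
    exact this
  have hsolG : Red.IsSolvableGrp G := by
    refine isSolvableGrp_of_central_tori fun S gS s hs hsm hS t g => ?_
    haveI := hs; haveI := hsm
    obtain ⟨a, f, hf⟩ := habsG S s hS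
    have hs' : s = AGF.conjBy (a⁻¹) (f ≫ iT ≫ iB) := by
      rw [hf, conjBy_conjBy, inv_mul_cancel]
      simp [AGF.conjBy]
    have hc1 : ∀ (W : Over (Spec (CommRingCat.of k))) (x : W ⟶ S) (y : W ⟶ G), (x ≫ s) * y = y * (x ≫ s) := by
      intro W x y
      have e1 : AGF.conjBy (a⁻¹) (f ≫ iT ≫ iB) = f ≫ iT ≫ iB := by
        rw [AGF.conjBy, ← Category.assoc f, ← hBc, mul_inv_cancel_right]
      rw [hs', e1, ← Category.assoc f, ← Category.assoc x]
      exact hBc W _ y
    exact hc1 _ t g
  haveI : IsIso iB := hB.2.2.2.2.2 G (𝟙 G) iB (by rw [Over.id_left]; infer_instance) inferInstance inferInstance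
    hsolG (Category.comp_id _)
  exact Groth.L25.TorLift.isTorus_of_iso (Grp.mkIso' (asIso iB)) hBT

end Groth.L19.SpecSub
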