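import Groth.Agent.L19.SpecSub.SabPow
import Groth.Agent.L26.AV.Degree

/-!
# Torsion of semiabelian varieties
-/

set_option autoImplicit false
set_option backward.isDefEq.respectTransparency.types false
set_option linter.style.haveILetI false
set_option linter.unusedSectionVars false

universe u

open CategoryTheory CategoryTheory.Limits MonoidalCategory CartesianMonoidalCategory MonObj GrpObj AlgebraicGeometry

noncomputable section

namespace Groth.L19.SpecSub

variable {k : Type u} [Field k]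

/-- An abelian variety on which a nontrivial power map is an isomorphism is trivial. -/
theorem isIso_unit_proper_of_pow [IsAlgClosed k] (A : Over (Spec (CommRingCat.of k))) [GrpObj A] [IsProper A.hom]
    [Smooth A.hom] [ConnectedSpace ↥A.left] (n : ℕ) (hn : 2 ≤ n) (h : IsIso ((𝟙 A : A ⟶ A) ^ n)) : IsIso η[A] := by
  haveI : GeometricallyReduced A.hom := Groth.Agent.AV.geometricallyReduced_of_smooth A.hom
  haveI : GeometricallyIntegral A.hom := Groth.Agent.AV.geometricallyIntegral_of_connected A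
  obtain ⟨g, -, hg⟩ := Groth.L08.GrpDim.exists_dim (G := A)
  haveI : IsIso ((𝟙 A : A ⟶ A) ^ n).left := inferInstanceAs (IsIso ((Over.forget _).map ((𝟙 A : A ⟶ A) ^ n)))
  have h1 := Groth.Agent.AV.Degree.finrank_pow (A := A) (n := n) (by omega) hg (η[A].left (IsLocalRing.closedPoint k))
  rw [Scheme.Hom.finrank_eq_one_of_isIso] at h1
  have hg0 : g = 0 := by
    by_contra hg0
    have h2 : 1 < n ^ (2 * g) := Nat.one_lt_pow (by omega) (by omega)
    rw [← h1] at h2
    exact lt_irrefl _ h2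
  subst hg0
  haveI : CompactSpace ↥A.left := QuasiCompact.compactSpace_of_compactSpace A.hom
  haveI : IsLocallyNoetherian A.left := LocallyOfFiniteType.isLocallyNoetherian A.hom
  haveI : IsNoetherian A.left := ⟨⟩
  haveI : TopologicalSpace.NoetherianSpace ↥A.left := inferInstance
  obtain ⟨_, _⟩ := Groth.L06.Dim.discreteTopology_of_dim_le_zero (X := ↥A.left) (by rw [hg]; rfl)
  haveI : Subsingleton ↥A.left := PreconnectedSpace.trivial_of_discrete
  exact isIso_unit_of_surjective_one ⟨fun a => ⟨a, Subsingleton.elim _ _⟩⟩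

/-- A torus on which a nontrivial power map is an isomorphism is trivial. -/
theorem isIso_unit_torus_of_pow [IsAlgClosed k] {T : Over (Spec (CommRingCat.of k))} [GrpObj T] (hT : Red.IsTorus T)
    (n : ℕ) (hn : 2 ≤ n) (h : IsIso ((𝟙 T : T ⟶ T) ^ n)) : IsIso η[T] := by
  obtain ⟨r, ⟨E⟩⟩ := Groth.L08.Borel.exists_laurent_of_torus hT
  let A := MonoidAlgebra k (Multiplicative (Fin r → ℤ))
  let e : T ≅ CoactBr.sp k A := (Grp.forget _).mapIso E
  haveI : IsMonHom e.hom := E.hom.hom.isMonHom_hom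
  have he : (𝟙 (CoactBr.sp k A) : _ ⟶ _) ^ n = e.inv ≫ ((𝟙 T : T ⟶ T) ^ n) ≫ e.hom := by
    rw [MonObj.pow_comp, Category.id_comp, MonObj.comp_pow, Iso.inv_hom_id]
  have hiso : IsIso ((𝟙 (CoactBr.sp k A) : _ ⟶ _) ^ n) := by rw [he]; infer_instance
  rw [Groth.L19.AlgGrpBasic.pow_pt_monoidAlgebra] at hiso
  let φ : A →ₐ[k] A :=
    MonoidAlgebra.mapDomainAlgHom k k (powMonoidHom n : Multiplicative (Fin r → ℤ) →* Multiplicative (Fin r → ℤ))
  haveI : IsIso (Spec.map (CommRingCat.ofHom φ.toRingHom)) :=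
    inferInstanceAs (IsIso ((Over.forget _).map (CoactBr.pt φ)))
  have hbij : Function.Bijective φ := by
    haveI : IsIso (Scheme.Spec.map (CommRingCat.ofHom φ.toRingHom).op) :=
      ‹IsIso (Spec.map (CommRingCat.ofHom φ.toRingHom))›
    haveI : IsIso (CommRingCat.ofHom φ.toRingHom).op := isIso_of_reflects_iso _ Scheme.Spec
    haveI : IsIso (CommRingCat.ofHom φ.toRingHom) := isIso_of_op _
    exact ConcreteCategory.bijective_of_isIso (CommRingCat.ofHom φ.toRingHom)
  have hr : r = 0 := by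
    by_contra hr
    let m : Multiplicative (Fin r → ℤ) := Multiplicative.ofAdd (fun _ => (1 : ℤ))
    obtain ⟨y, hy⟩ := hbij.2 (MonoidAlgebra.single m 1)
    have hm : (MonoidAlgebra.single m (1 : k) : A).coeff m ≠ 0 := by simp
    rw [← hy] at hm
    by_cases hex : ∃ z, powMonoidHom n z = m
    · obtain ⟨z, hz⟩ := hex
      have h1 : n • z.toAdd ⟨0, Nat.pos_of_ne_zero hr⟩ = (1 : ℤ) :=
        congrFun (congrArg Multiplicative.toAdd hz) ⟨0, Nat.pos_of_ne_zero hr⟩
      rw [nsmul_eq_mul] at h1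
      have h2 : (n : ℤ) ∣ 1 := ⟨_, h1.symm⟩
      have := Int.eq_one_of_dvd_one (by omega) h2
      omega
    · apply hm
      simp only [φ, MonoidAlgebra.mapDomainAlgHom_apply, MonoidAlgebra.coeff_mapDomain]
      exact Finsupp.mapDomain_notin_range _ _ (fun ⟨z, hz⟩ => hex ⟨z, hz⟩)
  subst hr
  let e2 : T ≅ Red.DS (Spec (CommRingCat.of k)) (Fin 0 → ℤ) :=
    (Grp.forget _).mapIso (E ≪≫ (Groth.L25.Bridge.dsIso k (Fin 0 → ℤ)).symm)
  have hsub : ∀ (X : Over (Spec (CommRingCat.of k))) (a b : X ⟶ T), a = b := fun X a b => by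
    rw [← cancel_mono e2.hom]
    refine Groth.L25.DSPts.char_injective (MonoidHom.ext fun x => ?_)
    rw [show x = 1 from Subsingleton.elim _ _, map_one, map_one]
  exact ⟨toUnit T, toUnit_unique _ _, hsub _ _ _⟩

/-- A semiabelian variety over an algebraically closed field with trivial `n`-torsion is trivial. -/
theorem IsSemiab.isIso_unit_of_mono_pow [IsAlgClosed k] {S : Over (Spec (CommRingCat.of k))} [GrpObj S]
    [LocallyOfFiniteType S.hom] [QuasiCompact S.hom] (h : IsSemiab S) (n : ℕ) (hn : 2 ≤ n)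
    (hmono : Mono ((𝟙 S : S ⟶ S) ^ n)) : IsIso η[S] := by
  haveI := h.smooth
  haveI := h.comm
  haveI : Surjective ((𝟙 S : S ⟶ S) ^ n).left := h.surjective_pow n (by omega)
  haveI : IsReduced S.left := Groth.Agent.AV.isReduced_of_smooth_field S.hom
  haveI : IsMonHom ((𝟙 S : S ⟶ S) ^ n) := Groth.Agent.AV.Isogeny.isMonHom_pow n
  haveI : Flat ((𝟙 S : S ⟶ S) ^ n).left := Groth.L08.FlatHom.flat_of_surjective S S _
  haveI : LocallyOfFinitePresentation ((𝟙 S : S ⟶ S) ^ n).left := lfp_hom_field _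
  haveI := hmono
  obtain ⟨u, hu⟩ := Groth.L08.AffHull.exists_desc_cover ((𝟙 S : S ⟶ S) ^ n) (𝟙 S) (fun a b hab => by
    rw [Category.comp_id, Category.comp_id]; exact (cancel_mono _).1 hab)
  have hu2 : u ≫ ((𝟙 S : S ⟶ S) ^ n) = 𝟙 S := by
    haveI : Epi ((𝟙 S : S ⟶ S) ^ n) := Groth.L08.GQuot.epi_of_cover _
    rw [← cancel_epi ((𝟙 S : S ⟶ S) ^ n), reassoc_of% hu, Category.comp_id]
  obtain ⟨T, _, i, A, _, q, hi, hic, hT, hq, hqs, hqf, hkq, hAp, hAs, hAc⟩ := h
  haveI := hi; haveI := hic; haveI := hq; haveI := hqs; haveI := hqf; haveI := hAp; haveI := hAs; haveI := hAc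
  obtain ⟨-, hTs, -, -, -⟩ := Groth.L08.Borel.torus_props hT
  haveI := hTs
  haveI : Mono i := (Over.forget _).mono_of_mono_map (inferInstanceAs (Mono i.left))
  haveI : IsReduced T.left := Groth.Agent.AV.isReduced_of_smooth_field T.hom
  have hmT : Mono ((𝟙 T : T ⟶ T) ^ n) := ⟨fun a b hab => by
    rw [← cancel_mono i, ← cancel_mono ((𝟙 S : S ⟶ S) ^ n)]
    have h1 := congrArg (· ≫ i) hab
    simpa [MonObj.comp_pow, MonObj.pow_comp] using h1⟩
  haveI := surjective_pow_torus hT n (by omega)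
  haveI : IsCommMonObj T := ⟨by
    rw [← cancel_mono i, Category.assoc, IsMonHom.mul_hom i, ← Category.assoc, ← BraidedCategory.braiding_naturality,
      Category.assoc, IsCommMonObj.mul_comm]⟩
  haveI : IsMonHom ((𝟙 T : T ⟶ T) ^ n) := Groth.Agent.AV.Isogeny.isMonHom_pow n
  haveI : Flat ((𝟙 T : T ⟶ T) ^ n).left := Groth.L08.FlatHom.flat_of_surjective T T _
  haveI : LocallyOfFinitePresentation ((𝟙 T : T ⟶ T) ^ n).left := lfp_hom_field _
  haveI := hmT
  obtain ⟨uT, huT⟩ := Groth.L08.AffHull.exists_desc_cover ((𝟙 T : T ⟶ T) ^ n) (𝟙 T) (fun a b hab => by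
    rw [Category.comp_id, Category.comp_id]; exact (cancel_mono _).1 hab)
  have huT2 : uT ≫ ((𝟙 T : T ⟶ T) ^ n) = 𝟙 T := by
    haveI : Epi ((𝟙 T : T ⟶ T) ^ n) := Groth.L08.GQuot.epi_of_cover _
    rw [← cancel_epi ((𝟙 T : T ⟶ T) ^ n), reassoc_of% huT, Category.comp_id]
  haveI : IsIso η[T] := isIso_unit_torus_of_pow hT n hn ⟨uT, huT, huT2⟩
  let l := hkq.lift 1 (toUnit S) (by rw [MonObj.one_comp, Hom.one_def])
  haveI : LocallyOfFinitePresentation q.left := lfp_hom_field q
  haveI : Epi q := Groth.L08.GQuot.epi_of_cover q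
  have hi1 : i = 1 := by rw [← Category.id_comp i, eq_one_of_isIso_unit (𝟙 T), MonObj.one_comp]
  haveI : Mono q := Groth.L08.AbelianGrp.mono_of_kernel q i hkq hi1
  haveI : IsMonHom q := hq
  obtain ⟨qi, hqi⟩ := Groth.L08.AffHull.exists_desc_cover q (𝟙 S) (fun a b hab => by
    rw [Category.comp_id, Category.comp_id]; exact (cancel_mono q).1 hab)
  have hqi2 : qi ≫ q = 𝟙 A := by rw [← cancel_epi q, reassoc_of% hqi, Category.comp_id]
  have hq' : ((𝟙 S : S ⟶ S) ^ n) ≫ q = q ≫ ((𝟙 A : A ⟶ A) ^ n) := by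
    rw [MonObj.pow_comp, Category.id_comp, MonObj.comp_pow, Category.comp_id]
  have hAn : (𝟙 A : A ⟶ A) ^ n = qi ≫ ((𝟙 S : S ⟶ S) ^ n) ≫ q := by
    rw [hq', reassoc_of% hqi2]
  haveI : IsIso q := ⟨qi, hqi, hqi2⟩
  haveI : IsIso qi := ⟨q, hqi2, hqi⟩
  haveI : IsIso ((𝟙 S : S ⟶ S) ^ n) := ⟨u, hu, hu2⟩
  haveI : IsIso η[A] := isIso_unit_proper_of_pow A n hn (by rw [hAn]; infer_instance)
  rw [show η[S] = η[A] ≫ qi from by rw [← IsMonHom.one_hom q, Category.assoc, hqi, Category.comp_id]]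
  infer_instance

/-- A subgroup of a semiabelian variety with trivial `n`-torsion is finite. -/
theorem IsSemiab.isFinite_of_mono_pow {S K : Over (Spec (CommRingCat.of k))} [GrpObj S] [GrpObj K]
    [LocallyOfFiniteType S.hom] [QuasiCompact S.hom] (h : IsSemiab S) (e : K ⟶ S) [IsMonHom e]
    [IsClosedImmersion e.left] (n : ℕ) (hn : 2 ≤ n) (hK : Mono ((𝟙 K : K ⟶ K) ^ n)) : IsFinite K.hom := by
  let Ω := AlgebraicClosure k
  let t := AbVar.ext k Ω
  haveI : LocallyOfFiniteType K.hom := by rw [← Over.w e]; infer_instance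
  haveI : QuasiCompact K.hom := by rw [← Over.w e]; infer_instance
  haveI : LocallyOfFiniteType (gbc K).hom := MorphismProperty.pullback_snd _ _ ‹LocallyOfFiniteType K.hom›
  haveI := qc_gbc K
  haveI : IsClosedImmersion ((Over.pullback t).map e).left :=
    MorphismProperty.of_isPullback (P := @IsClosedImmersion) (Groth.L08.Albanese.isPullback_bc_map (K := Ω) e).flip ‹_›
  haveI : Mono ((Over.pullback t).map e) :=
    (Over.forget _).mono_of_mono_map (inferInstanceAs (Mono ((Over.pullback t).map e).left))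
  refine Groth.L08.ChevPerf.descends (K := Ω) @IsFinite K ?_
  show IsFinite (gbc K).hom
  obtain ⟨C, gC, R, gR, c, j, hc, hcc, hj, hjc, -, -, hRs, hRc, hRd⟩ := exists_idComp (gbc K)
  haveI := hc; haveI := hcc; haveI := hj; haveI := hjc; haveI := hRs; haveI := hRc
  haveI : IsClosedImmersion (j ≫ c).left := by rw [Over.comp_left]; infer_instance
  haveI : Mono (j ≫ c) := (Over.forget _).mono_of_mono_map (inferInstanceAs (Mono (j ≫ c).left))
  haveI : LocallyOfFiniteType R.hom := inferInstance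
  haveI : QuasiCompact R.hom := by rw [← Over.w (j ≫ c)]; infer_instance
  have hR : IsSemiab R :=
    isSemiab_of_lineConst (((h.bc Ω).lineConst.of_mono ((Over.pullback t).map e)).of_mono (j ≫ c))
  haveI hK' : Mono ((𝟙 (gbc K) : _ ⟶ _) ^ n) := by
    rw [← map_pow_gbc]
    haveI := hK
    infer_instance
  have hR1 : Mono ((𝟙 R : R ⟶ R) ^ n) := ⟨fun a b hab => by
    rw [← cancel_mono (j ≫ c), ← cancel_mono ((𝟙 (gbc K) : _ ⟶ _) ^ n)]
    have h1 := congrArg (· ≫ j ≫ c) hab
    simpa [MonObj.comp_pow, MonObj.pow_comp] using h1⟩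
  haveI := hR.isIso_unit_of_mono_pow n hn hR1
  haveI : IsIso η[R].left := inferInstanceAs (IsIso ((Over.forget _).map η[R]))
  haveI : Subsingleton ↥R.left := by
    refine ⟨fun a b => ?_⟩
    obtain ⟨x, rfl⟩ := η[R].left.surjective a
    obtain ⟨y, rfl⟩ := η[R].left.surjective b
    exact congrArg η[R].left (Subsingleton.elim (α := PrimeSpectrum Ω) _ _)
  have hd0 : topologicalKrullDim (gbc K).left ≤ 0 := by
    rw [← hRd]; exact topologicalKrullDim_zero_of_discreteTopology _
  haveI : CompactSpace ↥(gbc K).left := QuasiCompact.compactSpace_of_compactSpace (gbc K).hom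
  haveI : IsLocallyNoetherian (gbc K).left := LocallyOfFiniteType.isLocallyNoetherian (gbc K).hom
  haveI : IsNoetherian (gbc K).left := ⟨⟩
  haveI : TopologicalSpace.NoetherianSpace ↥(gbc K).left := inferInstance
  obtain ⟨_, _⟩ := Groth.L06.Dim.discreteTopology_of_dim_le_zero (X := ↥(gbc K).left) hd0
  exact Groth.L21.CurveTop.isFinite_of_discrete (gbc K).hom

end Groth.L19.SpecSub
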