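import Groth.Agent.L19.SpecSub.IsogenyTorus
import Groth.Agent.L25.MaxTorus.Factor
import Groth.Agent.L25.MultSub.Main
import Groth.Agent.L08.Borel.CentBorel
import Groth.Agent.L08.Borel.Weyl
import Groth.Agent.L08.SubgroupObj
import Groth.Agent.L19.SpecSub.Props

/-!
# Maximal tori of normal subgroups
-/

set_option autoImplicit false
set_option backward.isDefEq.respectTransparency.types false
set_option linter.style.haveILetI false

universe u

open CategoryTheory CategoryTheory.Limits MonoidalCategory CartesianMonoidalCategory MonObj GrpObj AlgebraicGeometry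
open Groth.L08.Borel

noncomputable section

namespace Groth.L19.SpecSub

variable {k : Type u} [Field k]

theorem isClosedImmersion_of_torus {T G : Over (Spec (CommRingCat.of k))} [GrpObj T] [GrpObj G]
    [LocallyOfFiniteType G.hom] (hT : Red.IsTorus T) (i : T ⟶ G) [IsMonHom i] [Mono i] [IsSeparated G.hom] :
    IsClosedImmersion i.left := by
  obtain ⟨hTs, hTc⟩ := Groth.L25.Locus.smooth_connected_torus hT
  haveI : IsAffineHom T.hom := Groth.L25.Central.isAffineHom_of_multTypeFT (Groth.L25.Locus.isMultTypeFT_of_isTorus hT)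
  haveI : IsAffine T.left := isAffine_of_isAffineHom T.hom
  haveI : LocallyOfFiniteType T.hom := by haveI := hTs; infer_instance
  haveI : QuasiCompact T.hom := quasiCompact_of_compactSpace _
  haveI : Mono i.left := inferInstanceAs (Mono ((Over.forget _).map i))
  haveI : QuasiCompact i.left := by
    haveI : QuasiCompact (i.left ≫ G.hom) := by rw [Over.w i]; infer_instance
    exact QuasiCompact.of_comp i.left G.hom
  exact Groth.L08.MonoClosed.isClosedImmersion_of_field i

/-- a monomorphism between tori with one in the other direction is an isomorphism -/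
theorem isIso_of_mono_tori {A B : Over (Spec (CommRingCat.of k))} [GrpObj A] [GrpObj B] (hA : Red.IsTorus A)
    (hB : Red.IsTorus B) (f : A ⟶ B) [IsMonHom f] [Mono f] (φ : B ⟶ A) [IsMonHom φ] [Mono φ] : IsIso f := by
  obtain ⟨hAs, hAc⟩ := Groth.L25.Locus.smooth_connected_torus hA
  obtain ⟨hBs, hBc⟩ := Groth.L25.Locus.smooth_connected_torus hB
  haveI := hAs; haveI := hBs
  haveI : IsAffineHom A.hom := Groth.L25.Central.isAffineHom_of_multTypeFT (Groth.L25.Locus.isMultTypeFT_of_isTorus hA)
  haveI : IsAffineHom B.hom := Groth.L25.Central.isAffineHom_of_multTypeFT (Groth.L25.Locus.isMultTypeFT_of_isTorus hB)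
  haveI := hBc
  haveI : LocallyOfFiniteType A.hom := inferInstance
  haveI : LocallyOfFiniteType B.hom := inferInstance
  haveI := isClosedImmersion_of_torus hA f
  haveI := isClosedImmersion_of_torus hB φ
  refine Groth.L19.AlgGrpBasic.isIso_of_dim_eq f (le_antisymm ?_ ?_)
  · exact f.left.isEmbedding.isInducing.topologicalKrullDim_le
  · exact φ.left.isEmbedding.isInducing.topologicalKrullDim_le

/-- a maximal torus contains a maximal torus of every normal smooth closed subgroup -/
theorem exists_maxTorus_normal {G N T : Over (Spec (CommRingCat.of k))} [GrpObj G] [GrpObj N] [GrpObj T]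
    [IsAffine G.left] [Smooth G.hom] [ConnectedSpace G.left] (iN : N ⟶ G) [IsMonHom iN] [IsClosedImmersion iN.left]
    (hnorm : AlgGrp.IsNormalHom iN) (iT : T ⟶ G) (hT : Red.IsMaximalTorus iT) :
    ∃ (T' : Over (Spec (CommRingCat.of k))) (_ : GrpObj T') (j : T' ⟶ N) (t : T' ⟶ T),
      Red.IsMaximalTorus j ∧ t ≫ iT = j ≫ iN := by
  haveI := hT.1; haveI := hT.2.1
  haveI : LocallyOfFiniteType G.hom := inferInstance
  haveI : QuasiCompact G.hom := quasiCompact_of_compactSpace _
  haveI := isClosedImmersion_of_torus hT.2.2.1 iT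
  haveI : Mono iN := Over.mono_of_mono_left iN
  -- the intersection
  let I := pullback iT iN
  let p : I ⟶ T := pullback.fst iT iN
  let q : I ⟶ N := pullback.snd iT iN
  have sq : IsPullback p q iT iN := IsPullback.of_hasPullback iT iN
  haveI : IsClosedImmersion p.left :=
    MorphismProperty.of_isPullback (P := @IsClosedImmersion) (sq.map (Over.forget _)).flip ‹IsClosedImmersion iN.left›
  haveI : Mono p := Over.mono_of_mono_left p
  obtain ⟨gI, hp⟩ := Groth.L08.exists_grpObj_of_mono p
    ⟨sq.lift η[T] η[N] (by rw [IsMonHom.one_hom, IsMonHom.one_hom]), sq.lift_fst _ _ _⟩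
    ⟨sq.lift ((fst I I ≫ p) * (snd I I ≫ p)) ((fst I I ≫ q) * (snd I I ≫ q)) (by
      simp only [MonObj.mul_comp, Category.assoc, sq.w]), sq.lift_fst _ _ _⟩
    ⟨sq.lift p⁻¹ q⁻¹ (by rw [GrpObj.inv_comp, GrpObj.inv_comp, sq.w]), sq.lift_fst _ _ _⟩
  haveI := hp
  haveI : IsMonHom q := by
    haveI : IsMonHom (p ≫ iT) := inferInstance
    exact isMonHom_of_comp_mono q iN (p ≫ iT) sq.w.symm
  haveI : LocallyOfFiniteType T.hom := by rw [← Over.w iT]; infer_instance
  haveI : LocallyOfFiniteType I.hom := by rw [← Over.w p]; infer_instance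
  haveI : IsLocallyNoetherian (Spec (CommRingCat.of k)) := inferInstance
  have hI : SGA3x.IsMultTypeFT I := Groth.L25.MultSub.isMultTypeFT_of_closed I T
    (Groth.L25.Locus.isMultTypeFT_of_isTorus hT.2.2.1) p inferInstance inferInstance inferInstance
  obtain ⟨T', gT', j, hj, -⟩ := Groth.L25.MaxTorus.exists_maximalTorus hI
  haveI := hj.1; haveI := hj.2.1
  haveI : Mono q := ⟨fun a b e => sq.hom_ext (by
    rw [← cancel_mono iT, Category.assoc, Category.assoc, sq.w, reassoc_of% e]) e⟩
  refine ⟨T', gT', j ≫ q, j ≫ p, ⟨inferInstance, mono_comp _ _, hj.2.2.1, ?_⟩, by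
    rw [Category.assoc, Category.assoc, sq.w]⟩
  intro s T'' gT'' j'' hj'' hjm'' f hT'' hf
  let θ := Red.geomPt s
  let F := Over.pullback θ
  haveI : Smooth (Red.geomFibre s G).hom := Groth.L08.Borel.smooth_bc θ G
  haveI : QuasiCompact (Red.geomFibre s G).hom := MorphismProperty.pullback_snd _ _ ‹QuasiCompact G.hom›
  haveI : ConnectedSpace (Red.geomFibre s G).left := Groth.L08.Borel.connectedSpace_bc' θ G
  haveI : IsMonHom (F.map iN) := Groth.L25.MonoClosed.isMonHom_pullbackMap _ _
  haveI : Mono (F.map iN) := Functor.map_mono _ _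
  haveI : IsMonHom (F.map (j ≫ q)) := Groth.L25.MonoClosed.isMonHom_pullbackMap _ _
  haveI : IsMonHom (F.map (j ≫ p)) := Groth.L25.MonoClosed.isMonHom_pullbackMap _ _
  haveI : Mono (F.map (j ≫ q)) := Functor.map_mono _ _
  let j₀ : T'' ⟶ Red.geomFibre s G := j'' ≫ F.map iN
  haveI : IsMonHom j₀ := inferInstanceAs (IsMonHom (j'' ≫ F.map iN))
  haveI : Mono j₀ := mono_comp _ _
  obtain ⟨g, x, hx⟩ := maxTorus_absorbing_gen (isMaxTorus_geomFibre hT s) T'' j₀ hT''
  -- the conjugate lies in the normal subgroup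
  obtain ⟨y, hy⟩ := isNormalHom_bc θ iN hnorm T'' (toUnit T'' ≫ g) j''
  have hy' : y ≫ F.map iN = AGF.conjBy g j₀ := hy.symm
  have sq' : IsPullback (F.map p) (F.map q) (F.map iT) (F.map iN) := sq.map F
  obtain ⟨z, hz1, hz2⟩ := sq'.exists_lift x y (by rw [hx, hy'])
  haveI : IsMonHom (F.map p) := Groth.L25.MonoClosed.isMonHom_pullbackMap _ _
  haveI : Mono (F.map p) := Functor.map_mono _ _
  haveI : IsMonHom (F.map iT) := Groth.L25.MonoClosed.isMonHom_pullbackMap _ _
  haveI : Mono (F.map iT) := Functor.map_mono _ _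
  haveI := isMonHom_conjBy g j₀
  haveI := mono_conjBy g j₀
  haveI : IsMonHom x := isMonHom_of_comp_mono x (F.map iT) (AGF.conjBy g j₀) hx
  haveI : IsMonHom z := isMonHom_of_comp_mono z (F.map p) x hz1
  haveI : Mono (x ≫ F.map iT) := hx ▸ ‹Mono (AGF.conjBy g j₀)›
  haveI : Mono x := mono_of_mono x (F.map iT)
  haveI : Mono (z ≫ F.map p) := hz1 ▸ ‹Mono x›
  haveI : Mono z := mono_of_mono z (F.map p)
  -- tori of the intersection factor through its maximal torus
  haveI : IsMonHom (F.map j) := Groth.L25.MonoClosed.isMonHom_pullbackMap _ _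
  haveI : Mono (F.map j) := Functor.map_mono _ _
  obtain ⟨M, gM, m, hm, habs⟩ := Groth.L25.MaxTorus.exists_maximalTorus
    (Groth.L25.MultTypeBC.isMultTypeFT_bc hI θ)
  haveI := hm.1; haveI := hm.2.1
  obtain ⟨a, ha⟩ := habs (Red.geomFibre s T') (F.map j) (Groth.L25.Locus.isTorus_bc hj.2.2.1 θ)
  haveI : IsMonHom a := isMonHom_of_comp_mono a m (F.map j) ha
  haveI : IsIso a := hj.2.2.2 s M m a hm.2.2.1 ha
  obtain ⟨b, hb⟩ := habs T'' z hT''
  haveI : IsMonHom b := isMonHom_of_comp_mono b m z hb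
  haveI : Mono (b ≫ m) := hb ▸ ‹Mono z›
  haveI : Mono b := mono_of_mono b m
  let φ : T'' ⟶ Red.geomFibre s T' := b ≫ CategoryTheory.inv a
  haveI : IsMonHom (CategoryTheory.inv a) := inferInstanceAs (IsMonHom (asIso a).inv)
  haveI : IsMonHom φ := inferInstanceAs (IsMonHom (b ≫ CategoryTheory.inv a))
  haveI : Mono φ := mono_comp _ _
  haveI : IsMonHom f := isMonHom_of_comp_mono f j'' (F.map (j ≫ q)) hf
  haveI : Mono (f ≫ j'') := by rw [hf]; infer_instance
  haveI : Mono f := mono_of_mono f j''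
  exact isIso_of_mono_tori (Groth.L25.Locus.isTorus_bc hj.2.2.1 θ) hT'' f φ

end Groth.L19.SpecSub
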