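import Groth.Agent.L19.SpecSub.CommTorus
import Groth.Agent.L19.SpecSub.MaxTorusNormal
import Groth.Agent.L08.Centre.Basic
import Groth.Agent.L25.SplitSub.Quot

/-!
# The largest central torus and field extensions
-/

set_option autoImplicit false
set_option backward.isDefEq.respectTransparency.types false
set_option linter.style.haveILetI false

universe u

open CategoryTheory CategoryTheory.Limits MonoidalCategory CartesianMonoidalCategory MonObj GrpObj AlgebraicGeometry

noncomputable section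

namespace Groth.L19.SpecSub

theorem exists_maximalTorus_comm {k : Type u} [Field k] (C : Over (Spec (CommRingCat.of k))) [GrpObj C]
    [LocallyOfFiniteType C.hom] [QuasiCompact C.hom]
    (hC : ∀ (X : Over (Spec (CommRingCat.of k))) (a b : X ⟶ C), a * b = b * a) :
    ∃ (T : Over (Spec (CommRingCat.of k))) (_ : GrpObj T) (i : T ⟶ C), Red.IsMaximalTorus i := by
  haveI : LocallyOfFinitePresentation C.hom := inferInstance
  haveI : IsSeparated C.hom := Groth.Agent.AV.isSeparated_of_grpObj C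
  let θL := Spec.map (CommRingCat.ofHom (algebraMap k (AlgebraicClosure k)))
  haveI := (Groth.L24.TorusField.flat_θL (k := k)).1
  haveI := (Groth.L24.TorusField.flat_θL (k := k)).2
  haveI : LocallyOfFiniteType (Red.bc θL C).hom := inferInstanceAs (LocallyOfFiniteType (pullback.snd C.hom θL))
  haveI : QuasiCompact (Red.bc θL C).hom := inferInstanceAs (QuasiCompact (pullback.snd C.hom θL))
  obtain ⟨T₁, g₁, i₁, h₁⟩ := Groth.L24.TorusField.exists_isMaxTorus_general (Red.bc θL C)
  obtain ⟨T₂, g₂, i₂, h₂, -⟩ := Groth.L08.Borel.exists_central_maximalTorus_desc (π := θL)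
    (Groth.L24.TorusField.cover_θL (k := k)) (Groth.L08.Borel.isMaximalTorus_of_isMaxTorus h₁)
    (fun X t g => comm_bc θL hC X _ _)
  exact ⟨T₂, g₂, i₂, h₂⟩

/-- centrality in a base change gives centrality of the adjoint point -/
theorem toBase_central {S S' : Scheme.{u}} (θ : S' ⟶ S) {G : Over S} [GrpObj G] {T' : Over S'}
    (j' : T' ⟶ Red.bc θ G)
    (hc : ∀ (X : Over S') (t : X ⟶ T') (g : X ⟶ Red.bc θ G), (t ≫ j') * g = g * (t ≫ j'))
    (X : Over S) (e : X ⟶ Over.mk (T'.hom ≫ θ)) (h : X ⟶ G) :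
    (e ≫ Groth.L25.NilAction.toBase θ j') * h = h * (e ≫ Groth.L25.NilAction.toBase θ j') := by
  let Y : Over S' := Over.mk (e.left ≫ T'.hom)
  have he : e.left ≫ T'.hom ≫ θ = X.hom := Over.w e
  let t : Y ⟶ T' := Over.homMk e.left rfl
  let u : Over.mk (Y.hom ≫ θ) ⟶ X := Over.homMk (𝟙 X.left) (by simp [Y, he])
  haveI : IsIso u.left := inferInstanceAs (IsIso (𝟙 X.left))
  haveI : IsIso ((Over.forget S).map u) := ‹IsIso u.left›
  haveI : IsIso u := isIso_of_reflects_iso u (Over.forget S)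
  have e1 : Groth.L25.NilAction.toBase θ (t ≫ j') = u ≫ e ≫ Groth.L25.NilAction.toBase θ j' :=
    Over.OverMorphism.ext (by simp [Groth.L25.NilAction.toBase, t, u]; exact (Category.id_comp _).symm)
  have h1 := congrArg (Groth.L25.NilAction.toBase θ) (hc Y t (Groth.L25.NilAction.ofBase θ (u ≫ h)))
  rw [Groth.L25.NilAction.toBase_mul, Groth.L25.NilAction.toBase_mul, Groth.L25.NilAction.toBase_ofBase, e1,
    ← MonObj.comp_mul, ← MonObj.comp_mul] at h1
  exact (cancel_epi u).1 h1

/-- the largest central torus is stable under extensions of the base field -/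
theorem maxCentralTorus_bc {k K : Type u} [Field k] [Field K] (θ : Spec (CommRingCat.of K) ⟶ Spec (CommRingCat.of k))
    (G : Over (Spec (CommRingCat.of k))) [GrpObj G] [IsAffine G.left] [Smooth G.hom]
    (Z : Over (Spec (CommRingCat.of k))) [GrpObj Z] (iZ : Z ⟶ G) [IsMonHom iZ] (hci : IsClosedImmersion iZ.left)
    (hZt : Red.IsTorus Z)
    (hZc : ∀ (X : Over (Spec (CommRingCat.of k))) (t : X ⟶ Z) (g : X ⟶ G), (t ≫ iZ) * g = g * (t ≫ iZ))
    (hZmax : ∀ (T : Over (Spec (CommRingCat.of k))) [GrpObj T] (j : T ⟶ G) [IsMonHom j], IsClosedImmersion j.left →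
      Red.IsTorus T →
      (∀ (X : Over (Spec (CommRingCat.of k))) (t : X ⟶ T) (g : X ⟶ G), (t ≫ j) * g = g * (t ≫ j)) →
      ∃ m : T ⟶ Z, m ≫ iZ = j)
    (T' : Over (Spec (CommRingCat.of K))) [GrpObj T'] (j' : T' ⟶ Red.bc θ G) [IsMonHom j']
    (hT' : Red.IsTorus T')
    (hT'c : ∀ (X : Over (Spec (CommRingCat.of K))) (t : X ⟶ T') (g : X ⟶ Red.bc θ G), (t ≫ j') * g = g * (t ≫ j')) :
    ∃ m : T' ⟶ Red.bc θ Z, m ≫ (Over.pullback θ).map iZ = j' := by
  haveI : LocallyOfFiniteType G.hom := inferInstance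
  haveI : QuasiCompact G.hom := quasiCompact_of_compactSpace _
  haveI : IsSeparated G.hom := Groth.Agent.AV.isSeparated_of_grpObj G
  obtain ⟨C, gC, i, hi, hicl, hiC⟩ := Groth.L08.Centre.exists_centre G
  haveI := hi; haveI := hicl
  haveI : Mono i := Over.mono_of_mono_left i
  haveI : LocallyOfFiniteType C.hom := by rw [← Over.w i]; infer_instance
  haveI : QuasiCompact C.hom := by rw [← Over.w i]; infer_instance
  have hcent : ∀ (X : Over (Spec (CommRingCat.of k))) (a : X ⟶ C) (g : X ⟶ G), (a ≫ i) * g = g * (a ≫ i) := by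
    intro X a g
    have := (hiC.2.2 X (a ≫ i)).1 ⟨a, rfl⟩ X (𝟙 X) g
    rwa [Category.id_comp, Category.comp_id] at this
  have hC : ∀ (X : Over (Spec (CommRingCat.of k))) (a b : X ⟶ C), a * b = b * a := fun X a b => by
    rw [← cancel_mono i, MonObj.mul_comp, MonObj.mul_comp, hcent]
  obtain ⟨T₀, g₀, i₀, h₀⟩ := exists_maximalTorus_comm C hC
  haveI := h₀.1; haveI := h₀.2.1
  haveI : Mono (i₀ ≫ i) := mono_comp _ _
  have hc₀ : IsClosedImmersion (i₀ ≫ i).left := isClosedImmersion_of_torus h₀.2.2.1 (i₀ ≫ i)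
  obtain ⟨m, hm⟩ := hZmax T₀ (i₀ ≫ i) hc₀ h₀.2.2.1 fun X t g => by
    rw [← Category.assoc]; exact hcent X (t ≫ i₀) g
  let F := Over.pullback θ
  haveI : Mono (F.map i) := Functor.map_mono _ _
  haveI : IsMonHom (F.map i) := Groth.L25.MonoClosed.isMonHom_pullbackMap _ _
  haveI : LocallyOfFiniteType (Red.bc θ C).hom := inferInstanceAs (LocallyOfFiniteType (pullback.snd C.hom θ))
  haveI : LocallyOfFinitePresentation (Red.bc θ C).hom := inferInstance
  obtain ⟨d, hd⟩ := (hiC.2.2 (Over.mk (T'.hom ≫ θ)) (Groth.L25.NilAction.toBase θ j')).2 fun X e h => by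
    rw [Category.comp_id]
    exact toBase_central θ j' hT'c X e h
  have hdj : Groth.L25.NilAction.ofBase θ d ≫ F.map i = j' := by
    rw [Groth.L25.NilAction.ofBase_comp, hd, Groth.L25.NilAction.ofBase_toBase]
  haveI : IsMonHom (Groth.L25.NilAction.ofBase θ d) :=
    Groth.L08.Borel.isMonHom_of_comp_mono _ (F.map i) j' hdj
  obtain ⟨f, hf⟩ := Groth.L08.Borel.exists_fac_of_commute (Groth.L08.Borel.isMaximalTorus_bc_fp h₀ θ)
    (Groth.L25.NilAction.ofBase θ d) hT' fun X t r => comm_bc θ hC X _ _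
  refine ⟨f ≫ F.map m, ?_⟩
  rw [Category.assoc, ← F.map_comp, hm, F.map_comp, reassoc_of% hf, hdj]

end Groth.L19.SpecSub
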