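import Groth.Agent.L19.SpecSub.CommTorus
import Groth.Agent.L19.SpecSub.CentralTorusBC
import Groth.Agent.L19.SpecSub.MaxTorusNormal
import Groth.Agent.L08.AbelianGrp
import Groth.Agent.L19.AlgGrpBasic.GmProper
import Groth.Agent.L08.SmallNorm.HasAff
import Groth.Agent.S7982
import Groth.Agent.S17451
import Groth.Agent.S1581

/-!
# Semi-abelian varieties descend along algebraic closures
-/

set_option autoImplicit false
set_option backward.isDefEq.respectTransparency.types false
set_option linter.style.haveILetI false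
set_option maxHeartbeats 1000000

universe u

open CategoryTheory CategoryTheory.Limits MonoidalCategory CartesianMonoidalCategory MonObj GrpObj AlgebraicGeometry

noncomputable section

namespace Groth.L19.SpecSub

/-- quotients by the same kernel are isomorphic -/
theorem exists_iso_of_isKernel {S : Scheme.{u}} {N G Q Q' : Over S} [GrpObj N] [GrpObj G] [GrpObj Q] [GrpObj Q']
    (i : N ⟶ G) (p : G ⟶ Q) (q : G ⟶ Q') [IsMonHom p] [IsMonHom q] [Surjective p.left] [Flat p.left]
    [LocallyOfFinitePresentation p.left] [Surjective q.left] [Flat q.left] [LocallyOfFinitePresentation q.left]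
    (hp : AlgGrp.IsKernel i p) (hq : AlgGrp.IsKernel i q) : ∃ e : Q ≅ Q', p ≫ e.hom = q := by
  have key : ∀ {R R' : Over S} [GrpObj R] [GrpObj R'] (a : G ⟶ R) (b : G ⟶ R') [IsMonHom a] [IsMonHom b],
      AlgGrp.IsKernel i a → AlgGrp.IsKernel i b → ∀ {T : Over S} (x y : T ⟶ G), x ≫ a = y ≫ a → x ≫ b = y ≫ b := by
    intro R R' _ _ a b _ _ ha hb T x y e
    obtain ⟨n, hn, -⟩ := ha.exists_lift (x * y⁻¹) (toUnit T)
      (by rw [MonObj.mul_comp, GrpObj.inv_comp, e, mul_inv_cancel, Hom.one_def])
    have h1 : (x * y⁻¹) ≫ b = 1 := by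
      rw [← hn, Category.assoc, hb.w, ← Category.assoc, toUnit_unique (n ≫ toUnit N) (toUnit T), Hom.one_def]
    rw [MonObj.mul_comp, GrpObj.inv_comp] at h1
    exact mul_inv_eq_one.1 h1
  obtain ⟨f, hf⟩ := Groth.L08.Borel.exists_desc_fppf p q fun a b e => key p q hp hq a b e
  obtain ⟨g, hg⟩ := Groth.L08.Borel.exists_desc_fppf q p fun a b e => key q p hq hp a b e
  haveI : Epi p.left := Flat.epi_of_flat_of_surjective p.left
  haveI : Epi q.left := Flat.epi_of_flat_of_surjective q.left
  haveI : Epi p := Over.epi_of_epi_left p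
  haveI : Epi q := Over.epi_of_epi_left q
  exact ⟨⟨f, g, by rw [← cancel_epi p, reassoc_of% hf, hg, Category.comp_id],
    by rw [← cancel_epi q, reassoc_of% hg, hf, Category.comp_id]⟩, hf⟩

theorem lfp_hom_field {k : Type u} [Field k] {G A : Over (Spec (CommRingCat.of k))} [LocallyOfFiniteType G.hom]
    [LocallyOfFiniteType A.hom] (q : G ⟶ A) : LocallyOfFinitePresentation q.left := by
  haveI : LocallyOfFiniteType (q.left ≫ A.hom) := by rw [Over.w q]; infer_instance
  haveI : LocallyOfFiniteType q.left := locallyOfFiniteType_of_comp q.left A.hom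
  haveI : IsLocallyNoetherian A.left := LocallyOfFiniteType.isLocallyNoetherian A.hom
  exact Groth.L25.TrivLocus.lfp_of_noetherian q.left

/-- semi-abelian varieties descend -/
theorem semiabelian_descend (k : Type u) [Field k]
    (G : Over (Spec (CommRingCat.of k))) [GrpObj G] [LocallyOfFiniteType G.hom] [QuasiCompact G.hom]
    (hK : (∃ (T : Over (Spec (CommRingCat.of (AlgebraicClosure k)))) (_ : GrpObj T) (i : T ⟶ Red.bc (Spec.map (CommRingCat.ofHom (algebraMap k (AlgebraicClosure k)))) G) (A : Over (Spec (CommRingCat.of (AlgebraicClosure k)))) (_ : GrpObj A) (q : Red.bc (Spec.map (CommRingCat.ofHom (algebraMap k (AlgebraicClosure k)))) G ⟶ A),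
        IsMonHom i ∧ IsClosedImmersion i.left ∧ Red.IsTorus T ∧ IsMonHom q ∧ Surjective q.left ∧ Flat q.left ∧
        AlgGrp.IsKernel i q ∧ IsProper A.hom ∧ Smooth A.hom ∧ ConnectedSpace ↥A.left)) :
    (∃ (T : Over (Spec (CommRingCat.of k))) (_ : GrpObj T) (i : T ⟶ G) (A : Over (Spec (CommRingCat.of k))) (_ : GrpObj A) (q : G ⟶ A),
        IsMonHom i ∧ IsClosedImmersion i.left ∧ Red.IsTorus T ∧ IsMonHom q ∧ Surjective q.left ∧ Flat q.left ∧
        AlgGrp.IsKernel i q ∧ IsProper A.hom ∧ Smooth A.hom ∧ ConnectedSpace ↥A.left) := by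
  obtain ⟨T₁, g₁, i₁, A, gA, q, hi, hic, hT₁, hq, hqs, hqf, hker, hAp, hAs, hAc⟩ := id hK
  haveI := hi; haveI := hic; haveI := hq; haveI := hqs; haveI := hqf; haveI := hAp; haveI := hAs; haveI := hAc
  let θ := Spec.map (CommRingCat.ofHom (algebraMap k (AlgebraicClosure k)))
  let F := Over.pullback θ
  obtain ⟨hθs, hθf, hθq⟩ := Groth.L08.Borel.bc_props_field θ
  haveI : LocallyOfFiniteType (Red.bc θ G).hom := inferInstanceAs (LocallyOfFiniteType (pullback.snd G.hom θ))
  haveI : QuasiCompact (Red.bc θ G).hom := inferInstanceAs (QuasiCompact (pullback.snd G.hom θ))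
  haveI : LocallyOfFiniteType T₁.hom := by rw [← Over.w i₁]; infer_instance
  haveI : QuasiCompact T₁.hom := by rw [← Over.w i₁]; infer_instance
  obtain ⟨hT₁s, hT₁c⟩ := Groth.L25.Locus.smooth_connected_torus hT₁
  have hGK := Groth.Agent.S7982.result _ T₁ (Red.bc θ G) A i₁ q hker
  haveI : Smooth G.hom := MorphismProperty.of_pullback_snd_of_descendsAlong (P := @Smooth)
    (Q := @Surjective ⊓ @Flat ⊓ @QuasiCompact) (f := G.hom) (g := θ) ⟨⟨hθs, hθf⟩, hθq⟩ (hGK.2.1 hT₁s hAs)
  haveI : ConnectedSpace G.left := by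
    haveI : ConnectedSpace ↥(pullback G.hom θ) := hGK.2.2 hT₁c hAc
    haveI : Surjective (pullback.fst G.hom θ) := MorphismProperty.pullback_fst _ _ hθs
    exact (pullback.fst G.hom θ).surjective.connectedSpace (pullback.fst G.hom θ).continuous
  haveI : IsCommMonObj G := Groth.Agent.S17451.result k G hK
  have hcomm : ∀ (X : Over (Spec (CommRingCat.of k))) (a b : X ⟶ G), a * b = b * a := fun X a b => mul_comm a b
  obtain ⟨T, gT, i, hT⟩ := exists_maximalTorus_comm G hcomm
  haveI := hT.1; haveI := hT.2.1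
  haveI : IsSeparated G.hom := Groth.Agent.AV.isSeparated_of_grpObj G
  haveI hicl : IsClosedImmersion i.left := isClosedImmersion_of_torus hT.2.2.1 i
  obtain ⟨Q, gQ, p, hp, hps, hpf, hpl, hQl, hQq, hQc, hkp⟩ := Groth.L08.AbelianGrp.exists_quotient i
  haveI := hp; haveI := hps; haveI := hpf; haveI := hpl; haveI := hQl; haveI := hQq
  -- over the algebraic closure the two tori agree
  haveI : IsMonHom (F.map i) := Groth.L25.MonoClosed.isMonHom_pullbackMap _ _
  haveI : IsMonHom (F.map p) := Groth.L25.MonoClosed.isMonHom_pullbackMap _ _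
  haveI : Mono (F.map i) := Functor.map_mono _ _
  haveI : Mono i₁ := Over.mono_of_mono_left i₁
  haveI : LocallyOfFinitePresentation (Red.bc θ G).hom := inferInstance
  obtain ⟨a, ha⟩ := Groth.L08.Borel.exists_fac_of_commute (Groth.L08.Borel.isMaximalTorus_bc_fp hT θ) i₁ hT₁
    fun X t r => comm_bc θ hcomm X _ _
  obtain ⟨b, hb, -⟩ := hker.exists_lift (F.map i) (toUnit _) (by
    rw [Groth.L19.AlgGrpBasic.hom_torus_to_proper_eq_one (Groth.L25.Locus.isTorus_bc hT.2.2.1 θ) (F.map i ≫ q),
      Hom.one_def])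
  let e : Red.bc θ T ≅ T₁ := ⟨b, a, by rw [← cancel_mono (F.map i), Category.assoc, ha, hb, Category.id_comp],
    by rw [← cancel_mono i₁, Category.assoc, hb, ha, Category.id_comp]⟩
  have hker' : AlgGrp.IsKernel (F.map i) q := by
    refine CategoryTheory.IsPullback.of_iso hker e.symm (Iso.refl _) (Iso.refl _) (Iso.refl _) ?_
      (toUnit_unique _ _) (by simp) (by simp)
    simp only [Iso.refl_hom, Category.comp_id, Iso.symm_hom]
    exact ha.symm
  have sqp := Groth.L25.SchImage.isPullback_fst_map θ p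
  haveI : Surjective (F.map p).left := MorphismProperty.of_isPullback (P := @Surjective) sqp hps
  haveI : Flat (F.map p).left := MorphismProperty.of_isPullback (P := @Flat) sqp hpf
  haveI : LocallyOfFinitePresentation (F.map p).left :=
    MorphismProperty.of_isPullback (P := @LocallyOfFinitePresentation) sqp hpl
  haveI : LocallyOfFinitePresentation q.left := lfp_hom_field q
  obtain ⟨f, -⟩ := exists_iso_of_isKernel (F.map i) (F.map p) q (Groth.L08.SmallNorm.isKernel_bc θ hkp) hker'
  haveI : IsIso f.hom.left := inferInstanceAs (IsIso ((Over.forget _).map f.hom))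
  have hQp : IsProper (Red.bc θ Q).hom := by rw [← Over.w f.hom]; infer_instance
  have hQs : Smooth (Red.bc θ Q).hom := by rw [← Over.w f.hom]; infer_instance
  haveI : Smooth Q.hom := MorphismProperty.of_pullback_snd_of_descendsAlong (P := @Smooth)
    (Q := @Surjective ⊓ @Flat ⊓ @QuasiCompact) (f := Q.hom) (g := θ) ⟨⟨hθs, hθf⟩, hθq⟩ hQs
  haveI : IsProper Q.hom := by
    letI : Q.left.Over (Spec (CommRingCat.of k)) := ⟨Q.hom⟩
    haveI : IsProper (Curv2.bcSnd k Q.left (AlgebraicClosure k)) := hQp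
    exact Groth.Agent.S1581.result k Q.left (AlgebraicClosure k)
  exact ⟨T, gT, i, Q, gQ, p, hT.1, hicl, hT.2.2.1, hp, hps, hpf, hkp, inferInstance, inferInstance,
    p.left.surjective.connectedSpace p.left.continuous⟩

end Groth.L19.SpecSub
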