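import Groth.Agent.L19.SpecSub.SemiabOps
import Groth.Agent.L19.AlgGrpBasic.SepLift
import Groth.Agent.L19.AlgGrpBasic.LargestNormal
import Groth.Agent.L25.Locus.CentConnAll
import Groth.Agent.L08.Borel.Nilp
import Groth.Agent.L08.Borel.MaxTorusDesc
import Groth.Agent.L08.AbelianGrp
import Groth.Agent.S14592

/-!
# Semiabelian varieties over a field
-/

set_option autoImplicit false
set_option backward.isDefEq.respectTransparency.types false
set_option linter.style.haveILetI false
set_option linter.unusedSectionVars false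

universe u

open CategoryTheory CategoryTheory.Limits MonoidalCategory CartesianMonoidalCategory MonObj GrpObj AlgebraicGeometry
open Groth.L08.P1Hom (lineK lineAt)

noncomputable section

namespace Groth.L19.SpecSub

variable {k : Type u} [Field k]

/-- the base change to the algebraic closure -/
abbrev gbc (G : Over (Spec (CommRingCat.of k))) : Over (Spec (CommRingCat.of (AlgebraicClosure k))) :=
  Red.bc (AbVar.ext k (AlgebraicClosure k)) G

theorem IsSemiab.comm_alg [IsAlgClosed k] {G : Over (Spec (CommRingCat.of k))} [GrpObj G] [LocallyOfFiniteType G.hom]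
    [QuasiCompact G.hom] (h : IsSemiab G) : IsCommMonObj G := by
  obtain ⟨T, _, i, A, _, q, hi, hic, hT, hq, hqs, hqf, hkq, hAp, hAs, hAc⟩ := h
  haveI := hi; haveI := hic; haveI := hq; haveI := hqs; haveI := hqf; haveI := hAp; haveI := hAs; haveI := hAc
  exact Groth.L08.P1Hom.isCommMonObj_of_extension i hT q hkq

theorem IsSemiab.comm {G : Over (Spec (CommRingCat.of k))} [GrpObj G] [LocallyOfFiniteType G.hom]
    [QuasiCompact G.hom] (h : IsSemiab G) : IsCommMonObj G := by
  haveI : LocallyOfFiniteType (gbc G).hom := MorphismProperty.pullback_snd _ _ ‹LocallyOfFiniteType G.hom›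
  haveI : QuasiCompact (gbc G).hom := MorphismProperty.pullback_snd _ _ ‹QuasiCompact G.hom›
  haveI := (h.bc (AlgebraicClosure k)).comm_alg
  exact Groth.L08.P1Hom.isCommMonObj_of_bc (AbVar.ext k (AlgebraicClosure k))

theorem IsSemiab.smooth {G : Over (Spec (CommRingCat.of k))} [GrpObj G] [LocallyOfFiniteType G.hom]
    [QuasiCompact G.hom] (h : IsSemiab G) : Smooth G.hom := by
  obtain ⟨T, _, i, A, _, q, hi, hic, hT, hq, hqs, hqf, hkq, hAp, hAs, hAc⟩ := h
  haveI := hi; haveI := hic; haveI := hq; haveI := hqs; haveI := hqf; haveI := hAp; haveI := hAs; haveI := hAc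
  haveI : Smooth T.hom := Groth.L08.Borel.smooth_of_isTorus hT
  haveI : QuasiCompact (q.left ≫ A.hom) := by rw [Over.w q]; infer_instance
  haveI : QuasiCompact q.left := QuasiCompact.of_comp q.left A.hom
  haveI := Groth.L19.AlgGrpBasic.smooth_of_isKernel i q hkq
  rw [← Over.w q]; infer_instance

theorem IsSemiab.connected_alg [IsAlgClosed k] {G : Over (Spec (CommRingCat.of k))} [GrpObj G] [LocallyOfFiniteType G.hom]
    [QuasiCompact G.hom] (h : IsSemiab G) : ConnectedSpace ↥G.left := by
  obtain ⟨T, _, i, A, _, q, hi, hic, hT, hq, hqs, hqf, hkq, hAp, hAs, hAc⟩ := h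
  haveI := hi; haveI := hic; haveI := hq; haveI := hqs; haveI := hqf; haveI := hAp; haveI := hAs; haveI := hAc
  obtain ⟨-, -, hTc, -, -⟩ := Groth.L08.Borel.torus_props hT
  haveI := hTc
  haveI : LocallyOfFiniteType (q.left ≫ A.hom) := by rw [Over.w q]; infer_instance
  haveI : LocallyOfFiniteType q.left := locallyOfFiniteType_of_comp q.left A.hom
  haveI : IsLocallyNoetherian A.left := LocallyOfFiniteType.isLocallyNoetherian A.hom
  haveI : LocallyOfFinitePresentation q.left := L25.TrivLocus.lfp_of_noetherian q.left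
  haveI : UniversallyOpen q.left := inferInstance
  have hpre := Groth.L25.Locus.isPreconnected_preimage_of_kernel q q.left.isOpenMap i hkq isClosed_univ
    isPreconnected_univ
  rw [Set.preimage_univ] at hpre
  haveI : PreconnectedSpace ↥G.left := ⟨hpre⟩
  haveI : Nonempty ↥G.left := ⟨η[G].left (IsLocalRing.closedPoint k)⟩
  exact ⟨inferInstance⟩

theorem IsSemiab.connected {G : Over (Spec (CommRingCat.of k))} [GrpObj G] [LocallyOfFiniteType G.hom]
    [QuasiCompact G.hom] (h : IsSemiab G) : ConnectedSpace ↥G.left := by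
  haveI : LocallyOfFiniteType (gbc G).hom := MorphismProperty.pullback_snd _ _ ‹LocallyOfFiniteType G.hom›
  haveI : QuasiCompact (gbc G).hom := MorphismProperty.pullback_snd _ _ ‹QuasiCompact G.hom›
  haveI := (h.bc (AlgebraicClosure k)).connected_alg
  exact Groth.L08.Borel.connectedSpace_of_bc (AbVar.ext k (AlgebraicClosure k)) G

theorem smooth_gbc (G : Over (Spec (CommRingCat.of k))) [Smooth G.hom] : Smooth (gbc G).hom :=
  MorphismProperty.pullback_snd _ _ ‹Smooth G.hom›

theorem qc_gbc (G : Over (Spec (CommRingCat.of k))) [QuasiCompact G.hom] : QuasiCompact (gbc G).hom :=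
  MorphismProperty.pullback_snd _ _ ‹QuasiCompact G.hom›

/-- The affine line criterion over the algebraic closure. -/
theorem isSemiab_of_lineConst_gbc {G : Over (Spec (CommRingCat.of k))} [GrpObj G] [Smooth G.hom] [QuasiCompact G.hom]
    [ConnectedSpace ↥G.left] (h : LineConst (gbc G)) : IsSemiab G := by
  haveI := smooth_gbc G
  haveI := qc_gbc G
  haveI : ConnectedSpace ↥(gbc G).left := Groth.L08.ChevPerf.connectedSpace_bc G
  exact Groth.Agent.S14592.result k G (isSemiab_of_lineConst h)

/-- An extension of semiabelian varieties is semiabelian. -/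
theorem IsSemiab.of_extension {N E Q : Over (Spec (CommRingCat.of k))} [GrpObj N] [GrpObj E] [GrpObj Q]
    [LocallyOfFiniteType N.hom] [QuasiCompact N.hom] [LocallyOfFiniteType E.hom] [QuasiCompact E.hom]
    [LocallyOfFiniteType Q.hom] [QuasiCompact Q.hom]
    (i : N ⟶ E) (q : E ⟶ Q) [IsMonHom i] [IsMonHom q] [Flat q.left] [Surjective q.left]
    (hker : AlgGrp.IsKernel i q) (hN : IsSemiab N) (hQ : IsSemiab Q) : IsSemiab E := by
  obtain ⟨-, hsm, hcn⟩ := Groth.Agent.S7982.result k N E Q i q hker
  haveI := hsm hN.smooth hQ.smooth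
  haveI := hcn hN.connected hQ.connected
  exact isSemiab_of_lineConst_gbc (LineConst.of_isKernel (Groth.L08.SmallNorm.isKernel_bc _ hker)
    (hN.bc (AlgebraicClosure k)).lineConst (hQ.bc (AlgebraicClosure k)).lineConst)

/-- The target of a flat surjective homomorphism from a semiabelian variety is semiabelian. -/
theorem IsSemiab.of_surjective {E Q : Over (Spec (CommRingCat.of k))} [GrpObj E] [GrpObj Q]
    [LocallyOfFiniteType E.hom] [QuasiCompact E.hom] [LocallyOfFiniteType Q.hom] [QuasiCompact Q.hom]
    (q : E ⟶ Q) [IsMonHom q] [Flat q.left] [Surjective q.left] (h : IsSemiab E) : IsSemiab Q := by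
  haveI := h.smooth
  haveI := h.connected
  haveI : Smooth Q.hom := Groth.L19.AlgGrpBasic.smooth_of_cover q
  haveI : ConnectedSpace ↥Q.left := q.left.surjective.connectedSpace q.left.continuous
  haveI := Groth.L08.AbelianGrp.isSeparated Q
  obtain ⟨K, _, j, hj, hjc, -, hker⟩ := Groth.L08.AbelianGrp.exists_kernel q
  haveI := hj; haveI := hjc
  haveI : QuasiCompact K.hom := by rw [← Over.w j]; infer_instance
  haveI : LocallyOfFiniteType K.hom := by rw [← Over.w j]; infer_instance
  let t := AbVar.ext k (AlgebraicClosure k)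
  haveI := smooth_gbc E; haveI := qc_gbc E; haveI := smooth_gbc Q; haveI := qc_gbc Q
  haveI := qc_gbc K
  haveI : LocallyOfFiniteType (gbc K).hom := MorphismProperty.pullback_snd _ _ ‹LocallyOfFiniteType K.hom›
  haveI : ConnectedSpace ↥(gbc Q).left := Groth.L08.ChevPerf.connectedSpace_bc Q
  haveI : IsClosedImmersion ((Over.pullback t).map j).left :=
    MorphismProperty.of_isPullback (P := @IsClosedImmersion) (Groth.L08.Albanese.isPullback_bc_map (K := AlgebraicClosure k) j).flip hjc
  haveI : Surjective ((Over.pullback t).map q).left :=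
    MorphismProperty.of_isPullback (P := @Surjective) (Groth.L08.Albanese.isPullback_bc_map (K := AlgebraicClosure k) q).flip ‹_›
  haveI : Flat ((Over.pullback t).map q).left :=
    MorphismProperty.of_isPullback (P := @Flat) (Groth.L08.Albanese.isPullback_bc_map (K := AlgebraicClosure k) q).flip ‹_›
  exact Groth.Agent.S14592.result k Q ((h.bc (AlgebraicClosure k)).of_quotient ((Over.pullback t).map j)
    ((Over.pullback t).map q) (Groth.L08.SmallNorm.isKernel_bc _ hker))

/-- The trivial group is semiabelian. -/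
theorem isSemiab_unit : IsSemiab (𝟙_ (Over (Spec (CommRingCat.of k)))) := by
  haveI : Smooth (𝟙_ (Over (Spec (CommRingCat.of k)))).hom := inferInstanceAs (Smooth (𝟙 _))
  haveI : QuasiCompact (𝟙_ (Over (Spec (CommRingCat.of k)))).hom := inferInstanceAs (QuasiCompact (𝟙 _))
  haveI : ConnectedSpace ↥(𝟙_ (Over (Spec (CommRingCat.of k)))).left :=
    inferInstanceAs (ConnectedSpace (PrimeSpectrum k))
  refine isSemiab_of_lineConst_gbc fun f => ?_
  haveI : IsIso (gbc (𝟙_ (Over (Spec (CommRingCat.of k))))).hom :=
    inferInstanceAs (IsIso (pullback.snd (𝟙 _) _))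
  apply Over.OverMorphism.ext
  rw [← cancel_mono (gbc (𝟙_ (Over (Spec (CommRingCat.of k))))).hom, Over.w, Over.w]

end Groth.L19.SpecSub
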