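import Groth.Agent.L19.SpecSub.Semicont
import Groth.Agent.L26.AbDual.Primitive
import Groth.Agent.L21.CurvFib.DimExt

/-!
# Subgroups under extensions of algebraically closed fields
-/

set_option autoImplicit false
set_option backward.isDefEq.respectTransparency.types false
set_option linter.style.haveILetI false

universe u

open CategoryTheory CategoryTheory.Limits MonoidalCategory CartesianMonoidalCategory MonObj GrpObj AlgebraicGeometry

noncomputable section

namespace Groth.L19.SpecSub

theorem isMonHom_pullbackId {S : Scheme.{u}} (G : Over S) [GrpObj G] :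
    @IsMonHom _ _ _ (Red.bc (𝟙 S) G) G _ _ (Over.pullbackId.hom.app G) :=
  Groth.L25.BcCompHom.isMonHom_natApp (Over.pullback (𝟙 S)) (𝟭 (Over S)) Over.pullbackId.hom G
    (Red.grpObj_bc (𝟙 S) G) ‹GrpObj G› rfl rfl (Category.id_comp _).symm (Category.id_comp _).symm

variable {Q : GPred.{u}} {n : ℕ}

/-- Descent of subgroups from a bigger algebraically closed field. -/
theorem hasGE_descend (hQ : Specialisable Q) {k F : Type u} [Field k] [IsAlgClosed k] [Field F] [IsAlgClosed F]
    [Algebra k F] (G : Over (Spec (CommRingCat.of k))) [GrpObj G] [LocallyOfFiniteType G.hom]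
    (h : HasGE Q G n (Spec.map (CommRingCat.ofHom (algebraMap k F)))) :
    ∃ (H : Over (Spec (CommRingCat.of k))) (_ : GrpObj H) (i : H ⟶ G),
      IsMonHom i ∧ IsClosedImmersion i.left ∧ Smooth H.hom ∧ ConnectedSpace ↥H.left ∧ Q H ∧
        (n : WithBot ℕ∞) ≤ topologicalKrullDim ↥H.left := by
  obtain ⟨V, g, hg, hgφ, hint⟩ := exists_dominating_algebraic (algebraMap k F)
  haveI : IsAlgClosed (IsLocalRing.ResidueField V) := Groth.L06.EmbLift.isAlgClosed_residueField V
  let f : Spec (CommRingCat.of V) ⟶ Spec (CommRingCat.of k) := Spec.map (CommRingCat.ofHom g)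
  have h1 : HasGE Q G n (resClosed V ≫ f) := val_step (K := F) hQ f (by
    rw [show genPtOf V F ≫ f = Spec.map (CommRingCat.ofHom (algebraMap k F)) by
      simp only [f, genPtOf, ← Spec.map_comp, ← CommRingCat.ofHom_comp]
      rw [show (algebraMap V F).comp g = algebraMap k F from hgφ]]
    exact h)
  let a : k →+* IsLocalRing.ResidueField V := (algebraMap V (IsLocalRing.ResidueField V)).comp g
  have ha : Function.Bijective a := by
    letI : Algebra k (IsLocalRing.ResidueField V) := a.toAlgebra
    haveI : Algebra.IsIntegral k (IsLocalRing.ResidueField V) := by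
      refine ⟨fun t => ?_⟩
      obtain ⟨p, hp, hpt⟩ := hint t
      let r := RingEquiv.ofBijective (IsLocalRing.residue k)
        ⟨(IsLocalRing.residue k).injective, IsLocalRing.residue_surjective⟩
      have hr : (algebraMap k (IsLocalRing.ResidueField V)).comp r.symm.toRingHom =
          IsLocalRing.ResidueField.map g := by
        refine RingHom.ext fun z => ?_
        obtain ⟨w, rfl⟩ := IsLocalRing.residue_surjective z
        exact (congrArg a (r.symm_apply_apply w)).trans (IsLocalRing.ResidueField.map_residue g w).symm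
      refine ⟨p.map r.symm.toRingHom, hp.map _, ?_⟩
      rw [Polynomial.eval₂_map, hr]
      exact hpt
    exact IsAlgClosed.algebraMap_bijective_of_isIntegral (k := k) (K := IsLocalRing.ResidueField V)
  let e := RingEquiv.ofBijective a ha
  obtain ⟨H, inst, i, hi, hc, hs, hcon, hq, hd⟩ := hasGE_congr hQ e.symm.toRingHom e.symm.bijective
    (x' := 𝟙 (Spec (CommRingCat.of k))) (by
      simp only [f, resClosed, ← Spec.map_comp, ← CommRingCat.ofHom_comp]
      rw [← Spec.map_id]
      congr 1
      ext z
      exact e.symm_apply_apply z) h1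
  haveI := isMonHom_pullbackId G
  let e₀ : Red.bc (𝟙 (Spec (CommRingCat.of k))) G ≅ G := Over.pullbackId.app G
  haveI : IsMonHom e₀.hom := isMonHom_pullbackId G
  exact ⟨H, inst, i ≫ e₀.hom, inferInstance, isClosedImmersion_comp_iso i e₀, hs, hcon, hq, hd⟩

/-- Subgroups extend to a bigger field. -/
theorem hasGE_extend (hQ : Specialisable Q) {k F : Type u} [Field k] [IsAlgClosed k] [Field F]
    [Algebra k F] (G : Over (Spec (CommRingCat.of k))) [GrpObj G]
    (H : Over (Spec (CommRingCat.of k))) [GrpObj H] (i : H ⟶ G) [IsMonHom i] [IsClosedImmersion i.left]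
    [Smooth H.hom] [ConnectedSpace ↥H.left] (hq : Q H) (hd : (n : WithBot ℕ∞) ≤ topologicalKrullDim ↥H.left) :
    HasGE Q G n (Spec.map (CommRingCat.ofHom (algebraMap k F))) := by
  let t := Spec.map (CommRingCat.ofHom (algebraMap k F))
  haveI := Groth.Agent.AbDualLib.geometricallyConnected_of_algClosed H.hom
  haveI : Subsingleton (Spec (CommRingCat.of F)) := inferInstanceAs (Subsingleton (PrimeSpectrum F))
  haveI : ConnectedSpace (Spec (CommRingCat.of F)) := inferInstanceAs (ConnectedSpace (PrimeSpectrum F))
  refine ⟨Red.bc t H, inferInstance, (Over.pullback t).map i, inferInstanceAs (IsMonHom ((Over.pullback t).map i)),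
    isClosedImmersion_bc t i, MorphismProperty.pullback_snd _ _ ‹Smooth H.hom›,
    inferInstanceAs (ConnectedSpace ↥(pullback H.hom t)), hQ.bc t H hq, hd.trans (le_of_eq ?_)⟩
  exact (Groth.L21.CurvFib.topologicalKrullDim_eq_of_isPullback k F H.hom t _ _ (IsPullback.of_hasPullback _ _)).symm

end Groth.L19.SpecSub
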