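import Groth.Agent.L19.SpecSub.IsogenyRed
import Groth.Agent.L08.Borel.MaxTorusDesc

/-!
# Tori under isogenies
-/

set_option autoImplicit false
set_option backward.isDefEq.respectTransparency.types false
set_option linter.style.haveILetI false

universe u

open CategoryTheory CategoryTheory.Limits MonoidalCategory CartesianMonoidalCategory MonObj GrpObj AlgebraicGeometry

noncomputable section

namespace Groth.L19.SpecSub

theorem isTorus_iff_of_isogeny_closed {k : Type u} [Field k] [IsAlgClosed k]
    {R Q : Over (Spec (CommRingCat.of k))} [GrpObj R] [GrpObj Q] [Smooth R.hom] [IsAffine R.left]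
    [ConnectedSpace R.left] [Smooth Q.hom] [IsAffine Q.left] [ConnectedSpace Q.left] (f : R ⟶ Q) [IsMonHom f]
    [IsFinite f.left] [Surjective f.left] : Red.IsTorus R ↔ Red.IsTorus Q := by
  haveI : LocallyOfFiniteType R.hom := inferInstance
  haveI : LocallyOfFiniteType Q.hom := inferInstance
  haveI : IsReduced Q.left := Groth.Agent.AV.isReduced_of_smooth_field Q.hom
  refine ⟨fun h => Groth.L08.Borel.isTorus_of_surjective_torus h f, fun hQ => ?_⟩
  haveI : QuasiCompact R.hom := quasiCompact_of_compactSpace _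
  obtain ⟨T, gT, iT, hT⟩ := Groth.L08.Borel.exists_maxTorus_gen R
  haveI := hT.1; haveI := hT.2.1
  obtain ⟨hTa, hTs, hTc, -, -⟩ := Groth.L08.Borel.torus_props hT.2.2.1
  haveI := hTa; haveI := hTs; haveI := hTc
  haveI : LocallyOfFiniteType T.hom := inferInstance
  haveI : QuasiCompact T.hom := quasiCompact_of_compactSpace _
  haveI : IsReduced T.left := Groth.Agent.AV.isReduced_of_smooth_field T.hom
  haveI : IsClosedImmersion iT.left := by
    haveI : Mono iT.left := inferInstanceAs (Mono ((Over.forget _).map iT))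
    haveI : QuasiCompact iT.left := by
      haveI : QuasiCompact (iT.left ≫ R.hom) := by rw [Over.w iT]; infer_instance
      exact QuasiCompact.of_comp iT.left R.hom
    exact Groth.L08.MonoClosed.isClosedImmersion_of_field iT
  let v : T ⟶ Q := iT ≫ f
  haveI : IsMonHom v := inferInstanceAs (IsMonHom (iT ≫ f))
  haveI : IsFinite v.left := by
    haveI : IsFinite iT.left := inferInstance
    rw [Over.comp_left]
    infer_instance
  have hS := Groth.Lead.Neutral.range_isSubgroupSet v
  obtain ⟨T', gT', w, hw, hred, hwc, hwr⟩ := Groth.L08.MonoClosed.exists_reduced_subgroup (G := Q) _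
    v.left.isClosedMap.isClosed_range hS.one_mem hS.mul_mem hS.inv_mem
  obtain ⟨r, hr, hrw⟩ := exists_factor v w hwr.symm.subset
  haveI : IsFinite r.left := isFinite_factor r w v hrw
  haveI : Surjective r.left := ⟨fun y => by
    obtain ⟨x, hx⟩ := hwr.subset (Set.mem_range_self y)
    refine ⟨x, w.left.isEmbedding.injective ?_⟩
    rw [← Scheme.Hom.comp_apply, ← Over.comp_left, hrw]
    exact hx⟩
  have hT' : AGF.IsMaxTorus w := Groth.L08.Borel.isMaxTorus_of_image f hT w r hrw
  haveI : IsIso w := hT'.2.2.2 Q (𝟙 Q) w hQ (Category.comp_id w)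
  haveI : IsIso w.left := inferInstanceAs (IsIso ((Over.forget _).map w))
  have hd : topologicalKrullDim T.left = topologicalKrullDim R.left := by
    rw [dim_eq_of_finite_surjective r.left, dim_eq_of_finite_surjective f.left]
    exact IsHomeomorph.topologicalKrullDim_eq _ (Scheme.homeoOfIso (asIso w.left)).isHomeomorph
  haveI : IsIso iT := Groth.L19.AlgGrpBasic.isIso_of_dim_eq iT hd
  exact Groth.L25.TorLift.isTorus_of_iso (Grp.mkIso' (asIso iT)) hT.2.2.1

theorem isTorus_iff_of_isogeny {k : Type u} [Field k] {R Q : Over (Spec (CommRingCat.of k))} [GrpObj R] [GrpObj Q]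
    [Smooth R.hom] [IsAffine R.left] [ConnectedSpace R.left] [Smooth Q.hom] [IsAffine Q.left] [ConnectedSpace Q.left]
    (f : R ⟶ Q) [IsMonHom f] [IsFinite f.left] [Surjective f.left] : Red.IsTorus R ↔ Red.IsTorus Q := by
  let Ω := AlgebraicClosure k
  let θ : Spec (CommRingCat.of Ω) ⟶ Spec (CommRingCat.of k) := Spec.map (CommRingCat.ofHom (algebraMap k Ω))
  let F : Red.bc θ R ⟶ Red.bc θ Q := (Over.pullback θ).map f
  haveI : IsMonHom F := inferInstanceAs (IsMonHom ((Over.pullback θ).map f))
  haveI : IsFinite F.left := MorphismProperty.of_isPullback (Groth.L08.HomLocus.isPullback_bc θ f) ‹IsFinite f.left›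
  haveI : Surjective F.left := Groth.L08.Borel.surjective_map θ f
  haveI := Groth.L08.Borel.smooth_bc θ R
  haveI := Groth.L08.Borel.smooth_bc θ Q
  haveI := Groth.L08.Borel.isAffine_bc θ R
  haveI := Groth.L08.Borel.isAffine_bc θ Q
  haveI := Groth.L08.Borel.connectedSpace_bc' θ R
  haveI := Groth.L08.Borel.connectedSpace_bc' θ Q
  obtain ⟨hs, hfl, -⟩ := Groth.L08.Borel.bc_props_field θ
  have hcov : ∀ V : (Spec (CommRingCat.of k)).Opens, IsAffineOpen V →
      ∃ W : (Spec (CommRingCat.of Ω)).Opens, IsCompact (W : Set (Spec (CommRingCat.of Ω))) ∧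
        θ.base '' (W : Set (Spec (CommRingCat.of Ω))) = (V : Set (Spec (CommRingCat.of k))) := by
    intro V hV
    refine ⟨θ ⁻¹ᵁ V, (hV.preimage θ).isCompact, ?_⟩
    exact Set.image_preimage_eq _ θ.surjective
  have key := isTorus_iff_of_isogeny_closed F
  exact ⟨fun h => Groth.L08.Borel.isTorus_descend θ hcov (key.1 (Groth.L25.Locus.isTorus_bc h θ)),
    fun h => Groth.L08.Borel.isTorus_descend θ hcov (key.2 (Groth.L25.Locus.isTorus_bc h θ))⟩

end Groth.L19.SpecSub
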