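import Groth.Agent.L14.Luna.Cor
import Groth.Agent.L14.Luna.UnipRad
import Groth.Agent.L08.Borel.MultUnip
import Groth.Agent.L08.SubgroupObj
import Groth.Agent.L19.SpecSub.IsogenyTorus
import Groth.Agent.L25.MultSub.Main
import Groth.Agent.L25.SplitSub.Quot
import Groth.Agent.S5510

/-!
# The centre of a reductive group meets unipotent subgroups trivially
-/

set_option autoImplicit false
set_option backward.isDefEq.respectTransparency.types false
set_option linter.style.haveILetI false

universe u

open CategoryTheory CategoryTheory.Limits MonoidalCategory CartesianMonoidalCategory MonObj GrpObj AlgebraicGeometry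
open Groth.L08.Borel

noncomputable section

namespace Groth.L19.SpecSub

/-- morphisms over a field agreeing after a field extension agree -/
theorem bc_faithful {k K : Type u} [Field k] [Field K] (θ : Spec (CommRingCat.of K) ⟶ Spec (CommRingCat.of k))
    {X Y : Over (Spec (CommRingCat.of k))} {f g : X ⟶ Y}
    (h : (Over.pullback θ).map f = (Over.pullback θ).map g) : f = g := by
  obtain ⟨hs, hf, -⟩ := Groth.L08.Borel.bc_props_field θ
  haveI : Surjective (pullback.fst X.hom θ) := MorphismProperty.pullback_fst _ _ hs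
  haveI : Flat (pullback.fst X.hom θ) := MorphismProperty.pullback_fst _ _ hf
  haveI := Flat.epi_of_flat_of_surjective (pullback.fst X.hom θ)
  refine Over.OverMorphism.ext ((cancel_epi (pullback.fst X.hom θ)).1 ?_)
  have h2 := congrArg (fun m => m.left ≫ pullback.fst _ _) h
  simpa [pullback.lift_fst] using h2

variable {k : Type u} [Field k]

/-- a central multiplicative type group maps trivially into a unipotent group over an algebraically closed field -/
theorem central_mult_eq_one [IsAlgClosed k] {U H : Over (Spec (CommRingCat.of k))} [GrpObj U] [GrpObj H]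
    [IsAffine U.left] [Smooth U.hom] [ConnectedSpace U.left] (hU : Red.HasNoSubtorus k U)
    (hH : SGA3x.IsMultTypeFT H) (v : H ⟶ U) [IsMonHom v]
    (hvc : ∀ (X : Over (Spec (CommRingCat.of k))) (g : X ⟶ U) (s : X ⟶ H), g * (s ≫ v) = (s ≫ v) * g) :
    v = 1 := by
  haveI : QuasiCompact U.hom := quasiCompact_of_compactSpace _
  obtain ⟨T, gT, iT, hT⟩ := exists_maxTorus_gen U
  have h1 := maxTorus_eq_one hT hU
  obtain ⟨w, hw⟩ := mult_le_maxTorus_solvable (Groth.L14.Luna.isSolvableGrp_of_noSubtorus U hU) hT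
    (fun X g s => by rw [h1, MonObj.comp_one, _root_.mul_one, _root_.one_mul]) hH v hvc
  rw [← hw, h1, MonObj.comp_one]

/-- the centre of a reductive group meets a connected unipotent subgroup trivially -/
theorem centre_inf_unipotent {G Z U : Over (Spec (CommRingCat.of k))} [GrpObj G] [GrpObj Z] [GrpObj U]
    (hG : Red.IsReductive G) {z : Z ⟶ G} (hz : Red.IsCentre z) [IsAffine U.left] [Smooth U.hom]
    [ConnectedSpace U.left]
    (hU : ∀ s : ↥(Spec (CommRingCat.of k)),
      Red.HasNoSubtorus (AlgebraicClosure ((Spec (CommRingCat.of k)).residueField s)) (Red.geomFibre s U))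
    (u : U ⟶ G) [IsMonHom u] [IsClosedImmersion u.left] {X : Over (Spec (CommRingCat.of k))} (a : X ⟶ Z)
    (b : X ⟶ U) (hab : a ≫ z = b ≫ u) : b ≫ u = 1 := by
  haveI := hz.1; haveI := hz.2.1
  obtain ⟨Z', gZ', j, hj, hjc, hm⟩ := Groth.Agent.S5510.result G hG
  haveI := hj.1; haveI := hj.2.1; haveI := hjc
  haveI : Mono u := Over.mono_of_mono_left u
  let H := pullback j u
  let p : H ⟶ Z' := pullback.fst j u
  let q : H ⟶ U := pullback.snd j u
  have sq : IsPullback p q j u := IsPullback.of_hasPullback j u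
  haveI : IsClosedImmersion p.left :=
    MorphismProperty.of_isPullback (P := @IsClosedImmersion) (sq.map (Over.forget _)).flip ‹IsClosedImmersion u.left›
  haveI : Mono p := Over.mono_of_mono_left p
  obtain ⟨gH, hp⟩ := Groth.L08.exists_grpObj_of_mono p
    ⟨sq.lift η[Z'] η[U] (by rw [IsMonHom.one_hom, IsMonHom.one_hom]), sq.lift_fst _ _ _⟩
    ⟨sq.lift ((fst H H ≫ p) * (snd H H ≫ p)) ((fst H H ≫ q) * (snd H H ≫ q)) (by
      simp only [MonObj.mul_comp, Category.assoc, sq.w]), sq.lift_fst _ _ _⟩
    ⟨sq.lift p⁻¹ q⁻¹ (by rw [GrpObj.inv_comp, GrpObj.inv_comp, sq.w]), sq.lift_fst _ _ _⟩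
  haveI := hp
  haveI : IsMonHom q := by
    haveI : IsMonHom (p ≫ j) := inferInstance
    exact isMonHom_of_comp_mono q u (p ≫ j) sq.w.symm
  haveI : LocallyOfFiniteType Z'.hom := by
    haveI := hG.2.1
    rw [← Over.w j]; infer_instance
  haveI : LocallyOfFiniteType H.hom := by rw [← Over.w p]; infer_instance
  have hH : SGA3x.IsMultTypeFT H :=
    Groth.L25.MultSub.isMultTypeFT_of_closed H Z' hm p inferInstance inferInstance inferInstance
  have hc : ∀ (Y : Over (Spec (CommRingCat.of k))) (g : Y ⟶ U) (s : Y ⟶ H), g * (s ≫ q) = (s ≫ q) * g := by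
    intro Y g s
    rw [← cancel_mono u, MonObj.mul_comp, MonObj.mul_comp, Category.assoc, ← sq.w]
    have := (hj.2.2 Y ((s ≫ p) ≫ j)).1 ⟨s ≫ p, rfl⟩ Y (𝟙 Y) (g ≫ u)
    rw [Category.id_comp, Category.comp_id, Category.assoc] at this
    exact this.symm
  obtain ⟨s⟩ : Nonempty ↥(Spec (CommRingCat.of k)) := inferInstance
  let θ := Red.geomPt s
  let F := Over.pullback θ
  haveI := Groth.L08.Borel.smooth_bc θ U
  haveI := Groth.L08.Borel.isAffine_bc θ U
  haveI := Groth.L08.Borel.connectedSpace_bc' θ U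
  haveI : IsMonHom (F.map q) := Groth.L25.MonoClosed.isMonHom_pullbackMap _ _
  have h0 : F.map q = 1 := central_mult_eq_one (hU s) (Groth.L25.MultTypeBC.isMultTypeFT_bc hH θ) (F.map q)
    fun Y g t => by
      apply Groth.L25.SplitSub.toBase_injective θ
      rw [Groth.L25.NilAction.toBase_mul, Groth.L25.NilAction.toBase_mul, Groth.L25.SplitSub.toBase_map]
      exact hc _ _ _
  have hq : q = 1 := bc_faithful θ (h0.trans (map_one (F.homMonoidHom)).symm)
  obtain ⟨w, hw⟩ := (hj.2.2 X (a ≫ z)).2 ((hz.2.2 X (a ≫ z)).1 ⟨a, rfl⟩)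
  obtain ⟨l, -, hl⟩ := sq.exists_lift w b (hw.trans hab)
  rw [← hl, Category.assoc, hq, MonObj.one_comp, MonObj.comp_one]

end Groth.L19.SpecSub
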