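import Groth.Agent.L19.SpecSub.IsogenyProps
import Groth.Agent.L19.SpecSub.CentreUnip
import Groth.Agent.L19.SpecSub.Props
import Groth.Agent.L08.Borel.CentBorel
import Groth.Agent.S16791
import Groth.Agent.S3919
import Groth.Agent.S4121

/-!
# Unipotence and maximal tori under field extensions
-/

set_option autoImplicit false
set_option backward.isDefEq.respectTransparency.types false
set_option linter.style.haveILetI false

universe u

open CategoryTheory CategoryTheory.Limits MonoidalCategory CartesianMonoidalCategory MonObj GrpObj AlgebraicGeometry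
open Groth.L08.Borel

noncomputable section

namespace Groth.L19.SpecSub

variable {k K : Type u} [Field k] [Field K] (θ : Spec (CommRingCat.of K) ⟶ Spec (CommRingCat.of k))

theorem surjective_field : Surjective θ := (bc_props_field θ).1

theorem isMaxTorus_bc_iff {G T : Over (Spec (CommRingCat.of k))} [GrpObj G] [GrpObj T] [IsAffine G.left]
    [Smooth G.hom] (iT : T ⟶ G) [IsMonHom iT] [Mono iT] (hT : Red.IsTorus T) :
    AGF.IsMaxTorus iT ↔ AGF.IsMaxTorus ((Over.pullback θ).map iT) := by
  haveI := smooth_bc θ G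
  haveI := isAffine_bc θ G
  haveI : IsMonHom ((Over.pullback θ).map iT) := Groth.L25.MonoClosed.isMonHom_pullbackMap _ _
  haveI : Mono ((Over.pullback θ).map iT) := Functor.map_mono _ _
  rw [Groth.Agent.S3919.result k G T iT hT,
    Groth.Agent.S16791.result inferInstance inferInstance iT hT θ (surjective_field θ)]
  exact (Groth.Agent.S3919.result K (Red.bc θ G) (Red.bc θ T) _ (Groth.L25.Locus.isTorus_bc hT θ)).symm

/-- geometric absence of subtori persists under field extensions -/
theorem geomNoSubtorus_bc (U : Over (Spec (CommRingCat.of k))) [GrpObj U] [IsAffine U.left] [Smooth U.hom]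
    (hU : ∀ s : ↥(Spec (CommRingCat.of k)),
      Red.HasNoSubtorus (AlgebraicClosure ((Spec (CommRingCat.of k)).residueField s)) (Red.geomFibre s U))
    (s' : ↥(Spec (CommRingCat.of K))) :
    Red.HasNoSubtorus (AlgebraicClosure ((Spec (CommRingCat.of K)).residueField s'))
      (Red.geomFibre s' (Red.bc θ U)) := by
  haveI : LocallyOfFiniteType U.hom := inferInstance
  haveI : QuasiCompact U.hom := quasiCompact_of_compactSpace _
  obtain ⟨T, gT, iT, hT⟩ := Groth.Agent.S4121.result k U
  haveI := hT.1; haveI := hT.2.1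
  haveI := smooth_bc θ U
  haveI := isAffine_bc θ U
  obtain ⟨s⟩ : Nonempty ↥(Spec (CommRingCat.of k)) := inferInstance
  have h1 : (Over.pullback (Red.geomPt s)).map iT = 1 := maxTorus_eq_one (isMaxTorus_geomFibre hT s) (hU s)
  have h0 : iT = 1 := bc_faithful (Red.geomPt s)
    (h1.trans (map_one ((Over.pullback (Red.geomPt s)).homMonoidHom)).symm)
  have hK := (Groth.Agent.S16791.result inferInstance inferInstance iT hT.2.2.1 θ (surjective_field θ)).1 hT
  refine hasNoSubtorus_of_maxTorus_one (isMaxTorus_geomFibre hK s') ?_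
  subst h0
  rw [show (Over.pullback θ).map (1 : T ⟶ U) = 1 from map_one ((Over.pullback θ).homMonoidHom),
    show (Over.pullback (Red.geomPt s')).map (1 : Red.bc θ T ⟶ Red.bc θ U) = 1 from
      map_one ((Over.pullback (Red.geomPt s')).homMonoidHom)]

/-- pseudo-reductivity descends -/
theorem pseudoReductive_of_bc {G U : Over (Spec (CommRingCat.of k))} [GrpObj G] [GrpObj U] [IsAffine G.left]
    (hpr : ∀ (U' : Over (Spec (CommRingCat.of K))) [GrpObj U'] (i : U' ⟶ Red.bc θ G) [IsMonHom i],
      IsClosedImmersion i.left → Smooth U'.hom → ConnectedSpace ↥U'.left → AlgGrp.IsNormalHom i →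
      (∀ s : ↥(Spec (CommRingCat.of K)),
        Red.HasNoSubtorus (AlgebraicClosure ((Spec (CommRingCat.of K)).residueField s)) (Red.geomFibre s U')) →
      Red.IsTrivialGrp U')
    (i : U ⟶ G) [IsMonHom i] [IsClosedImmersion i.left] [Smooth U.hom] [ConnectedSpace U.left]
    (hn : AlgGrp.IsNormalHom i)
    (hU : ∀ s : ↥(Spec (CommRingCat.of k)),
      Red.HasNoSubtorus (AlgebraicClosure ((Spec (CommRingCat.of k)).residueField s)) (Red.geomFibre s U)) :
    Red.IsTrivialGrp U := by
  haveI : IsAffine U.left := isAffine_of_isAffineHom i.left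
  haveI : IsMonHom ((Over.pullback θ).map i) := Groth.L25.MonoClosed.isMonHom_pullbackMap _ _
  have h : IsIso (pullback.snd U.hom θ) := hpr (Red.bc θ U) ((Over.pullback θ).map i) (isClosedImmersion_map θ i) (smooth_bc θ U)
    (connectedSpace_bc' θ U) (isNormalHom_bc θ i hn) (geomNoSubtorus_bc θ U hU)
  obtain ⟨hs, hf, hq⟩ := bc_props_field θ
  exact MorphismProperty.of_isPullback_of_descendsAlong (P := MorphismProperty.isomorphisms Scheme.{u})
    (Q := @Surjective ⊓ @Flat ⊓ @QuasiCompact) (IsPullback.of_hasPullback U.hom θ).flip ⟨⟨hs, hf⟩, hq⟩ h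

end Groth.L19.SpecSub
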