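import Groth.Agent.L19.SpecSub.Semicont
import Groth.Agent.L02.RelDim.FlatLft
import Mathlib.AlgebraicGeometry.Morphisms.Smooth

/-!
# Derived groups of geometric fibres specialise
-/

set_option autoImplicit false
set_option backward.isDefEq.respectTransparency.types false
set_option linter.style.haveILetI false

universe u

open CategoryTheory CategoryTheory.Limits MonoidalCategory CartesianMonoidalCategory MonObj GrpObj AlgebraicGeometry

noncomputable section

namespace Groth.L19.SpecSub

/-- normal subgroups containing all commutators -/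
def PDer : Pred.{u} := fun B _ G _ _ i => AlgGrp.IsNormalHom i ∧
  ∀ (T : Over B) (g h : T ⟶ G), ∃ m, g * h * g⁻¹ * h⁻¹ = m ≫ i

theorem comm_bc {S S' : Scheme.{u}} (t : S' ⟶ S) {G L : Over S} [GrpObj G] [GrpObj L] (l : L ⟶ G)
    (hl : ∀ (T : Over S) (g h : T ⟶ G), ∃ m, g * h * g⁻¹ * h⁻¹ = m ≫ l) (T : Over S') (g n : T ⟶ Red.bc t G) :
    ∃ m, g * n * g⁻¹ * n⁻¹ = m ≫ ((Over.pullback t).map l : Red.bc t L ⟶ Red.bc t G) := by
  let F := Over.pullback t
  let adj := Over.mapPullbackAdj t
  obtain ⟨n', hn'⟩ := hl ((Over.map t).obj T) ((adj.homEquiv _ _).symm g) ((adj.homEquiv _ _).symm n)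
  refine ⟨adj.homEquiv _ _ n', ?_⟩
  have e := congrArg (fun m => adj.unit.app T ≫ F.map m) hn'
  simp only [Functor.map_mul, Functor.map_comp, Functor.map_inv', MonObj.comp_mul, GrpObj.comp_inv] at e
  have hu : ∀ {Y : Over S} (x : T ⟶ F.obj Y), adj.unit.app T ≫ F.map ((adj.homEquiv T Y).symm x) = x := fun {Y} x => by
    exact (adj.homEquiv_unit (X := T) (Y := Y) (f := (adj.homEquiv T Y).symm x)).symm.trans
      ((adj.homEquiv T Y).apply_symm_apply x)
  rw [hu, hu, ← Category.assoc] at e
  rw [Adjunction.homEquiv_unit]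
  exact e

theorem stable_der : Stable PDer.{u} := by
  constructor
  · intro B H H' G G' _ _ _ _ i a e hi ha he h
    refine ⟨stable_normal.iso i a e hi ha he h.1, fun T g n => ?_⟩
    obtain ⟨m, hm⟩ := h.2 T (g ≫ e.inv) (n ≫ e.inv)
    refine ⟨m ≫ a.inv, ?_⟩
    have := congrArg (· ≫ e.hom) hm
    simp only [MonObj.mul_comp, GrpObj.inv_comp, Category.assoc, Iso.inv_hom_id, Category.comp_id] at this
    simpa using this
  · intro B B' g H G _ _ i hi h
    exact ⟨isNormalHom_bc g i h.1, comm_bc g i h.2⟩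

section Step

variable {V : Type u} [CommRing V] [IsDomain V] [ValuationRing V] {K : Type u} [Field K] [Algebra V K]
  [IsFractionRing V K] {S : Scheme.{u}} (G : Over S) [GrpObj G] [Flat G.hom] [LocallyOfFiniteType G.hom]

theorem lfp_of_flat (H : Over (Spec (CommRingCat.of V))) [Flat H.hom] [LocallyOfFiniteType H.hom] :
    LocallyOfFinitePresentation H.hom := by
  refine IsZariskiLocalAtSource.of_openCover (P := @LocallyOfFinitePresentation) H.left.affineCover fun t => ?_
  exact L02.RelDim.lfp_of_flat_valuation (V := CommRingCat.of V) (H.left.affineCover.f t ≫ H.hom)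

theorem dim_generic_eq_special (H : Over (Spec (CommRingCat.of V))) [GrpObj H] [Flat H.hom]
    [LocallyOfFiniteType H.hom] :
    topologicalKrullDim ↥(pullback H.hom (genPtOf V K)) = topologicalKrullDim ↥(pullback H.hom (resClosed V)) := by
  haveI := lfp_of_flat H
  haveI : IsPreimmersion (genPtOf V K) :=
    IsPreimmersion.of_isLocalization (R := V) (S := K) (nonZeroDivisors V)
  haveI : IsClosedImmersion (resClosed V) := IsClosedImmersion.spec_of_surjective _ IsLocalRing.residue_surjective
  have hr : ∀ (F : Type u) [Field F] (g : Spec (CommRingCat.of F) ⟶ Spec (CommRingCat.of V)),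
      Set.range g = {g (IsLocalRing.closedPoint F)} := fun F _ g => by
    ext y
    refine ⟨?_, fun hy => ⟨_, hy.symm⟩⟩
    rintro ⟨x, rfl⟩
    rw [Subsingleton.elim x (IsLocalRing.closedPoint F)]
    rfl
  rw [dim_pullback _ H _ (hr _ (genPtOf V K)), dim_pullback _ H _ (hr _ (resClosed V))]
  exact (Groth.Lead.GrpFibreDim.isLocallyConstant H).apply_eq_of_preconnectedSpace _ _

theorem dim_cmp {T B : Scheme.{u}} (g : T ⟶ B) (f : B ⟶ S) :
    topologicalKrullDim ↥(pullback (Red.bc f G).hom g) = topologicalKrullDim ↥(pullback G.hom (g ≫ f)) :=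
  IsHomeomorph.topologicalKrullDim_eq _
    (Scheme.homeoOfIso ((Over.forget _).mapIso (Groth.L25.LimHom.cmp (rfl : g ≫ f = g ≫ f) G))).isHomeomorph

theorem dim_fibre_step (f : Spec (CommRingCat.of V) ⟶ S) :
    topologicalKrullDim ↥(pullback G.hom (genPtOf V K ≫ f)) =
      topologicalKrullDim ↥(pullback G.hom (resClosed V ≫ f)) := by
  haveI : Flat (Red.bc f G).hom := MorphismProperty.pullback_snd _ _ ‹Flat G.hom›
  haveI : LocallyOfFiniteType (Red.bc f G).hom :=
    MorphismProperty.pullback_snd _ _ ‹LocallyOfFiniteType G.hom›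
  rw [← dim_cmp G (genPtOf V K) f, ← dim_cmp G (resClosed V) f]
  exact dim_generic_eq_special (Red.bc f G)

theorem fac_generic {G' H T : Over (Spec (CommRingCat.of V))} (j : H ⟶ G') [IsClosedImmersion j.left]
    [Flat T.hom] (m : T ⟶ G') (z : Red.bc (genPtOf V K) T ⟶ Red.bc (genPtOf V K) H)
    (hz : z ≫ (Over.pullback (genPtOf V K)).map j = (Over.pullback (genPtOf V K)).map m) :
    ∃ l : T ⟶ H, l ≫ j = m := by
  obtain ⟨l, hl⟩ := Groth.Agent.AV.exists_fac_of_schDom j.left (pullback.fst T.hom (genPtOf V K)) m.left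
    (z.left ≫ pullback.fst H.hom (genPtOf V K)) (by
      rw [Category.assoc, ← Groth.Agent.NeronL.pb_map_fst (genPtOf V K) j, ← Category.assoc, ← Over.comp_left, hz]
      exact (Groth.Agent.NeronL.pb_map_fst _ _).symm)
  exact ⟨Over.homMk l (by rw [← Over.w j, ← Category.assoc, hl, Over.w]), Over.OverMorphism.ext hl⟩

theorem der_val_step {d : WithBot ℕ∞} (f : Spec (CommRingCat.of V) ⟶ S)
    (h : Has PDer G d (genPtOf V K ≫ f)) : Has PDer G d (resClosed V ≫ f) := by
  obtain ⟨H₀, inst, i₀, hi₀, hc₀, hp, hd⟩ := h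
  let gp := genPtOf V K
  let G' := Red.bc f G
  let e₀ := Groth.L25.LimHom.cmp (rfl : gp ≫ f = gp ≫ f) G
  haveI : IsMonHom e₀.hom := Groth.L25.LimHom.isMonHom_cmp rfl G
  let i : H₀ ⟶ Red.bc gp G' := i₀ ≫ e₀.inv
  haveI : IsMonHom i := inferInstanceAs (IsMonHom (i₀ ≫ e₀.inv))
  haveI : IsClosedImmersion i.left := isClosedImmersion_comp_iso i₀ e₀.symm
  haveI : Flat G'.hom := MorphismProperty.pullback_snd _ _ ‹Flat G.hom›
  haveI : LocallyOfFiniteType G'.hom := MorphismProperty.pullback_snd _ _ ‹LocallyOfFiniteType G.hom›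
  obtain ⟨H, instH, j, φ, hj, hjc, hflat, sq, hφ, -⟩ := exists_closure G' H₀ i
  haveI : LocallyOfFiniteType H.hom := by rw [← Over.w j]; infer_instance
  haveI : IsIso ((Over.forget _).map (Over.homMk sq.isoPullback.hom sq.isoPullback_hom_snd : H₀ ⟶ Red.bc gp H)) :=
    inferInstanceAs (IsIso sq.isoPullback.hom)
  let u : H₀ ⟶ Red.bc gp H := Over.homMk sq.isoPullback.hom sq.isoPullback_hom_snd
  haveI : IsIso u := isIso_of_reflects_iso u (Over.forget _)
  let jK : Red.bc gp H ⟶ Red.bc gp G' := (Over.pullback gp).map j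
  haveI : IsMonHom jK := inferInstanceAs (IsMonHom ((Over.pullback gp).map j))
  haveI : IsClosedImmersion jK.left := isClosedImmersion_bc gp j
  haveI : Mono jK := Over.mono_of_mono_left jK
  have hu : u ≫ jK = i := by
    apply Over.OverMorphism.ext
    apply pullback.hom_ext
    · rw [Over.comp_left, Category.assoc, Groth.Agent.NeronL.pb_map_fst, ← Category.assoc]
      exact (congrArg (· ≫ j.left) sq.isoPullback_hom_fst).trans hφ
    · rw [Over.comp_left, Category.assoc, Groth.Agent.NeronL.pb_map_snd]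
      exact sq.isoPullback_hom_snd.trans (Over.w i).symm
  haveI : IsMonHom (u ≫ jK) := hu ▸ ‹IsMonHom i›
  haveI : IsMonHom u := isMonHom_of_fac u jK
  have hpi : PDer i := by
    have := stable_der.iso i₀ (Iso.refl _) e₀.symm hi₀ (inferInstanceAs (IsMonHom (𝟙 _)))
      (inferInstanceAs (IsMonHom e₀.inv)) hp
    simpa using this
  have hpK : PDer jK := by
    have := stable_der.iso i (asIso u).symm (Iso.refl _) inferInstance (inferInstanceAs (IsMonHom (asIso u).inv))
      (inferInstanceAs (IsMonHom (𝟙 _))) hpi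
    have e : (asIso u).symm.hom ≫ i ≫ (Iso.refl (Red.bc gp G')).hom = jK := by
      simp [← hu]
    rwa [e] at this
  have hpj : PDer j := by
    refine ⟨fun T g n => ?_, fun T g h => ?_⟩
    · haveI : Flat (G' ⊗ H).hom := inferInstanceAs (Flat (pullback.fst G'.hom H.hom ≫ G'.hom))
      obtain ⟨v, hv⟩ := Groth.L19.SubgroupStage.fac_conjMap gp j hpK.1
      obtain ⟨l, hl⟩ := fac_generic j (Groth.L19.SubgroupStage.conjMap j) v hv
      refine ⟨lift g n ≫ l, ?_⟩
      rw [Category.assoc, hl, Groth.L19.SubgroupStage.conjMap]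
      simp only [MonObj.comp_mul, GrpObj.comp_inv, lift_fst, lift_snd_assoc]
    · haveI : Flat (G' ⊗ G').hom := inferInstanceAs (Flat (pullback.fst G'.hom G'.hom ≫ G'.hom))
      let F := Over.pullback gp
      obtain ⟨v, hv⟩ := hpK.2 (F.obj (G' ⊗ G')) (F.map (fst G' G')) (F.map (snd G' G'))
      obtain ⟨l, hl⟩ := fac_generic j (fst G' G' * snd G' G' * (fst G' G')⁻¹ * (snd G' G')⁻¹) v (by
        rw [← hv, Functor.map_mul, Functor.map_mul, Functor.map_mul, Functor.map_inv', Functor.map_inv'])
      refine ⟨lift g h ≫ l, ?_⟩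
      rw [Category.assoc, hl]
      simp only [MonObj.comp_mul, GrpObj.comp_inv, lift_fst, lift_snd]
  let r := resClosed V
  let e₁ := Groth.L25.LimHom.cmp (rfl : r ≫ f = r ≫ f) G
  haveI : IsMonHom e₁.hom := Groth.L25.LimHom.isMonHom_cmp rfl G
  let js : Red.bc r H ⟶ Red.bc r G' := (Over.pullback r).map j
  haveI : IsMonHom js := inferInstanceAs (IsMonHom ((Over.pullback r).map j))
  haveI : IsClosedImmersion js.left := isClosedImmersion_bc _ j
  refine ⟨Red.bc r H, inferInstance, js ≫ e₁.hom, inferInstance, isClosedImmersion_comp_iso js e₁, ?_, ?_⟩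
  · have := stable_der.iso js (Iso.refl _) e₁ inferInstance (inferInstanceAs (IsMonHom (𝟙 _))) inferInstance
      (stable_der.bc r j hj hpj)
    simpa using this
  · rw [← hd]
    refine (dim_generic_eq_special (K := K) H).symm.trans ?_
    exact (IsHomeomorph.topologicalKrullDim_eq _ (Scheme.homeoOfIso sq.isoPullback).isHomeomorph).symm

end Step

/-- Properties of field points which descend along valuation rings specialise. -/
theorem specialize_along {S : Scheme.{u}} (Φ : ∀ (F : Type u) [Field F], (Spec (CommRingCat.of F) ⟶ S) → Prop)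
    (hcongr : ∀ (F F' : Type u) [Field F] [Field F'] (φ : F →+* F') (_ : Function.Bijective φ)
      (x : Spec (CommRingCat.of F) ⟶ S), Φ F x → Φ F' (Spec.map (CommRingCat.ofHom φ) ≫ x))
    (hstep : ∀ (V : Type u) [CommRing V] [IsDomain V] [ValuationRing V] (K : Type u) [Field K] [Algebra V K]
      [IsFractionRing V K] (f : Spec (CommRingCat.of V) ⟶ S),
      Φ K (genPtOf V K ≫ f) → Φ (IsLocalRing.ResidueField V) (resClosed V ≫ f))
    {s s' : S} (hsp : s ⤳ s') (hs : Φ _ (Red.geomPt s)) : Φ _ (Red.geomPt s') := by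
  let L := AlgebraicClosure (S.residueField s)
  let φ : S.presheaf.stalk s' →+* L :=
    (algebraMap (S.residueField s) L).comp ((S.residue s).hom.comp (S.presheaf.stalkSpecializes hsp).hom)
  obtain ⟨V, g, hg, hgφ, hint⟩ := exists_dominating_algebraic φ
  haveI : IsAlgClosed (IsLocalRing.ResidueField V) := Groth.L06.EmbLift.isAlgClosed_residueField V
  let f : Spec (CommRingCat.of V) ⟶ S := Spec.map (CommRingCat.ofHom g) ≫ S.fromSpecStalk s'
  have hgen : genPtOf V L ≫ f = Red.geomPt s := by
    have e : CommRingCat.ofHom g ≫ CommRingCat.ofHom (algebraMap V L) =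
        S.presheaf.stalkSpecializes hsp ≫ S.residue s ≫ CommRingCat.ofHom (algebraMap (S.residueField s) L) := by
      apply CommRingCat.hom_ext
      exact hgφ
    simp only [f, genPtOf, Red.geomPt, Scheme.fromSpecResidueField, ← Spec.map_comp_assoc]
    rw [e, Spec.map_comp_assoc, Spec.map_comp_assoc, Scheme.SpecMap_stalkSpecializes_fromSpecStalk,
      Spec.map_comp_assoc]
    rfl
  have h1 := hstep V L f (hgen.symm ▸ hs)
  let ψ : S.residueField s' →+* IsLocalRing.ResidueField V := IsLocalRing.ResidueField.map g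
  letI : Algebra (S.residueField s') (IsLocalRing.ResidueField V) := ψ.toAlgebra
  haveI : Algebra.IsAlgebraic (S.residueField s') (IsLocalRing.ResidueField V) :=
    ⟨fun t => IsIntegral.isAlgebraic (R := ↑(S.residueField s')) (show ψ.IsIntegralElem t from hint t)⟩
  haveI : IsAlgClosure (S.residueField s') (IsLocalRing.ResidueField V) := ⟨inferInstance, inferInstance⟩
  let e : IsLocalRing.ResidueField V ≃ₐ[S.residueField s'] AlgebraicClosure (S.residueField s') :=
    IsAlgClosure.equiv (S.residueField s') (IsLocalRing.ResidueField V) (AlgebraicClosure (S.residueField s'))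
  have h2 := hcongr _ _ e.toRingEquiv.toRingHom e.bijective _ h1
  convert h2 using 1
  have e' : CommRingCat.ofHom g ≫ CommRingCat.ofHom (algebraMap V (IsLocalRing.ResidueField V)) ≫
      CommRingCat.ofHom e.toRingEquiv.toRingHom =
      S.residue s' ≫ CommRingCat.ofHom (algebraMap (S.residueField s') (AlgebraicClosure (S.residueField s'))) := by
    apply CommRingCat.hom_ext
    ext r
    exact (congrArg e (IsLocalRing.ResidueField.map_residue g r).symm).trans (e.commutes _)
  simp only [f, resClosed, Red.geomPt, Scheme.fromSpecResidueField, ← Spec.map_comp_assoc, Category.assoc]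
  rw [e']
  rfl

theorem der_specializes {S : Scheme.{u}} (G : Over S) [GrpObj G] [Smooth G.hom] {d : WithBot ℕ∞} {s s' : S}
    (hsp : s ⤳ s') (hs : Has PDer G d (Red.geomPt s)) : Has PDer G d (Red.geomPt s') :=
  specialize_along (fun F _ x => Has PDer G d x)
    (fun _ _ _ _ φ hφ _ h => has_congr stable_der φ hφ rfl h)
    (fun _ _ _ _ _ _ _ _ f h => der_val_step G f h) hsp hs

theorem dim_fibre_specializes {S : Scheme.{u}} (G : Over S) [GrpObj G] [Smooth G.hom] {s s' : S} (hsp : s ⤳ s') :
    topologicalKrullDim ↥(Red.geomFibre s' G).left = topologicalKrullDim ↥(Red.geomFibre s G).left :=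
  specialize_along
    (fun F _ x => topologicalKrullDim ↥(pullback G.hom x) = topologicalKrullDim ↥(Red.geomFibre s G).left)
    (fun _ _ _ _ φ hφ x h => by
      haveI : IsIso (CommRingCat.ofHom φ) := (ConcreteCategory.isIso_iff_bijective _).2 hφ
      refine Eq.trans ?_ h
      rw [← dim_cmp G (Spec.map (CommRingCat.ofHom φ)) x]
      exact IsHomeomorph.topologicalKrullDim_eq _
        (Scheme.homeoOfIso (asIso (pullback.fst (Red.bc x G).hom (Spec.map (CommRingCat.ofHom φ))))).isHomeomorph)
    (fun _ _ _ _ _ _ _ _ f h => (dim_fibre_step G f).symm.trans h) hsp rfl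

end Groth.L19.SpecSub
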