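import Mathlib.RingTheory.Valuation.LocalSubring
import Mathlib.RingTheory.LocalRing.ResidueField.Basic
import Mathlib.RingTheory.Algebraic.Integral
import Mathlib.Order.Zorn

/-!
# Dominating valuation rings with algebraic residue extension
-/

set_option autoImplicit false

universe u

namespace Groth.L19.SpecSub

open IsLocalRing

variable {L : Type u} [Field L] {O : Type u} [CommRing O] [IsLocalRing O]

/-- `V` dominates `O` along `φ`. -/
def Dominates (φ : O →+* L) (V : ValuationSubring L) : Prop :=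
  (∀ r, φ r ∈ V) ∧ ∀ r ∈ maximalIdeal O, φ r ∈ V.nonunits

theorem exists_minimal_dominating (φ : O →+* L) :
    ∃ V : ValuationSubring L, Dominates φ V ∧ ∀ V', Dominates φ V' → V' ≤ V → V ≤ V' := by
  obtain ⟨V₀, h₀, hloc⟩ := IsLocalRing.exists_factor_valuationRing φ
  have hV₀ : Dominates φ V₀ := by
    refine ⟨h₀, fun r hr => ?_⟩
    rw [show φ r = ((φ.codRestrict V₀.toSubring h₀ r : V₀) : L) from rfl, ValuationSubring.coe_mem_nonunits_iff]
    exact fun hu => hr (hloc.1 r hu)
  have hchain : ∀ c ⊆ {W : (ValuationSubring L)ᵒᵈ | Dominates φ (OrderDual.ofDual W)}, IsChain (· ≤ ·) c →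
      ∀ W₁ ∈ c, ∃ ub ∈ {W : (ValuationSubring L)ᵒᵈ | Dominates φ (OrderDual.ofDual W)}, ∀ z ∈ c, z ≤ ub := by
    intro c hc hch W₁ hW₁
    let R : Subring L := ⨅ W : c, (OrderDual.ofDual W.1).toSubring
    have hR : ∀ x : L, x ∈ R ∨ x⁻¹ ∈ R := by
      intro x
      by_contra h
      rw [not_or, Subring.mem_iInf, Subring.mem_iInf, not_forall, not_forall] at h
      obtain ⟨⟨⟨A, hA⟩, hxA⟩, ⟨⟨B, hB⟩, hxB⟩⟩ := h
      rcases hch.total hA hB with hAB | hAB
      · rcases (OrderDual.ofDual B).mem_or_inv_mem x with h | h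
        · exact hxA (hAB h)
        · exact hxB h
      · rcases (OrderDual.ofDual A).mem_or_inv_mem x with h | h
        · exact hxA h
        · exact hxB (hAB h)
    have hle : ∀ W ∈ c, ValuationSubring.ofSubring R hR ≤ OrderDual.ofDual W := fun W hW x hx =>
      (Subring.mem_iInf.1 hx) ⟨W, hW⟩
    refine ⟨OrderDual.toDual (ValuationSubring.ofSubring R hR), ⟨fun r => Subring.mem_iInf.2 fun W => (hc W.2).1 r,
      fun r hr => ValuationSubring.nonunits_le_nonunits.2 (hle W₁ hW₁) ((hc hW₁).2 r hr)⟩, fun W hW => hle W hW⟩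
  obtain ⟨V, -, hV, hmin⟩ := zorn_le_nonempty₀ _ hchain (OrderDual.toDual V₀) hV₀
  exact ⟨OrderDual.ofDual V, hV, fun V' h h' => hmin (show OrderDual.toDual V' ∈ _ from h) h'⟩

/-- A valuation ring dominating `O` with residue field algebraic over that of `O`. -/
theorem exists_dominating_algebraic (φ : O →+* L) :
    ∃ (V : ValuationSubring L) (g : O →+* V) (_ : IsLocalHom g),
      V.subtype.comp g = φ ∧ (IsLocalRing.ResidueField.map g).IsIntegral := by
  obtain ⟨V, hV, hmin⟩ := exists_minimal_dominating φ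
  let g : O →+* V := φ.codRestrict V.toSubring hV.1
  haveI hg : IsLocalHom g := ⟨fun r hr => by
    by_contra h
    exact (V.coe_mem_nonunits_iff.1 (hV.2 r h) : g r ∈ maximalIdeal V) hr⟩
  refine ⟨V, g, hg, rfl, ?_⟩
  letI : Algebra (ResidueField O) (ResidueField V) := (IsLocalRing.ResidueField.map g).toAlgebra
  intro t
  by_contra ht
  have htr : Function.Injective (Polynomial.aeval (R := ResidueField O) t) :=
    transcendental_iff_injective.1 fun ha => ht (isAlgebraic_iff_isIntegral.1 ha)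
  let A : Subring (ResidueField V) := (Polynomial.aeval (R := ResidueField O) t).toRingHom.range
  let q : Polynomial (ResidueField O) →+* A := (Polynomial.aeval (R := ResidueField O) t).toRingHom.rangeRestrict
  have hI : Ideal.map q (Ideal.span {Polynomial.X}) ≠ ⊤ := by
    intro e
    have hq : Function.Bijective q :=
      ⟨fun a b h => htr (congrArg Subtype.val h), RingHom.rangeRestrict_surjective _⟩
    have h1 := congrArg (Ideal.comap q) e
    rw [Ideal.comap_map_of_bijective _ hq, Ideal.comap_top, Ideal.span_singleton_eq_top] at h1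
    exact Polynomial.not_isUnit_X h1
  obtain ⟨W, hAW, hIW⟩ := Ideal.image_subset_nonunits_valuationSubring _ hI
  have htW : t ∈ W.nonunits :=
    hIW ⟨q Polynomial.X, Ideal.mem_map_of_mem _ (Ideal.mem_span_singleton_self _), Polynomial.aeval_X t⟩
  have ht0 : t ≠ 0 := by
    rintro rfl
    exact ht isIntegral_zero
  have htW' : t⁻¹ ∉ W := (W.mem_nonunits_iff_or.1 htW).resolve_left ht0
  -- the composite valuation ring
  let R : Subring L := (W.toSubring.comap (IsLocalRing.residue V)).map V.subtype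
  have hmem : ∀ x : L, x ∈ R ↔ ∃ h : x ∈ V, IsLocalRing.residue V ⟨x, h⟩ ∈ W := by
    intro x
    constructor
    · rintro ⟨y, hy, rfl⟩
      exact ⟨y.2, hy⟩
    · rintro ⟨h, hx⟩
      exact ⟨⟨x, h⟩, hx, rfl⟩
  have hR : ∀ x : L, x ∈ R ∨ x⁻¹ ∈ R := by
    intro x
    rw [hmem, hmem]
    rcases V.mem_or_inv_mem x with h | h
    · by_cases hm : (⟨x, h⟩ : V) ∈ maximalIdeal V
      · exact Or.inl ⟨h, by rw [(IsLocalRing.residue_eq_zero_iff _).2 hm]; exact W.zero_mem⟩
      · have hu : IsUnit (⟨x, h⟩ : V) := not_not.1 hm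
        obtain ⟨v, hv⟩ := hu.exists_right_inv
        have hv' : x⁻¹ = v.1 := inv_eq_of_mul_eq_one_right (congrArg Subtype.val hv)
        have e : IsLocalRing.residue V v = (IsLocalRing.residue V ⟨x, h⟩)⁻¹ :=
          (inv_eq_of_mul_eq_one_right (by rw [← map_mul, hv, map_one])).symm
        rcases W.mem_or_inv_mem (IsLocalRing.residue V ⟨x, h⟩) with hw | hw
        · exact Or.inl ⟨h, hw⟩
        · exact Or.inr ⟨hv' ▸ v.2, by
            rw [show (⟨x⁻¹, hv' ▸ v.2⟩ : V) = v from Subtype.ext hv', e]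
            exact hw⟩
    · by_cases hx : x ∈ V
      · by_cases hm : (⟨x⁻¹, h⟩ : V) ∈ maximalIdeal V
        · exact Or.inr ⟨h, by rw [(IsLocalRing.residue_eq_zero_iff _).2 hm]; exact W.zero_mem⟩
        · rcases eq_or_ne x 0 with rfl | hx0
          · exact Or.inl ⟨hx, by rw [show (⟨0, hx⟩ : V) = 0 from rfl, map_zero]; exact W.zero_mem⟩
          · rcases W.mem_or_inv_mem (IsLocalRing.residue V ⟨x, hx⟩) with hw | hw
            · exact Or.inl ⟨hx, hw⟩
            · refine Or.inr ⟨h, ?_⟩
              rwa [inv_eq_of_mul_eq_one_right (b := IsLocalRing.residue V ⟨x⁻¹, h⟩) (by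
                rw [← map_mul, show (⟨x, hx⟩ : V) * ⟨x⁻¹, h⟩ = 1 from Subtype.ext (mul_inv_cancel₀ hx0), map_one])] at hw
      · refine Or.inr ⟨h, ?_⟩
        rw [(IsLocalRing.residue_eq_zero_iff _).2 (fun hu => hx ?_)]
        · exact W.zero_mem
        · obtain ⟨v, hv⟩ := hu.exists_right_inv
          have := inv_eq_of_mul_eq_one_right (congrArg Subtype.val hv : x⁻¹ * v.1 = 1)
          rw [inv_inv] at this
          exact this ▸ v.2
  let V' := ValuationSubring.ofSubring R hR
  have hle : V' ≤ V := fun x hx => ((hmem x).1 hx).choose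
  have hdom : Dominates φ V' := by
    refine ⟨fun r => (hmem _).2 ⟨hV.1 r, hAW ⟨Polynomial.C (IsLocalRing.residue O r), ?_⟩⟩, fun r hr =>
      ValuationSubring.nonunits_le_nonunits.2 hle (hV.2 r hr)⟩
    exact (Polynomial.aeval_C _ _).trans (IsLocalRing.ResidueField.map_residue g r)
  obtain ⟨v, hv⟩ := IsLocalRing.residue_surjective (t⁻¹)
  obtain ⟨_, hv'⟩ := (hmem _).1 (hmin V' hdom hle v.2)
  exact htW' (hv ▸ hv')

end Groth.L19.SpecSub
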