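import Groth.Agent.L14.RedLR.Over
import Groth.Agent.L25.MultSub.Main
import Groth.Agent.S16074
import Groth.Agent.S5510
import Groth.Agent.L08.MonoClosed
import Groth.Prelude.Def_ConstGrp
import Mathlib.RingTheory.TensorProduct.Pi

/-!
# Infinitesimal additive and constant p-groups are not of multiplicative type in characteristic p
-/

set_option autoImplicit false
set_option backward.isDefEq.respectTransparency.types false
set_option backward.isDefEq.respectTransparency false
set_option linter.style.haveILetI false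

universe u

open CategoryTheory CategoryTheory.Limits MonoidalCategory CartesianMonoidalCategory MonObj AlgebraicGeometry
open TensorProduct

noncomputable section

namespace Groth.L19.SpecSub

/-- split groups of multiplicative type over an algebraically closed field -/
theorem exists_split_mult {K : Type u} [Field K] [IsAlgClosed K] (H : Over (Spec (CommRingCat.of K))) [GrpObj H]
    (hH : SGA3x.IsMultTypeFT H) :
    ∃ (M : Type) (_ : AddCommGroup M), AddGroup.FG M ∧
      Nonempty (Grp.mk H ≅ Grp.mk (Red.DS (Spec (CommRingCat.of K)) M)) := by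
  obtain ⟨S', f, hf, ⟨s', -⟩, M, _, hfg, ⟨e⟩⟩ :=
    Groth.L25.Extend.exists_etale_split hH (IsLocalRing.closedPoint K)
  have : JacobsonSpace S' := LocallyOfFiniteType.jacobsonSpace f
  obtain ⟨x, -, hx⟩ := nonempty_inter_closedPoints (X := S') (Z := Set.univ) ⟨s', trivial⟩ isOpen_univ.isLocallyClosed
  let σ := pointOfClosedPoint f x hx
  have hσ : σ ≫ f = 𝟙 (Spec (CommRingCat.of K)) := pointOfClosedPoint_comp f x hx
  refine ⟨M, inferInstance, hfg, ⟨?_⟩⟩
  exact (Functor.mapGrpIdIso.app (Grp.mk H)).symm ≪≫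
    (Functor.mapGrpNatIso (Over.pullbackId (X := Spec (CommRingCat.of K))).symm).app (Grp.mk H) ≪≫
    (Grp.mkIso' (ActBC.bcCompIso σ f H hσ)).symm ≪≫
    (Over.pullback σ).mapGrp.mapIso e ≪≫
    Grp.mkIso' (ActBC.bcCompIso σ (Limits.IsTerminal.from specULiftZIsTerminal S') (Red.diag (ULift.{u} ℤ) M)
      (specULiftZIsTerminal.hom_ext _ _))

variable (p : ℕ) [hp : Fact p.Prime] (k : Type u) [Field k] [CharP k p]

/-- base change of α_p -/
theorem exists_alphaBC (K : Type u) [Field K] [Algebra k K] [CharP K p] :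
    Nonempty (AlphaP.A p K ≃ₐc[K] K ⊗[k] AlphaP.A p k) := by
  let b : K ⊗[k] AlphaP.A p k := 1 ⊗ₜ AlphaP.x p k
  have hb : b ^ p = 0 := by rw [Algebra.TensorProduct.tmul_pow, AlphaP.x_pow, tmul_zero]
  let ψ : AlphaP.A p K →ₐ[K] K ⊗[k] AlphaP.A p k := AlphaP.lift p K b hb
  have hψ : ψ (AlphaP.x p K) = b := AlphaP.lift_x b hb
  let ψc : AlphaP.A p K →ₐc[K] K ⊗[k] AlphaP.A p k := BialgHom.ofAlgHom ψ
    (AlphaP.algHom_ext (by
      rw [AlgHom.comp_apply, hψ]
      show Coalgebra.counit (R := K) b = Coalgebra.counit (R := K) (AlphaP.x p K)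
      rw [AlphaP.counit_x]
      simp [b]))
    (AlphaP.algHom_ext (by
      rw [AlgHom.comp_apply, AlgHom.comp_apply, hψ]
      show Algebra.TensorProduct.map ψ ψ (Coalgebra.comul (R := K) (AlphaP.x p K)) = Coalgebra.comul (R := K) b
      rw [AlphaP.comul_x, map_add, Algebra.TensorProduct.map_tmul, Algebra.TensorProduct.map_tmul, map_one, hψ]
      simp [b, TensorProduct.comul_tmul, tmul_add, Algebra.TensorProduct.one_def]))
  have hsurj : Function.Surjective ψ := by
    intro z
    induction z using TensorProduct.induction_on with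
    | zero => exact ⟨0, map_zero _⟩
    | add x y hx hy =>
      obtain ⟨a, rfl⟩ := hx
      obtain ⟨c, rfl⟩ := hy
      exact ⟨a + c, map_add _ _ _⟩
    | tmul l a =>
      obtain ⟨P, rfl⟩ := AlphaP.mk_surjective p k a
      refine ⟨l • Polynomial.aeval (AlphaP.x p K) (P.map (algebraMap k K)), ?_⟩
      rw [map_smul, ← Polynomial.aeval_algHom_apply, hψ, Polynomial.aeval_map_algebraMap,
        show b = Algebra.TensorProduct.includeRight (R := k) (A := K) (AlphaP.x p k) from rfl,
        Polynomial.aeval_algHom_apply, AlphaP.aeval_x, Algebra.TensorProduct.includeRight_apply, TensorProduct.smul_tmul',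
        smul_eq_mul, _root_.mul_one]
  have hdim : Module.finrank K (AlphaP.A p K) = Module.finrank K (K ⊗[k] AlphaP.A p k) := by
    rw [AlphaP.finrank_eq, Module.finrank_baseChange, AlphaP.finrank_eq]
  have hinj : Function.Injective ψ :=
    (LinearMap.injective_iff_surjective_of_finrank_eq_finrank (f := ψ.toLinearMap) hdim).2 hsurj
  exact ⟨BialgEquiv.ofBijective ψc ⟨hinj, hsurj⟩⟩

variable {k}

/-- an affine group of finite rank p of multiplicative type is split by an algebraic closure as μ_p -/
theorem exists_equiv_of_multType {A : Type u} [CommRing A] [HopfAlgebra k A] [Module.Finite k A]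
    (hd : Module.finrank k A = p) (h : SGA3x.IsMultTypeFT (Groth.L25.Bridge.P k A)) :
    Nonempty (MonoidAlgebra (AlgebraicClosure k) (Multiplicative (ZMod p)) ≃ₐc[AlgebraicClosure k]
      AlgebraicClosure k ⊗[k] A) := by
  let K := AlgebraicClosure k
  let θ : Spec (CommRingCat.of K) ⟶ Spec (CommRingCat.of k) := Spec.map (CommRingCat.ofHom (algebraMap k K))
  obtain ⟨M, _, -, ⟨e⟩⟩ := exists_split_mult _ (Groth.L25.MultTypeBC.isMultTypeFT_bc h θ)
  obtain ⟨eA⟩ := Groth.L25.Bridge.exists_bialgEquiv
    ((Groth.L25.Bridge.bcIso k A K).symm ≪≫ e ≪≫ Groth.L25.Bridge.dsIso K M)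
  have hM : Module.finrank K (MonoidAlgebra K (Multiplicative M)) = p := by
    rw [eA.toLinearEquiv.finrank_eq, Module.finrank_baseChange, hd]
  haveI : Module.Finite K (MonoidAlgebra K (Multiplicative M)) := Module.Finite.equiv eA.toLinearEquiv.symm
  haveI : Finite (Multiplicative M) :=
    Module.Finite.finite_basis (MonoidAlgebra.basis (Multiplicative M) K)
  have hcard : Nat.card (Multiplicative M) = p := by
    rw [← hM, Module.finrank_eq_nat_card_basis (MonoidAlgebra.basis (Multiplicative M) K)]
  let em : Multiplicative (ZMod p) ≃* Multiplicative M :=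
    mulEquivOfPrimeCardEq (p := p) (by simp) hcard
  refine ⟨(BialgEquiv.ofBijective (MonoidAlgebra.mapDomainBialgHom K em.toMonoidHom) ?_).trans eA⟩
  refine Function.bijective_iff_has_inverse.2 ⟨MonoidAlgebra.mapDomainBialgHom K em.symm.toMonoidHom, fun x => ?_,
    fun x => ?_⟩
  · rw [MonoidAlgebra.mapDomainBialgHom_mapDomainBialgHom]
    have : em.symm.toMonoidHom.comp em.toMonoidHom = MonoidHom.id _ := by ext; simp
    rw [this, MonoidAlgebra.mapDomainBialgHom_id]; rfl
  · rw [MonoidAlgebra.mapDomainBialgHom_mapDomainBialgHom]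
    have : em.toMonoidHom.comp em.symm.toMonoidHom = MonoidHom.id _ := by ext; simp
    rw [this, MonoidAlgebra.mapDomainBialgHom_id]; rfl

theorem alpha_not_multType : ¬ SGA3x.IsMultTypeFT (Groth.L25.Bridge.P k (AlphaP.A p k)) := by
  intro h
  haveI : CharP (AlgebraicClosure k) p := charP_of_injective_algebraMap (algebraMap k (AlgebraicClosure k)).injective p
  obtain ⟨e⟩ := exists_equiv_of_multType p (AlphaP.finrank_eq p k) h
  obtain ⟨e'⟩ := exists_alphaBC p k (AlgebraicClosure k)
  exact (Groth.Agent.S16074.result p (AlgebraicClosure k)).false (e.trans e'.symm)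

theorem const_not_multType :
    ¬ SGA3x.IsMultTypeFT (Groth.L25.Bridge.P k (ConstGrp.F k (Multiplicative (ZMod p)))) := by
  intro h
  let K := AlgebraicClosure k
  haveI : CharP K p := charP_of_injective_algebraMap (algebraMap k K).injective p
  have hd : Module.finrank k (ConstGrp.F k (Multiplicative (ZMod p))) = p := by
    show Module.finrank k (Multiplicative (ZMod p) → k) = p
    rw [Module.finrank_fintype_fun_eq_card]
    simp
  obtain ⟨e⟩ := exists_equiv_of_multType p hd h
  let pi : K ⊗[k] ConstGrp.F k (Multiplicative (ZMod p)) ≃ₐ[K] (Multiplicative (ZMod p) → K) :=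
    Algebra.TensorProduct.piScalarRight k K K (Multiplicative (ZMod p))
  obtain ⟨g, hg⟩ : ∃ g : Multiplicative (ZMod p), g ≠ 1 := exists_ne 1
  let u : Multiplicative (ZMod p) → K := pi (e (MonoidAlgebra.single g 1))
  have hgp : g ^ p = 1 := by
    have := pow_card_eq_one' (x := g)
    rwa [show Nat.card (Multiplicative (ZMod p)) = p by simp] at this
  have hu : u ^ p = 1 := by
    rw [← map_pow, ← map_pow, MonoidAlgebra.single_pow, hgp, one_pow, ← MonoidAlgebra.one_def, map_one, map_one]
  have hu1 : u = 1 := by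
    funext i
    have h1 : u i ^ p = 1 := congrFun hu i
    refine (frobenius_inj K p) ?_
    rw [frobenius_def, frobenius_def, h1, Pi.one_apply, one_pow]
  have h2 : MonoidAlgebra.single g (1 : K) = 1 := by
    refine EquivLike.injective e (pi.injective ?_)
    rw [map_one, map_one]
    exact hu1
  rw [MonoidAlgebra.one_def] at h2
  exact hg (MonoidAlgebra.single_left_injective one_ne_zero h2)

/-- no monomorphism from a non multiplicative finite group to the centre of a reductive group -/
theorem not_mono_to_centre {G Z : Over (Spec (CommRingCat.of k))} [GrpObj G] [GrpObj Z] (hG : Red.IsReductive G)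
    {z : Z ⟶ G} (hz : Red.IsCentre z) {A : Type u} [CommRing A] [HopfAlgebra k A] [Module.Finite k A]
    (hA : ¬ SGA3x.IsMultTypeFT (Groth.L25.Bridge.P k A)) (φ : Groth.L25.Bridge.P k A ⟶ Z) (hφ : IsMonHom φ) :
    ¬ Mono φ.left := by
  intro hm
  haveI := hz.1; haveI := hz.2.1; haveI := hφ
  obtain ⟨Z', gZ', j, hj, hjc, hmt⟩ := Groth.Agent.S5510.result G hG
  haveI := hj.1; haveI := hj.2.1; haveI := hjc
  haveI : Mono φ := Over.mono_of_mono_left φ
  let v : Groth.L25.Bridge.P k A ⟶ G := φ ≫ z
  haveI : IsMonHom v := inferInstanceAs (IsMonHom (φ ≫ z))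
  haveI : Mono v := mono_comp _ _
  obtain ⟨w, hw⟩ := (hj.2.2 _ v).2 ((hz.2.2 _ v).1 ⟨φ, rfl⟩)
  haveI : IsMonHom w :=
    { one_hom := by rw [← cancel_mono j, Category.assoc, hw, IsMonHom.one_hom, IsMonHom.one_hom]
      mul_hom := by
        rw [← cancel_mono j, Category.assoc, hw, IsMonHom.mul_hom, Category.assoc, IsMonHom.mul_hom (f := j),
          tensorHom_comp_tensorHom_assoc, hw] }
  haveI : Mono (w ≫ j) := hw ▸ ‹Mono v›
  haveI : Mono w := mono_of_mono w j
  haveI := hG.2.1
  haveI : LocallyOfFiniteType Z'.hom := by rw [← Over.w j]; infer_instance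
  haveI : IsSeparated Z'.hom := by rw [← Over.w j]; haveI := hG.1; infer_instance
  haveI : IsFinite (Groth.L25.Bridge.P k A).hom :=
    (IsFinite.SpecMap_iff _).2 (RingHom.finite_algebraMap.2 inferInstance)
  haveI : Mono w.left := inferInstanceAs (Mono ((Over.forget _).map w))
  haveI : QuasiCompact w.left := by
    haveI : QuasiCompact (w.left ≫ Z'.hom) := by rw [Over.w w]; infer_instance
    exact QuasiCompact.of_comp w.left Z'.hom
  haveI : IsClosedImmersion w.left := Groth.L08.MonoClosed.isClosedImmersion_of_field w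
  exact hA (Groth.L25.MultSub.isMultTypeFT_of_closed _ Z' hmt w inferInstance inferInstance inferInstance)

end Groth.L19.SpecSub
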