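import Groth.Agent.S18071
import Groth.Agent.L08.AffHull.Crit
import Groth.Agent.L08.NormalQuot.Affine
import Groth.Agent.L08.Borel.TorusImage
import Groth.Agent.L14.Luna.Cor
import Groth.Agent.L25.Locus.Torus
import Groth.Agent.L08.ChevPerf.Perfect
import Groth.Agent.L19.AlgGrpBasic.LargestNormal

/-!
# A commutative group is anti-affine iff both quotients by a torus part and a unipotent part are
-/

set_option autoImplicit false
set_option backward.isDefEq.respectTransparency.types false
set_option linter.style.haveILetI false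
set_option linter.unusedSectionVars false

universe u

open CategoryTheory CategoryTheory.Limits MonoidalCategory CartesianMonoidalCategory MonObj GrpObj AlgebraicGeometry
open Groth.L08

noncomputable section

namespace Groth.L19.SpecSub

variable {k : Type u} [Field k]

/-- Morphisms that agree over the algebraic closure are equal. -/
theorem eq_of_algClosure_map_eq {X Y : Over (Spec (CommRingCat.of k))} (f g : X ⟶ Y)
    (h : (Over.pullback (AbVar.ext k (AlgebraicClosure k))).map f =
      (Over.pullback (AbVar.ext k (AlgebraicClosure k))).map g) : f = g := by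
  let t := AbVar.ext k (AlgebraicClosure k)
  haveI : Epi (pullback.fst X.hom t) := by
    haveI : Surjective t := Groth.L08.ChevPerf.ext_props.1
    haveI : Flat t := Groth.L08.ChevPerf.ext_props.2.1
    haveI : QuasiCompact t := Groth.L08.ChevPerf.ext_props.2.2
    haveI : Surjective (pullback.fst X.hom t) := MorphismProperty.pullback_fst _ _ ‹Surjective t›
    haveI : Flat (pullback.fst X.hom t) := MorphismProperty.pullback_fst _ _ ‹Flat t›
    exact Flat.epi_of_flat_of_surjective _
  refine Over.OverMorphism.ext ?_
  rw [← cancel_epi (pullback.fst X.hom t)]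
  exact (Groth.L08.Albanese.isPullback_bc_map (K := AlgebraicClosure k) f).w.symm.trans
    ((congrArg (fun m => m.left ≫ pullback.fst Y.hom t) h).trans
      (Groth.L08.Albanese.isPullback_bc_map (K := AlgebraicClosure k) g).w)

/-- A homomorphism from a unipotent group to the image of a torus is trivial. -/
theorem hom_torusImage_eq_one {T C U : Over (Spec (CommRingCat.of k))} [GrpObj T] [GrpObj C] [GrpObj U]
    (hT : Red.IsTorus T) (p : T ⟶ C) [IsMonHom p] [Surjective p.left] [IsAffine C.left] [Smooth C.hom]
    [Smooth U.hom] [ConnectedSpace U.left] [IsAffine U.left] (hU : Red.HasNoSubtorus k U)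
    (φ : U ⟶ C) [IsMonHom φ] : φ = 1 := by
  let K := AlgebraicClosure k
  let t := AbVar.ext k K
  haveI : QuasiCompact U.hom := inferInstance
  have hTK : Red.IsTorus (Red.bc t T) := L25.Locus.isTorus_bc hT t
  haveI : Surjective ((Over.pullback t).map p).left :=
    MorphismProperty.of_isPullback (P := @Surjective) (Groth.L08.Albanese.isPullback_bc_map (K := K) p).flip ‹_›
  haveI : IsAffine (Red.bc t C).left := inferInstanceAs (IsAffine (pullback C.hom t))
  haveI : Smooth (Red.bc t C).hom := MorphismProperty.pullback_snd _ _ ‹Smooth C.hom›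
  haveI : LocallyOfFiniteType (Red.bc t C).hom := inferInstance
  haveI : IsReduced (Red.bc t C).left := Groth.Agent.AV.isReduced_of_smooth_field (Red.bc t C).hom
  have hCK : Red.IsTorus (Red.bc t C) := Groth.L08.Borel.isTorus_of_surjective_torus hTK ((Over.pullback t).map p)
  haveI : IsAffine (Red.bc t U).left := inferInstanceAs (IsAffine (pullback U.hom t))
  haveI : Smooth (Red.bc t U).hom := MorphismProperty.pullback_snd _ _ ‹Smooth U.hom›
  haveI : ConnectedSpace (Red.bc t U).left := Groth.L08.ChevPerf.connectedSpace_bc U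
  have hUK : Red.HasNoSubtorus K (Red.bc t U) := (Groth.Agent.S18071.result k U).1 hU
  have h := Groth.L14.Luna.hom_torus_eq_one (Groth.L14.Luna.isSolvableGrp_of_noSubtorus _ hUK) hUK hCK
    ((Over.pullback t).map φ)
  refine eq_of_algClosure_map_eq φ 1 (h.trans ?_)
  exact (map_one ((Over.pullback t).homMonoidHom (X := U) (M := C))).symm

/-- A connected commutative group with a torus part and a unipotent part is anti-affine iff both quotients are. -/
theorem isIso_appTop_iff_parts {G T U Gs Gu : Over (Spec (CommRingCat.of k))} [GrpObj G] [GrpObj T] [GrpObj U]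
    [GrpObj Gs] [GrpObj Gu] [Smooth G.hom] [QuasiCompact G.hom] [IsCommMonObj G]
    (t : T ⟶ G) (u : U ⟶ G) [IsMonHom t] [IsMonHom u] (hT : Red.IsTorus T)
    [Smooth U.hom] [ConnectedSpace U.left] [IsAffine U.left] (hU : Red.HasNoSubtorus k U)
    [LocallyOfFiniteType Gs.hom] [QuasiCompact Gs.hom] [LocallyOfFiniteType Gu.hom] [QuasiCompact Gu.hom]
    (qs : G ⟶ Gs) [IsMonHom qs] [Surjective qs.left] [Flat qs.left] (hs : AlgGrp.IsKernel u qs)
    (qu : G ⟶ Gu) [IsMonHom qu] [Surjective qu.left] [Flat qu.left] (hu : AlgGrp.IsKernel t qu) :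
    IsIso G.hom.appTop ↔ IsIso Gs.hom.appTop ∧ IsIso Gu.hom.appTop := by
  haveI : LocallyOfFiniteType G.hom := inferInstance
  haveI := AffHull.compactSpace (G := G)
  haveI := AffHull.quasiSeparatedSpace (G := G)
  constructor
  · intro hO
    haveI : QuasiCompact qs.left := AbelianGrp.quasiCompact_left qs
    haveI : QuasiCompact qu.left := AbelianGrp.quasiCompact_left qu
    haveI : Epi qs.left := Flat.epi_of_flat_of_surjective _
    haveI : Epi qu.left := Flat.epi_of_flat_of_surjective _
    exact ⟨AffHull.isIso_appTop_of_cover qs η[Gs] hO, AffHull.isIso_appTop_of_cover qu η[Gu] hO⟩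
  · rintro ⟨hOs, hOu⟩
    obtain ⟨hl, hsur, hflat, hlfp⟩ := AffHull.hull_props (G := G)
    haveI := hl; haveI := hsur; haveI := hflat; haveI := hlfp
    haveI : IsCommMonObj (AffHull.hull G) := AbelianGrp.isCommMonObj_of_cover (AffHull.rho G)
    haveI : QuasiCompact (AffHull.hull G).hom := inferInstance
    haveI : Smooth T.hom := (Groth.L25.Locus.smooth_connected_torus hT).1
    haveI : LocallyOfFiniteType T.hom := inferInstance
    haveI : IsAffine T.left := by
      haveI := Groth.L25.Central.isAffineHom_of_multTypeFT (Groth.L25.Locus.isMultTypeFT_of_isTorus hT)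
      exact isAffine_of_isAffineHom T.hom
    haveI : QuasiCompact T.hom := inferInstance
    haveI : IsMonHom (t ≫ AffHull.rho G) := inferInstance
    obtain ⟨C, gC, p, j, hp, hj, hpj, hpf, hps, hpl, hjc⟩ := AbelianGrp.exists_image (t ≫ AffHull.rho G)
    haveI := hp; haveI := hj; haveI := hpf; haveI := hps; haveI := hpl; haveI := hjc
    haveI : LocallyOfFiniteType C.hom := by rw [← Over.w j]; infer_instance
    haveI : Smooth C.hom := Groth.L19.AlgGrpBasic.smooth_of_cover p
    haveI : IsAffine C.left := isAffine_of_isAffineHom j.left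
    obtain ⟨H1, gH1, π, hπ, hπs, hπf, hπl, hH1l, hH1q, hH1c, hker⟩ := AbelianGrp.exists_quotient j
    haveI := hπ; haveI := hπs; haveI := hπf; haveI := hπl; haveI := hH1l; haveI := hH1q
    haveI : IsAffine H1.left := NormalQuot.isAffine_of_surjective_hom π
    have hfπ : AffHull.rho G ≫ π = 1 := by
      have hk : t ≫ AffHull.rho G ≫ π = toUnit T ≫ η[H1] := by
        have e : j ≫ π = 1 := hker.w.trans (Hom.one_def).symm
        rw [← Category.assoc, ← hpj, Category.assoc, e, MonObj.comp_one, Hom.one_def]
      obtain ⟨ψ, hψ, hψ', -⟩ := Groth.Agent.S3280.result k G T Gu H1 qu t hu (AffHull.rho G ≫ π) hk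
      haveI := hψ
      rw [← hψ', AffHull.hom_eq_one hOu ψ, MonObj.comp_one]
    let φ : G ⟶ C := hker.lift (AffHull.rho G) (toUnit G) (by rw [hfπ, Hom.one_def])
    have hφ : φ ≫ j = AffHull.rho G := hker.lift_fst _ _ _
    haveI : Mono j := Over.mono_of_mono_left j
    haveI : IsMonHom φ :=
      { one_hom := by rw [← cancel_mono j, Category.assoc, hφ, IsMonHom.one_hom, IsMonHom.one_hom]
        mul_hom := by
          rw [← cancel_mono j, Category.assoc, Category.assoc, hφ, IsMonHom.mul_hom, IsMonHom.mul_hom,
            tensorHom_comp_tensorHom_assoc, hφ] }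
    haveI : IsMonHom (u ≫ φ) := inferInstance
    have hu1 : u ≫ φ = 1 := hom_torusImage_eq_one hT p hU (u ≫ φ)
    have hk : u ≫ AffHull.rho G = toUnit U ≫ η[AffHull.hull G] := by
      rw [← hφ, reassoc_of% hu1, MonObj.one_comp, Hom.one_def]
    obtain ⟨ψ, hψ, hψ', -⟩ := Groth.Agent.S3280.result k G U Gs (AffHull.hull G) qs u hs (AffHull.rho G) hk
    haveI := hψ
    refine AffHull.isIso_appTop_of_rho_eq_one ?_
    rw [← hψ', AffHull.hom_eq_one hOs ψ, MonObj.comp_one]

end Groth.L19.SpecSub
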