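import Groth.Agent.L24.TorusField.NonAffine
import Groth.Agent.L08.Borel.CentralTorusFP
import Groth.Agent.L08.Borel.MaxTorusNonsmooth
import Groth.Agent.S7520

/-!
# Maximal tori of commutative groups locally of finite type
-/

set_option autoImplicit false
set_option backward.isDefEq.respectTransparency.types false
set_option linter.style.haveILetI false

universe u

open CategoryTheory CategoryTheory.Limits MonoidalCategory CartesianMonoidalCategory MonObj GrpObj AlgebraicGeometry

noncomputable section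

namespace Groth.L19.SpecSub

theorem comm_bc {S S' : Scheme.{u}} (π : S' ⟶ S) {G : Over S} [GrpObj G]
    (h : ∀ (X : Over S) (a b : X ⟶ G), a * b = b * a) (X : Over S') (a b : X ⟶ Red.bc π G) : a * b = b * a := by
  apply Groth.L25.CentralLift.toBase_injective
  rw [Groth.L25.NilAction.toBase_mul, Groth.L25.NilAction.toBase_mul]
  exact h _ _ _

theorem isMaxTorus_iso_comp' {S : Scheme.{u}} {G T T' : Over S} [GrpObj G] [GrpObj T] [GrpObj T'] {i : T ⟶ G}
    (h : AGF.IsMaxTorus i) (w : T' ⟶ T) [IsMonHom w] [IsIso w] (hT' : Red.IsTorus T') :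
    AGF.IsMaxTorus (w ≫ i) := by
  haveI := h.1; haveI := h.2.1
  refine ⟨inferInstance, mono_comp _ _, hT', fun T₁ _ a _ _ f h₁ hf => ?_⟩
  haveI : IsIso (inv w ≫ f) := h.2.2.2 T₁ a (inv w ≫ f) h₁ (by rw [Category.assoc, hf, IsIso.inv_hom_id_assoc])
  exact IsIso.of_isIso_comp_left (inv w) f

/-- maximal tori of a clopen subgroup are maximal in the group -/
theorem isMaxTorus_comp_clopen {K : Type u} [Field K] {G C T : Over (Spec (CommRingCat.of K))} [GrpObj G] [GrpObj C]
    [GrpObj T] (j : C ⟶ G) [IsMonHom j] [IsClosedImmersion j.left] [IsOpenImmersion j.left] {i : T ⟶ C}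
    (hT : AGF.IsMaxTorus i) : AGF.IsMaxTorus (i ≫ j) := by
  haveI := hT.1; haveI := hT.2.1
  haveI : Mono j := Groth.L08.mono_of_closedImmersion j
  refine ⟨inferInstance, mono_comp _ _, hT.2.2.1, fun T' _ a _ _ f hT' hf => ?_⟩
  haveI := (Groth.L25.Locus.smooth_connected_torus hT').2
  have hone : a.left (Groth.L25.Component.one T') ∈ Set.range j.left := by
    refine ⟨Groth.L25.Component.one C, ?_⟩
    have e1 : (η : 𝟙_ _ ⟶ C) ≫ j = η := IsMonHom.one_hom j
    have e2 : (η : 𝟙_ _ ⟶ T') ≫ a = η := IsMonHom.one_hom a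
    exact (congr(($e1).left (IsLocalRing.closedPoint _))).trans (congr(($e2).left (IsLocalRing.closedPoint _))).symm
  have hsub : Set.range a.left ⊆ Set.range j.left := by
    obtain ⟨y, hy⟩ := hone
    exact (isPreconnected_range a.left.continuous).subset_isClopen
      ⟨j.left.isClosedEmbedding.isClosed_range, j.left.isOpenEmbedding.isOpen_range⟩
      ⟨_, Set.mem_range_self _, ⟨y, hy⟩⟩
  let aC : T' ⟶ C := Over.homMk (IsOpenImmersion.lift j.left a.left hsub) (by
    rw [← Over.w j, IsOpenImmersion.lift_fac_assoc]; exact Over.w a)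
  have haC : aC ≫ j = a := Over.OverMorphism.ext (IsOpenImmersion.lift_fac _ _ _)
  haveI : IsMonHom aC := Groth.L08.Borel.isMonHom_of_comp_mono aC j a haC
  haveI : Mono aC := mono_of_mono_fac haC
  exact hT.2.2.2 T' aC f hT' (by rw [← cancel_mono j, Category.assoc, haC, hf])

/-- the maximal torus of a commutative group is geometrically maximal, whence stable under field extensions -/
theorem isMaxTorus_bc_of_comm {k K : Type u} [Field k] [Field K] (θ : Spec (CommRingCat.of K) ⟶ Spec (CommRingCat.of k))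
    (G : Over (Spec (CommRingCat.of k))) [GrpObj G] [LocallyOfFiniteType G.hom]
    (hcomm : ∀ (X : Over (Spec (CommRingCat.of k))) (g h : X ⟶ G), g * h = h * g)
    (T : Over (Spec (CommRingCat.of k))) [GrpObj T] (iT : T ⟶ G) (hT : AGF.IsMaxTorus iT) :
    AGF.IsMaxTorus ((Over.pullback θ).map iT) := by
  haveI := hT.1; haveI := hT.2.1
  obtain ⟨C, gC, j, hj, hjc, hjf, hr, -, hcpt⟩ := Groth.Agent.S7520.result k G
  haveI := hj; haveI := hjc; haveI := hjf; haveI := hcpt
  haveI : LocallyOfFinitePresentation G.hom := inferInstance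
  haveI : IsLocallyNoetherian G.left := LocallyOfFiniteType.isLocallyNoetherian G.hom
  haveI : IsOpenImmersion j.left := IsOpenImmersion.of_flat_of_mono j.left
  haveI : Mono j := Groth.L08.mono_of_closedImmersion j
  haveI : LocallyOfFiniteType C.hom := by rw [← Over.w j]; infer_instance
  haveI : QuasiCompact C.hom := quasiCompact_of_compactSpace _
  haveI : LocallyOfFinitePresentation C.hom := inferInstance
  haveI : IsSeparated C.hom := Groth.Agent.AV.isSeparated_of_grpObj C
  let θL := Spec.map (CommRingCat.ofHom (algebraMap k (AlgebraicClosure k)))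
  haveI := (Groth.L24.TorusField.flat_θL (k := k)).1
  haveI := (Groth.L24.TorusField.flat_θL (k := k)).2
  haveI : LocallyOfFiniteType (Red.bc θL C).hom := inferInstanceAs (LocallyOfFiniteType (pullback.snd C.hom θL))
  haveI : QuasiCompact (Red.bc θL C).hom := inferInstanceAs (QuasiCompact (pullback.snd C.hom θL))
  have hC : ∀ (X : Over (Spec (CommRingCat.of k))) (a b : X ⟶ C), a * b = b * a := fun X a b => by
    rw [← cancel_mono j, MonObj.mul_comp, MonObj.mul_comp, hcomm]
  obtain ⟨T₁, g₁, i₁, h₁⟩ := Groth.L24.TorusField.exists_isMaxTorus_general (Red.bc θL C)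
  obtain ⟨T₂, g₂, i₂, h₂, -⟩ := Groth.L08.Borel.exists_central_maximalTorus_desc (π := θL)
    (Groth.L24.TorusField.cover_θL (k := k)) (Groth.L08.Borel.isMaximalTorus_of_isMaxTorus h₁)
    (fun X t g => comm_bc θL hC X _ _)
  haveI := h₂.1; haveI := h₂.2.1
  have hG : Red.IsMaximalTorus (i₂ ≫ j) :=
    Groth.L24.TorusField.isMaximalTorus_comp_idComp ⟨hj, hjc, inferInstance, hr⟩ h₂
  obtain ⟨f, hf⟩ := Groth.L08.Borel.exists_fac_of_commute hG iT hT.2.2.1 (fun X t r => hcomm X _ _)
  haveI : Mono (i₂ ≫ j) := mono_comp _ _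
  haveI : IsMonHom f := Groth.L08.Borel.isMonHom_of_comp_mono f (i₂ ≫ j) iT hf
  haveI : IsIso f := hT.2.2.2 T₂ (i₂ ≫ j) f h₂.2.2.1 hf
  let F := Over.pullback θ
  haveI : IsMonHom (F.map j) := Groth.L25.MonoClosed.isMonHom_pullbackMap _ _
  haveI : IsMonHom (F.map f) := Groth.L25.MonoClosed.isMonHom_pullbackMap _ _
  haveI : IsClosedImmersion (F.map j).left :=
    MorphismProperty.of_isPullback (Groth.L25.SchImage.isPullback_fst_map θ j) hjc
  haveI : IsOpenImmersion (F.map j).left :=
    MorphismProperty.of_isPullback (Groth.L25.SchImage.isPullback_fst_map θ j) ‹_›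
  have h₃ := isMaxTorus_comp_clopen (F.map j)
    (Groth.L24.TorusField.isMaxTorus_of_isMaximalTorus_field (Groth.L08.Borel.isMaximalTorus_bc_fp h₂ θ))
  rw [show F.map iT = F.map f ≫ F.map i₂ ≫ F.map j by rw [← F.map_comp, ← F.map_comp, hf]]
  exact isMaxTorus_iso_comp' h₃ (F.map f) (Groth.L25.Locus.isTorus_bc hT.2.2.1 θ)

end Groth.L19.SpecSub
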