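import Mathlib.AlgebraicGeometry.Morphisms.SchemeTheoreticallyDominant
import Mathlib.AlgebraicGeometry.Morphisms.Immersion
import Mathlib.AlgebraicGeometry.Morphisms.Separated

/-!
# Morphisms agreeing on a dominant subscheme agree on connected schemes over a separated fibre
-/

set_option autoImplicit false
universe u

open CategoryTheory CategoryTheory.Limits AlgebraicGeometry

namespace Groth.L19.SpecSub

/-- An immersion through which a scheme-theoretically dominant morphism factors is open. -/
theorem isOpenImmersion_of_schDom {P E X : Scheme.{u}} (q : P ⟶ X) [IsSchemeTheoreticallyDominant q]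
    [QuasiCompact q] (e : E ⟶ X) [IsImmersion e] (l : P ⟶ E) (hl : l ≫ e = q) : IsOpenImmersion e := by
  let W := e.coborderRange
  let q' : pullback q W.ι ⟶ W := pullback.snd q W.ι
  let l' : pullback q W.ι ⟶ E := pullback.fst q W.ι ≫ l
  have hl' : l' ≫ e.liftCoborder = q' := by
    rw [← cancel_mono W.ι, Category.assoc, e.liftCoborder_ι, ← pullback.condition]
    simp only [l', Category.assoc, hl]
  have hk : e.liftCoborder.ker = ⊥ := by
    refine le_bot_iff.1 ?_
    rw [← q'.ker_eq_bot, ← hl']
    exact Scheme.Hom.le_ker_comp _ _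
  haveI : IsIso e.liftCoborder := IsClosedImmersion.isIso_iff_ker_eq_bot.2 hk
  rw [← e.liftCoborder_ι]
  infer_instance

/-- Two morphisms to `Y` agreeing on a scheme-theoretically dominant subscheme agree on any connected scheme over
a separated fibre on which they agree at some point. -/
theorem eq_of_connected {B X Y P T K Z : Scheme.{u}} (pY : Y ⟶ B) (a b : X ⟶ Y) (w : a ≫ pY = b ≫ pY)
    (q : P ⟶ X) [IsSchemeTheoreticallyDominant q] [QuasiCompact q] (h : q ≫ a = q ≫ b)
    (r : K ⟶ B) [IsSeparated (pullback.snd pY r)] [ConnectedSpace T] (τ : T ⟶ X) (ρ : T ⟶ K)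
    (hτ : τ ≫ a ≫ pY = ρ ≫ r) [Nonempty Z] (p : Z ⟶ T) (hp : p ≫ τ ≫ a = p ≫ τ ≫ b) :
    τ ≫ a = τ ≫ b := by
  let Δ := pullback.diagonal pY
  let m : X ⟶ pullback pY pY := pullback.lift a b w
  let e := pullback.fst m Δ
  haveI : IsImmersion e := inferInstanceAs (IsImmersion (pullback.fst m (pullback.diagonal pY)))
  have mk : ∀ {U : Scheme.{u}} (u : U ⟶ X), u ≫ a = u ≫ b → ∃ l : U ⟶ pullback m Δ, l ≫ e = u := fun u hu =>
    ⟨pullback.lift u (u ≫ a) (by
      apply pullback.hom_ext
      · simp only [Category.assoc, m, Δ, pullback.diagonal_fst, Category.comp_id]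
        exact congrArg (u ≫ ·) (pullback.lift_fst _ _ _)
      · simp only [Category.assoc, m, Δ, pullback.diagonal_snd, Category.comp_id]
        exact (congrArg (u ≫ ·) (pullback.lift_snd _ _ _)).trans hu.symm), pullback.lift_fst _ _ _⟩
  obtain ⟨l, hl⟩ := mk q h
  haveI : IsOpenImmersion e := isOpenImmersion_of_schDom q e l hl
  have heq : e ≫ a = e ≫ b := by
    have h₁ := congrArg (· ≫ pullback.fst pY pY) (pullback.condition (f := m) (g := Δ))
    have h₂ := congrArg (· ≫ pullback.snd pY pY) (pullback.condition (f := m) (g := Δ))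
    simp only [Category.assoc, m, Δ, pullback.lift_fst, pullback.lift_snd, pullback.diagonal_fst,
      pullback.diagonal_snd, Category.comp_id] at h₁ h₂
    exact h₁.trans h₂.symm
  -- the equaliser in the separated fibre
  have w' : τ ≫ b ≫ pY = ρ ≫ r := by rw [← w, hτ]
  let α : T ⟶ pullback pY r := pullback.lift (τ ≫ a) ρ (by rw [Category.assoc, hτ])
  let β : T ⟶ pullback pY r := pullback.lift (τ ≫ b) ρ (by rw [Category.assoc, w'])
  let sY := pullback.snd pY r
  let n : T ⟶ pullback sY sY := pullback.lift α β (by rw [pullback.lift_snd, pullback.lift_snd])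
  let c := pullback.fst n (pullback.diagonal sY)
  haveI : IsClosedImmersion c :=
    inferInstanceAs (IsClosedImmersion (pullback.fst n (pullback.diagonal sY)))
  have hc : (c ≫ τ) ≫ a = (c ≫ τ) ≫ b := by
    have h₁ := congrArg (· ≫ pullback.fst sY sY) (pullback.condition (f := n) (g := pullback.diagonal sY))
    have h₂ := congrArg (· ≫ pullback.snd sY sY) (pullback.condition (f := n) (g := pullback.diagonal sY))
    simp only [Category.assoc, n, pullback.lift_fst, pullback.lift_snd, pullback.diagonal_fst,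
      pullback.diagonal_snd, Category.comp_id] at h₁ h₂
    have := congrArg (· ≫ pullback.fst pY r) (h₁.trans h₂.symm)
    have eα : α ≫ pullback.fst pY r = τ ≫ a := pullback.lift_fst _ _ _
    have eβ : β ≫ pullback.fst pY r = τ ≫ b := pullback.lift_fst _ _ _
    simp only [Category.assoc] at this ⊢
    rw [eα, eβ] at this
    exact this
  obtain ⟨l₁, hl₁⟩ := mk _ hc
  let O : T.Opens := τ ⁻¹ᵁ e.opensRange
  have hO : (O : Set T) = Set.range c := by
    refine Set.Subset.antisymm (fun t ht => ?_) ?_
    · have hr : Set.range (O.ι ≫ τ) ⊆ Set.range e := by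
        rintro _ ⟨⟨s, hs⟩, rfl⟩
        exact hs
      have hf : IsOpenImmersion.lift e (O.ι ≫ τ) hr ≫ e = O.ι ≫ τ := IsOpenImmersion.lift_fac _ _ _
      have he : O.ι ≫ τ ≫ a = O.ι ≫ τ ≫ b := by
        rw [← Category.assoc, ← hf, Category.assoc, heq, ← Category.assoc, hf, Category.assoc]
      have hαβ : O.ι ≫ α = O.ι ≫ β := by
        apply pullback.hom_ext
        · rw [Category.assoc, Category.assoc, show α ≫ pullback.fst pY r = τ ≫ a from pullback.lift_fst _ _ _,
            show β ≫ pullback.fst pY r = τ ≫ b from pullback.lift_fst _ _ _]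
          exact he
        · rw [Category.assoc, Category.assoc, show α ≫ pullback.snd pY r = ρ from pullback.lift_snd _ _ _,
            show β ≫ pullback.snd pY r = ρ from pullback.lift_snd _ _ _]
      let g : O.toScheme ⟶ pullback n (pullback.diagonal sY) := pullback.lift O.ι (O.ι ≫ α) (by
        apply pullback.hom_ext
        · simp only [Category.assoc, pullback.diagonal_fst, Category.comp_id]
          exact congrArg (O.ι ≫ ·) (pullback.lift_fst _ _ _)
        · simp only [Category.assoc, pullback.diagonal_snd, Category.comp_id]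
          exact (congrArg (O.ι ≫ ·) (pullback.lift_snd _ _ _)).trans hαβ.symm)
      have hg : g ≫ c = O.ι := pullback.lift_fst _ _ _
      exact ⟨g (⟨t, ht⟩ : O.toScheme), congr($hg (⟨t, ht⟩ : O.toScheme))⟩
    · rintro _ ⟨y, rfl⟩
      refine ⟨l₁ y, ?_⟩
      rw [← Scheme.Hom.comp_apply, hl₁]
      rfl
  have hne : (O : Set T).Nonempty := by
    obtain ⟨l₂, hl₂⟩ := mk (p ≫ τ) (by simpa using hp)
    obtain ⟨z⟩ := ‹Nonempty Z›
    exact ⟨p z, ⟨l₂ z, by rw [← Scheme.Hom.comp_apply, hl₂]; rfl⟩⟩
  have huniv : (O : Set T) = Set.univ :=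
    IsClopen.eq_univ ⟨hO ▸ c.isClosedEmbedding.isClosed_range, O.2⟩ hne
  have hr : Set.range τ ⊆ Set.range e := by
    rintro _ ⟨t, rfl⟩
    exact huniv.ge (Set.mem_univ t)
  rw [← IsOpenImmersion.lift_fac e τ hr, Category.assoc, heq, Category.assoc]

end Groth.L19.SpecSub
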