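import Groth.Agent.L19.SpecSub.Step
import Groth.Agent.L01.Regular
import Mathlib.RingTheory.LocalRing.ResidueField.Ideal
import Mathlib.RingTheory.DiscreteValuationRing.TFAE

/-!
# Specialisation of subgroups over a regular local ring
-/

set_option autoImplicit false
set_option backward.isDefEq.respectTransparency.types false
set_option linter.style.haveILetI false

universe u

open CategoryTheory CategoryTheory.Limits MonoidalCategory CartesianMonoidalCategory MonObj GrpObj AlgebraicGeometry

noncomputable section

namespace Groth.L19.SpecSub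

variable {P : Pred.{u}} {S : Scheme.{u}} {G : Over S} [GrpObj G] {d : WithBot ℕ∞}

theorem map_comp_map {A B C : Type u} [CommRing A] [CommRing B] [CommRing C] (φ : A →+* B) (ψ : B →+* C)
    (f : Spec (CommRingCat.of A) ⟶ S) :
    Spec.map (CommRingCat.ofHom ψ) ≫ Spec.map (CommRingCat.ofHom φ) ≫ f =
      Spec.map (CommRingCat.ofHom (ψ.comp φ)) ≫ f := by
  rw [← Spec.map_comp_assoc, ← CommRingCat.ofHom_comp]

/-- a field point through another one -/
theorem has_congr_ring (hP : Stable P) {R : Type u} [CommRing R] {F F' : Type u} [Field F] [Field F']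
    (φ : F →+* F') (hφ : Function.Bijective φ) (a : R →+* F) (a' : R →+* F') (ha : φ.comp a = a')
    (f : Spec (CommRingCat.of R) ⟶ S) (h : Has P G d (Spec.map (CommRingCat.ofHom a) ≫ f)) :
    Has P G d (Spec.map (CommRingCat.ofHom a') ≫ f) :=
  has_congr hP φ hφ (by rw [map_comp_map, ha]) h

/-- two fraction fields give the same field point -/
theorem has_congr_frac (hP : Stable P) {R : Type u} [CommRing R] [IsDomain R] (F F' : Type u) [Field F] [Field F']
    [Algebra R F] [IsFractionRing R F] [Algebra R F'] [IsFractionRing R F']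
    (f : Spec (CommRingCat.of R) ⟶ S) (h : Has P G d (Spec.map (CommRingCat.ofHom (algebraMap R F)) ≫ f)) :
    Has P G d (Spec.map (CommRingCat.ofHom (algebraMap R F')) ≫ f) :=
  let e := IsLocalization.algEquiv (nonZeroDivisors R) F F'
  has_congr_ring hP e.toRingEquiv.toRingHom e.bijective _ _ (RingHom.ext fun r => e.commutes r) f h

theorem isDVR_of_span_singleton (R : Type u) [CommRing R] [IsNoetherianRing R] [IsDomain R] (t : R) (ht : t ≠ 0)
    [hp : (Ideal.span {t}).IsPrime] : IsDiscreteValuationRing (Localization.AtPrime (Ideal.span {t})) := by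
  let p := Ideal.span {t}
  let V := Localization.AtPrime p
  haveI : IsNoetherianRing V := IsLocalization.isNoetherianRing p.primeCompl V inferInstance
  have hm : IsLocalRing.maximalIdeal V = Ideal.span {algebraMap R V t} := by
    rw [← Localization.AtPrime.map_eq_maximalIdeal, Ideal.map_span, Set.image_singleton]
  have hf : ¬ IsField V := by
    rw [IsLocalRing.isField_iff_maximalIdeal_eq, hm, Ideal.span_singleton_eq_bot]
    exact fun h => ht ((IsLocalization.injective V p.primeCompl_le_nonZeroDivisors) (h.trans (map_zero _).symm))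
  have hP : (IsLocalRing.maximalIdeal V).IsPrincipal := ⟨⟨algebraMap R V t, hm⟩⟩
  exact ((IsDiscreteValuationRing.TFAE V hf).out 4 0).1 hP

theorem spec_induction [LocallyOfFinitePresentation G.hom] (hP : Stable P) (hS : Specialises P G) :
    ∀ (n : ℕ) (R : Type u) [CommRing R] [IsDomain R] [IsRegularLocalRing R]
      (f : Spec (CommRingCat.of R) ⟶ S), ringKrullDim R = n →
      Has P G d (Spec.map (CommRingCat.ofHom (algebraMap R (FractionRing R))) ≫ f) →
      Has P G d (Spec.map (CommRingCat.ofHom (algebraMap R (IsLocalRing.ResidueField R))) ≫ f) := by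
  intro n
  induction n using Nat.strong_induction_on with
  | _ n ih =>
    intro R _ _ _ f hn h
    by_cases hR : IsField R
    · have hb : Function.Bijective (algebraMap R (FractionRing R)) :=
        IsField.localization_map_bijective (M := nonZeroDivisors R) (fun h0 => nonZeroDivisors.ne_zero h0 rfl) hR
      let a := RingEquiv.ofBijective (algebraMap R (FractionRing R)) hb
      let φ : FractionRing R →+* IsLocalRing.ResidueField R :=
        (algebraMap R (IsLocalRing.ResidueField R)).comp a.symm.toRingHom
      refine has_congr_ring hP φ ⟨φ.injective, ?_⟩ _ _ (RingHom.ext fun r => ?_) f h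
      · exact IsLocalRing.residue_surjective.comp a.symm.surjective
      · exact congrArg _ (a.symm_apply_apply r)
    have hm : IsLocalRing.maximalIdeal R ≠ ⊥ := fun e => hR (IsLocalRing.isField_iff_maximalIdeal_eq.2 e)
    obtain ⟨t, ht, ht2⟩ : ∃ t ∈ IsLocalRing.maximalIdeal R, t ∉ IsLocalRing.maximalIdeal R ^ 2 := by
      by_contra hc
      push_neg at hc
      refine hm (Submodule.eq_bot_of_le_smul_of_le_jacobson_bot (IsLocalRing.maximalIdeal R) _
        (Ideal.fg_of_isNoetherianRing _) ?_ (IsLocalRing.maximalIdeal_le_jacobson _))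
      intro x hx
      simpa [pow_two] using hc x hx
    obtain ⟨hq, hqd⟩ := Groth.L01.regular_quotient_of_notMem_sq ht ht2
    let p := Ideal.span {t}
    haveI : IsDomain (R ⧸ p) := Groth.L01.isDomain_of_regular _
    haveI hp : p.IsPrime := (Ideal.Quotient.isDomain_iff_prime _).1 ‹_›
    haveI := isDVR_of_span_singleton R t (Groth.L01.ne_zero_of_notMem_sq ht2)
    obtain ⟨m, hm'⟩ := Groth.L01.exists_dim_eq_nat (R := R ⧸ p)
    have hmn : m < n := by
      have e := hqd
      rw [show ringKrullDim (R ⧸ Ideal.span {t}) = (m : WithBot ℕ∞) from hm', hn] at e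
      have : m + 1 = n := by exact_mod_cast e
      omega
    let V := Localization.AtPrime p
    let fV : Spec (CommRingCat.of V) ⟶ S := Spec.map (CommRingCat.ofHom (algebraMap R V)) ≫ f
    haveI : IsFractionRing R (FractionRing V) := by
      have e : (nonZeroDivisors V).comap (algebraMap R V) = nonZeroDivisors R := by
        ext x
        simp only [Submonoid.mem_comap, mem_nonZeroDivisors_iff_ne_zero]
        exact map_ne_zero_iff _ (IsLocalization.injective V p.primeCompl_le_nonZeroDivisors)
      show IsLocalization (nonZeroDivisors R) (FractionRing V)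
      rw [← e]
      exact IsLocalization.localization_localization_isLocalization_of_has_all_units p.primeCompl
        (nonZeroDivisors V) (FractionRing V) fun x hx => mem_nonZeroDivisors_iff_ne_zero.2 hx.ne_zero
    have h1 : Has P G d (Neron.genPt V ≫ fV) := by
      show Has P G d (Spec.map (CommRingCat.ofHom (algebraMap V (FractionRing V))) ≫ _)
      rw [map_comp_map, ← IsScalarTower.algebraMap_eq]
      exact has_congr_frac hP _ _ f h
    have h2 := dvr_step hP hS fV h1
    change Has P G d (Spec.map (CommRingCat.ofHom (algebraMap V p.ResidueField)) ≫ _) at h2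
    rw [map_comp_map, ← IsScalarTower.algebraMap_eq, IsScalarTower.algebraMap_eq R (R ⧸ p) p.ResidueField,
      ← map_comp_map] at h2
    have h3 := ih m hmn (R ⧸ p) (Spec.map (CommRingCat.ofHom (algebraMap R (R ⧸ p))) ≫ f) hm'
      (has_congr_frac hP _ _ _ h2)
    haveI : IsLocalHom (algebraMap R (R ⧸ p)) := IsLocalHom.of_surjective _ Ideal.Quotient.mk_surjective
    let ψ : IsLocalRing.ResidueField R →+* IsLocalRing.ResidueField (R ⧸ p) :=
      IsLocalRing.ResidueField.map (algebraMap R (R ⧸ p))
    have hψ : Function.Bijective ψ := ⟨ψ.injective, fun y => by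
      obtain ⟨z, rfl⟩ := IsLocalRing.residue_surjective y
      obtain ⟨w, rfl⟩ := Ideal.Quotient.mk_surjective z
      exact ⟨IsLocalRing.residue R w, IsLocalRing.ResidueField.map_residue _ w⟩⟩
    rw [map_comp_map] at h3
    exact has_congr_ring hP (RingEquiv.ofBijective ψ hψ).symm.toRingHom (RingEquiv.bijective _) _ _ (RingHom.ext fun r =>
      (RingEquiv.ofBijective ψ hψ).injective (((RingEquiv.ofBijective ψ hψ).apply_symm_apply _).trans rfl)) f h3

/-- the statement over `Spec A` itself -/
theorem has_special (A : Type u) [CommRing A] [IsDomain A] [IsRegularLocalRing A] (K : Type u) [Field K]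
    [Algebra A K] [IsFractionRing A K] (G : Over (Spec (CommRingCat.of A))) [GrpObj G]
    [LocallyOfFinitePresentation G.hom] (hP : Stable P) (hS : Specialises P G)
    (h : Has P G d (Spec.map (CommRingCat.ofHom (algebraMap A K)))) :
    Has P G d (Spec.map (CommRingCat.ofHom (algebraMap A (IsLocalRing.ResidueField A)))) := by
  obtain ⟨n, hn⟩ := Groth.L01.exists_dim_eq_nat (R := A)
  have h' : Has P G d (Spec.map (CommRingCat.ofHom (algebraMap A (FractionRing A))) ≫ 𝟙 _) :=
    has_congr_frac hP K (FractionRing A) (𝟙 _) (by rwa [Category.comp_id])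
  simpa using spec_induction hP hS n A (𝟙 _) hn h'

end Groth.L19.SpecSub
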