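import Groth.Agent.L19.SpecSub.IsogenySolv
import Groth.Agent.L08.Borel.TorusImage
import Groth.Agent.L08.Borel.GenNilp
import Groth.Agent.L08.HomLocus
import Groth.Agent.L25.Component
import Groth.Agent.S5366
import Groth.Agent.S7999

/-!
# Properties of connected affine groups invariant under isogenies
-/

set_option autoImplicit false
set_option backward.isDefEq.respectTransparency.types false
set_option linter.style.haveILetI false

universe u

open CategoryTheory CategoryTheory.Limits MonoidalCategory CartesianMonoidalCategory MonObj GrpObj AlgebraicGeometry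
open scoped commutatorElement

noncomputable section

namespace Groth.L19.SpecSub

section Closed

variable {k : Type u} [Field k] [IsAlgClosed k]

local notation "B₀" => Spec (CommRingCat.of k)
local notation "U₀" => 𝟙_ (Over (Spec (CommRingCat.of k)))

theorem pt_mem_closed {X : Over B₀} [LocallyOfFiniteType X.hom] (a : U₀ ⟶ X) :
    a.left (IsLocalRing.closedPoint k) ∈ closedPoints X.left :=
  ((pointEquivClosedPoint X.hom) ⟨_, Over.w a⟩).2

/-- A family of rational points of a finite kernel parametrised by a connected scheme is constant. -/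
theorem eq_one_of_finite {X R Q : Over B₀} [GrpObj R] [GrpObj Q] [LocallyOfFiniteType X.hom]
    [LocallyOfFiniteType R.hom] [IsSeparated R.hom] [ConnectedSpace X.left] [IsReduced X.left]
    (f : R ⟶ Q) [IsMonHom f] [IsFinite f.left] (m : X ⟶ R) (hm : ∀ a : U₀ ⟶ X, (a ≫ m) ≫ f = 1)
    (o : U₀ ⟶ X) (ho : o ≫ m = 1) : m = 1 := by
  let e : Q.left := (1 : U₀ ⟶ Q).left (IsLocalRing.closedPoint k)
  let P : Set R.left := f.left ⁻¹' {e} ∩ closedPoints R.left
  have hPf : P.Finite := (f.left.finite_preimage_singleton e).subset Set.inter_subset_left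
  have hPc : IsClosed P := by
    rw [← Set.biUnion_of_singleton P]
    exact hPf.isClosed_biUnion fun y hy => hy.2
  haveI : JacobsonSpace X.left := LocallyOfFiniteType.jacobsonSpace X.hom
  have hpt : ∀ y ∈ closedPoints X.left, m.left y ∈ P := by
    intro y hy
    obtain ⟨⟨s, hs⟩, hsy⟩ := (pointEquivClosedPoint X.hom).surjective ⟨y, hy⟩
    have hsy' : s (IsLocalRing.closedPoint k) = y := congrArg Subtype.val hsy
    let a : U₀ ⟶ X := Over.homMk s hs
    have hy2 : m.left y = (a ≫ m).left (IsLocalRing.closedPoint k) := by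
      rw [Over.comp_left, Scheme.Hom.comp_apply]
      exact congrArg m.left hsy'.symm
    rw [hy2]
    refine ⟨?_, pt_mem_closed _⟩
    show f.left _ = e
    rw [← Scheme.Hom.comp_apply, ← Over.comp_left, hm]
  have huniv : Set.range m.left ⊆ P := by
    have h1 : closure (closedPoints X.left) ⊆ m.left ⁻¹' P :=
      closure_minimal hpt (hPc.preimage m.left.continuous)
    rw [closure_closedPoints] at h1
    rintro _ ⟨y, rfl⟩
    exact h1 (Set.mem_univ y)
  haveI := ((hPf.subset huniv).isDiscrete_of_subset_closedPoints (huniv.trans Set.inter_subset_right)).to_subtype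
  haveI := Subtype.preconnectedSpace (isPreconnected_range m.left.continuous)
  haveI : Subsingleton (Set.range m.left) := PreconnectedSpace.trivial_of_discrete
  haveI : LocallyOfFiniteType (m.left ≫ R.hom) := by rw [Over.w m]; infer_instance
  refine Over.OverMorphism.ext (ext_of_apply_eq R.hom Set.univ isClosed_univ.isLocallyClosed dense_univ
    (fun y _ hy => ?_) ((Over.w m).trans (Over.w _).symm))
  obtain ⟨⟨s, hs⟩, hsy⟩ := (pointEquivClosedPoint X.hom).surjective ⟨y, hy⟩
  have hsy' : s (IsLocalRing.closedPoint k) = y := congrArg Subtype.val hsy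
  let a : U₀ ⟶ X := Over.homMk s hs
  have h2 : a ≫ m = a ≫ (1 : X ⟶ R) := by
    rw [MonObj.comp_one, ← ho]
    exact pt_ext (congrArg Subtype.val
      (Subsingleton.elim (⟨_, ⟨_, rfl⟩⟩ : Set.range m.left) ⟨_, ⟨_, rfl⟩⟩))
  rw [← hsy']
  exact congr(($h2).left (IsLocalRing.closedPoint k))

theorem exists_pt_lift {G H : Over B₀} (f : G ⟶ H) [IsFinite f.left] [Surjective f.left]
    [LocallyOfFiniteType G.hom] [LocallyOfFiniteType H.hom] (b : U₀ ⟶ H) : ∃ a : U₀ ⟶ G, a ≫ f = b := by
  have hy := pt_mem_closed b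
  haveI : JacobsonSpace G.left := LocallyOfFiniteType.jacobsonSpace G.hom
  let y := b.left (IsLocalRing.closedPoint k)
  have hne : (f.left ⁻¹' {y}).Nonempty := f.left.surjective y
  obtain ⟨x, hx, hxc⟩ := nonempty_inter_closedPoints hne (hy.preimage f.left.continuous).isLocallyClosed
  obtain ⟨⟨s, hs⟩, hsx⟩ := (pointEquivClosedPoint G.hom).surjective ⟨x, hxc⟩
  refine ⟨Over.homMk s hs, pt_ext ?_⟩
  rw [Over.comp_left, Scheme.Hom.comp_apply]
  exact (congrArg f.left (congrArg Subtype.val hsx)).trans hx

/-- a trivial maximal torus -/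
theorem hasNoSubtorus_of_maxTorus_one {G T : Over B₀} [GrpObj G] [GrpObj T] {i : T ⟶ G} (hT : AGF.IsMaxTorus i)
    (h : i = 1) : Red.HasNoSubtorus k G := by
  intro S _ j _ _ hS
  haveI := hT.1
  haveI := hT.2.1
  haveI : IsIso (toUnit T ≫ η[S]) := hT.2.2.2 S j (toUnit T ≫ η[S]) hS (by
    rw [Category.assoc, IsMonHom.one_hom, h, Hom.one_def])
  haveI : IsSplitEpi (η[S] : U₀ ⟶ S) :=
    IsSplitEpi.mk' ⟨CategoryTheory.inv (toUnit T ≫ η[S]) ≫ toUnit T, by
      rw [Category.assoc, IsIso.inv_hom_id]⟩
  haveI : IsSplitMono (η[S] : U₀ ⟶ S) := IsSplitMono.mk' ⟨toUnit S, toUnit_unique _ _⟩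
  haveI : IsIso (η[S] : U₀ ⟶ S) := isIso_of_mono_of_isSplitEpi _
  show IsIso S.hom
  haveI : IsIso (η[S] : U₀ ⟶ S).left := inferInstanceAs (IsIso ((Over.forget _).map η[S]))
  have e : (η[S] : U₀ ⟶ S).left ≫ S.hom = 𝟙 _ := Over.w _
  rw [(IsIso.eq_inv_comp _).2 e]
  infer_instance

theorem maxTorus_eq_one {G T : Over B₀} [GrpObj G] [GrpObj T] {i : T ⟶ G} (hT : AGF.IsMaxTorus i)
    (h : Red.HasNoSubtorus k G) : i = 1 := by
  haveI := hT.1
  haveI := hT.2.1
  haveI : IsIso T.hom := h T i hT.2.2.1
  haveI : IsIso ((Over.forget _).map (toUnit T)) := by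
    show IsIso (toUnit T).left
    rw [show (toUnit T).left = T.hom by simp]
    infer_instance
  haveI : IsIso (toUnit T) := isIso_of_reflects_iso (toUnit T) (Over.forget _)
  have hη : toUnit T ≫ η[T] = 𝟙 T := by
    rw [← cancel_mono (toUnit T)]
    exact toUnit_unique _ _
  rw [Hom.one_def, ← IsMonHom.one_hom i, ← Category.assoc, hη, Category.id_comp]

theorem hasNoSubtorus_iff {G H : Over B₀} [GrpObj G] [GrpObj H] [Smooth G.hom] [IsAffine G.left]
    [ConnectedSpace G.left] [Smooth H.hom] [IsAffine H.left] [ConnectedSpace H.left] (f : G ⟶ H) [IsMonHom f]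
    [IsFinite f.left] [Surjective f.left] : Red.HasNoSubtorus k G ↔ Red.HasNoSubtorus k H := by
  haveI : QuasiCompact G.hom := quasiCompact_of_compactSpace _
  haveI : LocallyOfFiniteType G.hom := inferInstance
  haveI : LocallyOfFiniteType H.hom := inferInstance
  obtain ⟨T, gT, iT, hT⟩ := Groth.L08.Borel.exists_maxTorus_gen G
  haveI := hT.1; haveI := hT.2.1
  obtain ⟨hTa, hTs, hTc, -, -⟩ := Groth.L08.Borel.torus_props hT.2.2.1
  haveI := hTa; haveI := hTs; haveI := hTc
  haveI : LocallyOfFiniteType T.hom := inferInstance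
  haveI : QuasiCompact T.hom := quasiCompact_of_compactSpace _
  haveI : IsReduced T.left := Groth.Agent.AV.isReduced_of_smooth_field T.hom
  let v : T ⟶ H := iT ≫ f
  haveI : IsMonHom v := inferInstanceAs (IsMonHom (iT ≫ f))
  haveI : IsClosedImmersion iT.left := by
    haveI : Mono iT.left := inferInstanceAs (Mono ((Over.forget _).map iT))
    haveI : QuasiCompact iT.left := by
      haveI : QuasiCompact (iT.left ≫ G.hom) := by rw [Over.w iT]; infer_instance
      exact QuasiCompact.of_comp iT.left G.hom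
    exact Groth.L08.MonoClosed.isClosedImmersion_of_field iT
  haveI : IsFinite v.left := by
    haveI : IsFinite iT.left := inferInstance
    rw [Over.comp_left]
    infer_instance
  have hS := Groth.Lead.Neutral.range_isSubgroupSet v
  obtain ⟨T', gT', w, hw, hred, hwc, hwr⟩ := Groth.L08.MonoClosed.exists_reduced_subgroup (G := H) _
    v.left.isClosedMap.isClosed_range hS.one_mem hS.mul_mem hS.inv_mem
  obtain ⟨r, hr, hrw⟩ := exists_factor v w hwr.symm.subset
  haveI : Surjective r.left := ⟨fun y => by
    obtain ⟨x, hx⟩ := hwr.subset (Set.mem_range_self y)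
    refine ⟨x, w.left.isEmbedding.injective ?_⟩
    rw [← Scheme.Hom.comp_apply, ← Over.comp_left, hrw]
    exact hx⟩
  have hT' : AGF.IsMaxTorus w := Groth.L08.Borel.isMaxTorus_of_image f hT w r hrw
  constructor
  · intro h
    refine hasNoSubtorus_of_maxTorus_one hT' ?_
    haveI : LocallyOfFiniteType T'.hom := by rw [← Over.w w]; infer_instance
    haveI : IsSeparated H.hom := inferInstance
    haveI : LocallyOfFiniteType (w.left ≫ H.hom) := by rw [Over.w w]; infer_instance
    refine Over.OverMorphism.ext (ext_of_apply_eq H.hom Set.univ isClosed_univ.isLocallyClosed dense_univ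
      (fun y _ _ => ?_) ((Over.w w).trans (Over.w _).symm))
    obtain ⟨x, rfl⟩ := r.left.surjective y
    have e1 : r ≫ w = r ≫ (1 : T' ⟶ H) := by
      rw [hrw, MonObj.comp_one]
      show iT ≫ f = 1
      rw [maxTorus_eq_one hT h, MonObj.one_comp]
    exact congr(($e1).left x)
  · intro h
    refine hasNoSubtorus_of_maxTorus_one hT ?_
    refine eq_one_of_finite f iT (fun a => ?_) η[T] ?_
    · have e1 : iT ≫ f = 1 := by
        change v = 1
        rw [← hrw, maxTorus_eq_one hT' h, MonObj.comp_one]
      rw [Category.assoc, e1, MonObj.comp_one]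
    · rw [IsMonHom.one_hom, Hom.one_def, toUnit_unique (toUnit U₀) (𝟙 _), Category.id_comp]

end Closed

section Field

variable (F : Type u) [Field F]

local notation "tF" => Spec.map (CommRingCat.ofHom (algebraMap F (AlgebraicClosure F)))
local notation "UΩ" => 𝟙_ (Over (Spec (CommRingCat.of (AlgebraicClosure F))))

/-- points over the algebraic closure -/
def geomPtsEquiv (G : Over (Spec (CommRingCat.of F))) [GrpObj G] :
    ((Over.mk tF : Over (Spec (CommRingCat.of F))) ⟶ G) ≃* (UΩ ⟶ Red.bc tF G) :=
  let e : (Over.map tF).obj UΩ ≅ (Over.mk tF : Over (Spec (CommRingCat.of F))) :=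
    Over.isoMk (Iso.refl _) (by
      show 𝟙 _ ≫ tF = 𝟙 _ ≫ tF
      rfl)
  MulEquiv.trans
    { toFun := fun a => e.hom ≫ a
      invFun := fun a => e.inv ≫ a
      left_inv := fun a => e.inv_hom_id_assoc a
      right_inv := fun a => e.hom_inv_id_assoc a
      map_mul' := fun a b => MonObj.comp_mul e.hom a b }
    (Groth.Agent.S18082.pullEquiv G tF UΩ)

variable {F}

theorem connected_geom (G : Over (Spec (CommRingCat.of F))) [GrpObj G] [Smooth G.hom] [ConnectedSpace G.left] :
    ConnectedSpace ↥(Red.bc tF G).left := by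
  haveI : IsLocallyNoetherian G.left := LocallyOfFiniteType.isLocallyNoetherian G.hom
  haveI : IrreducibleSpace G.left := Groth.L25.Component.irreducibleSpace G
  haveI : GeometricallyIrreducible G.hom := Groth.L25.Component.geometricallyIrreducible G
  haveI : Subsingleton (Spec (CommRingCat.of (AlgebraicClosure F))) :=
    inferInstanceAs (Subsingleton (PrimeSpectrum (AlgebraicClosure F)))
  haveI : IrreducibleSpace (Spec (CommRingCat.of (AlgebraicClosure F))) :=
    inferInstanceAs (IrreducibleSpace (PrimeSpectrum (AlgebraicClosure F)))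
  haveI : IrreducibleSpace ↥(pullback G.hom tF) := inferInstance
  exact (inferInstance : ConnectedSpace ↥(pullback G.hom tF))

variable (G H : Over (Spec (CommRingCat.of F))) [GrpObj G] [GrpObj H]

theorem solvable_iff_pts [Smooth G.hom] [QuasiCompact G.hom] :
    Red.IsSolvableGrp G ↔ ∃ n : ℕ, derivedSeries (UΩ ⟶ Red.bc tF G) n = ⊥ := by
  refine exists_congr fun n => ((Groth.Agent.S5366.result F G (AlgebraicClosure F) n).1).trans ?_
  rw [← map_derivedSeries_eq (f := (geomPtsEquiv F G).toMonoidHom) (geomPtsEquiv F G).surjective n]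
  exact (Subgroup.map_eq_bot_iff_of_injective _ (geomPtsEquiv F G).injective).symm

theorem nilpotent_iff_pts [Smooth G.hom] [QuasiCompact G.hom] :
    AGF.IsNilpotentGrp G ↔ Group.IsNilpotent (UΩ ⟶ Red.bc tF G) := by
  rw [Subgroup.nilpotent_iff_lowerCentralSeries]
  refine exists_congr fun n => ?_
  rw [forall_congr' fun X => Groth.Agent.S7999.upper_eq_top_iff n,
    (Groth.Agent.S5366.result F G (AlgebraicClosure F) n).2]
  constructor
  · exact fun h => Groth.Agent.S18082.lcs_eq_bot (geomPtsEquiv F G).symm.toMonoidHom (geomPtsEquiv F G).symm.injective h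
  · exact fun h => Groth.Agent.S18082.lcs_eq_bot (geomPtsEquiv F G).toMonoidHom (geomPtsEquiv F G).injective h

theorem comm_iff_pts [Smooth G.hom] [QuasiCompact G.hom] :
    IsCommMonObj G ↔ ∀ a b : UΩ ⟶ Red.bc tF G, a * b = b * a := by
  constructor
  · intro h a b
    exact mul_comm a b
  · intro h
    have hd : derivedSeries ((Over.mk tF : Over (Spec (CommRingCat.of F))) ⟶ G) 1 = ⊥ := by
      rw [derivedSeries_succ, derivedSeries_zero, eq_bot_iff, Subgroup.commutator_le]
      intro a _ b _
      rw [Subgroup.mem_bot, commutatorElement_eq_one_iff_mul_comm]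
      apply (geomPtsEquiv F G).injective
      rw [map_mul, map_mul, h]
    have key : fst G G * snd G G = snd G G * fst G G := by
      have := (Groth.Agent.S5366.result F G (AlgebraicClosure F) 1).1.2 hd (G ⊗ G)
      rw [derivedSeries_succ, derivedSeries_zero, eq_bot_iff, Subgroup.commutator_le] at this
      exact commutatorElement_eq_one_iff_mul_comm.1 (Subgroup.mem_bot.1 (this _ trivial _ trivial))
    exact IsCommMonObj.mk (by
      rw [MonObj.mul_eq_mul, MonObj.comp_mul, braiding_hom_fst, braiding_hom_snd]; exact key.symm)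

theorem isogeny_main [Smooth G.hom] [QuasiCompact G.hom] [IsAffine G.left] [ConnectedSpace G.left] [Smooth H.hom]
    [QuasiCompact H.hom] [IsAffine H.left] [ConnectedSpace H.left] (f : G ⟶ H) [IsMonHom f] [Surjective f.left]
    [IsFinite f.left] :
    (Red.HasNoSubtorus (AlgebraicClosure F) (Red.bc tF G) ↔ Red.HasNoSubtorus (AlgebraicClosure F) (Red.bc tF H)) ∧
    (Red.IsSolvableGrp G ↔ Red.IsSolvableGrp H) ∧ (AGF.IsNilpotentGrp G ↔ AGF.IsNilpotentGrp H) ∧
    (IsCommMonObj G ↔ IsCommMonObj H) := by
  let f' : Red.bc tF G ⟶ Red.bc tF H := (Over.pullback tF).map f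
  haveI : IsMonHom f' := inferInstanceAs (IsMonHom ((Over.pullback tF).map f))
  haveI : IsFinite f'.left := MorphismProperty.of_isPullback (Groth.L08.HomLocus.isPullback_bc tF f) ‹IsFinite f.left›
  haveI : Surjective f'.left :=
    MorphismProperty.of_isPullback (Groth.L08.HomLocus.isPullback_bc tF f) ‹Surjective f.left›
  haveI : Smooth (Red.bc tF G).hom := MorphismProperty.pullback_snd _ _ ‹Smooth G.hom›
  haveI : Smooth (Red.bc tF H).hom := MorphismProperty.pullback_snd _ _ ‹Smooth H.hom›
  haveI : IsAffine (Red.bc tF G).left := inferInstanceAs (IsAffine (pullback G.hom tF))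
  haveI : IsAffine (Red.bc tF H).left := inferInstanceAs (IsAffine (pullback H.hom tF))
  haveI := connected_geom G
  haveI := connected_geom H
  haveI : LocallyOfFiniteType (Red.bc tF G).hom := inferInstance
  haveI : LocallyOfFiniteType (Red.bc tF H).hom := inferInstance
  let φ : (UΩ ⟶ Red.bc tF G) →* (UΩ ⟶ Red.bc tF H) :=
    { toFun := fun a => a ≫ f', map_one' := MonObj.one_comp f', map_mul' := fun a b => MonObj.mul_comp a b f' }
  have hsurj : Function.Surjective φ := exists_pt_lift f'
  have hker : φ.ker ≤ Subgroup.center _ := fun x hx =>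
    Subgroup.mem_center_iff.2 fun g => ker_central f' x hx g
  refine ⟨hasNoSubtorus_iff f', ?_, ?_, ?_⟩
  · rw [solvable_iff_pts, solvable_iff_pts]
    constructor
    · rintro ⟨n, hn⟩
      refine ⟨n, ?_⟩
      rw [← map_derivedSeries_eq (f := φ) hsurj n, hn, Subgroup.map_bot]
    · rintro ⟨n, hn⟩
      refine ⟨n + 1, ?_⟩
      rw [derivedSeries_succ, eq_bot_iff, Subgroup.commutator_le]
      intro a ha b _
      have h1 : a ∈ φ.ker := Subgroup.mem_bot.1
        (hn.le (map_derivedSeries_le_derivedSeries φ n (Subgroup.mem_map_of_mem φ ha)))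
      rw [Subgroup.mem_bot, commutatorElement_eq_one_iff_mul_comm]
      exact (Subgroup.mem_center_iff.1 (hker h1) b).symm
  · rw [nilpotent_iff_pts, nilpotent_iff_pts]
    exact ⟨fun _ => Group.nilpotent_of_surjective φ hsurj, fun _ => Subgroup.isNilpotent_of_ker_le_center φ hker⟩
  · rw [comm_iff_pts, comm_iff_pts]
    constructor
    · intro h a b
      obtain ⟨a, rfl⟩ := hsurj a
      obtain ⟨b, rfl⟩ := hsurj b
      rw [← map_mul, ← map_mul, h]
    · intro h a b
      haveI : IsSeparated (Red.bc tF G).hom := inferInstance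
      haveI : AlgebraicGeometry.IsReduced (Red.bc tF G).left :=
        Groth.Agent.AV.isReduced_of_smooth_field (Red.bc tF G).hom
      let c := toUnit (Red.bc tF G) ≫ b
      have hc : ∀ x : UΩ ⟶ Red.bc tF G, x ≫ ⁅𝟙 (Red.bc tF G), c⁆ = ⁅x, b⁆ := fun x => by
        rw [Groth.Agent.S18082.comp_commutator, Category.comp_id, ← Category.assoc,
          toUnit_unique (x ≫ toUnit _) (𝟙 _), Category.id_comp]
      have hk : ∀ x : UΩ ⟶ Red.bc tF G, φ ⁅x, b⁆ = 1 := fun x =>
        (map_commutatorElement φ x b).trans (commutatorElement_eq_one_iff_mul_comm.2 (h (φ x) (φ b)))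
      let m : Red.bc tF G ⟶ Red.bc tF G := ⁅𝟙 (Red.bc tF G), c⁆
      have hone : m = 1 := eq_one_of_finite (X := Red.bc tF G) (R := Red.bc tF G) (Q := Red.bc tF H) f' m
        (fun x => (congrArg (fun y => y ≫ f') (hc x)).trans (hk x)) (1 : UΩ ⟶ Red.bc tF G)
        ((hc 1).trans (commutatorElement_one_left b))
      have := congrArg (a ≫ ·) hone
      simp only [MonObj.comp_one] at this
      exact commutatorElement_eq_one_iff_mul_comm.1 ((hc a).symm.trans this)

end Field

end Groth.L19.SpecSub
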