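import Groth.Agent.L19.SpecSub.IsogenyUnip
import Groth.Agent.L19.AlgGrpBasic.LargestNormal
import Groth.Agent.L18.GrpHomFinite
import Groth.Agent.L08.Borel.Geom

/-!
# Reductive and semisimple groups under isogenies
-/

set_option autoImplicit false
set_option backward.isDefEq.respectTransparency.types false
set_option linter.style.haveILetI false

universe u

open CategoryTheory CategoryTheory.Limits MonoidalCategory CartesianMonoidalCategory MonObj GrpObj AlgebraicGeometry

noncomputable section

namespace Groth.L19.SpecSub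

section Closed

variable {k : Type u} [Field k] [IsAlgClosed k]

local notation "B₀" => Spec (CommRingCat.of k)
local notation "U₀" => 𝟙_ (Over (Spec (CommRingCat.of k)))

/-- a subgroup with trivial image under a finite homomorphism is trivial if connected and reduced -/
theorem isTrivialGrp_of_image {U C R Q : Over B₀} [GrpObj U] [GrpObj C] [GrpObj R] [GrpObj Q]
    [LocallyOfFiniteType R.hom] [IsSeparated R.hom] [LocallyOfFiniteType U.hom] [ConnectedSpace U.left]
    [IsReduced U.left] (f : R ⟶ Q) [IsMonHom f] [IsFinite f.left] (j : U ⟶ R) [IsMonHom j] [Mono j]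
    (p : U ⟶ C) (i : C ⟶ Q) [IsMonHom i] (hfac : p ≫ i = j ≫ f) (hC : Red.IsTrivialGrp C) :
    Red.IsTrivialGrp U := by
  haveI : IsIso C.hom := hC
  haveI : IsIso ((Over.forget _).map (toUnit C)) := by
    show IsIso (toUnit C).left
    rw [show (toUnit C).left = C.hom by simp]
    infer_instance
  haveI : IsIso (toUnit C) := isIso_of_reflects_iso (toUnit C) (Over.forget _)
  have hη : toUnit C ≫ η[C] = 𝟙 C := by
    rw [← cancel_mono (toUnit C)]
    exact toUnit_unique _ _
  have hi : i = 1 := by
    rw [Hom.one_def, ← IsMonHom.one_hom i, ← Category.assoc, hη, Category.id_comp]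
  have hjf : j ≫ f = 1 := by rw [← hfac, hi, MonObj.comp_one]
  have hj1 : j = 1 := eq_one_of_finite f j (fun a => by rw [Category.assoc, hjf, MonObj.comp_one]) η[U] (by
    rw [IsMonHom.one_hom, Hom.one_def, toUnit_unique (toUnit U₀) (𝟙 _), Category.id_comp])
  have hUη : toUnit U ≫ η[U] = 𝟙 U := by
    rw [← cancel_mono j, Category.id_comp, Category.assoc, IsMonHom.one_hom, hj1, Hom.one_def]
  haveI : IsIso (η[U] : U₀ ⟶ U) := ⟨toUnit U, toUnit_unique _ _, hUη⟩
  haveI : IsIso (η[U] : U₀ ⟶ U).left := inferInstanceAs (IsIso ((Over.forget _).map η[U]))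
  show IsIso U.hom
  have e : (η[U] : U₀ ⟶ U).left ≫ U.hom = 𝟙 _ := Over.w _
  rw [(IsIso.eq_inv_comp _).2 e]
  infer_instance

/-- reductivity over an algebraically closed field under isogenies -/
theorem isReductiveOver_of_isogeny {R Q : Over B₀} [GrpObj R] [GrpObj Q] [LocallyOfFiniteType R.hom] [QuasiCompact R.hom]
    [IsAffine R.left] [Smooth Q.hom] [IsAffine Q.left] 
    (hsm : Smooth R.hom) (hcon : ConnectedSpace R.left) (f : R ⟶ Q) [IsMonHom f]
    [IsFinite f.left] [Surjective f.left] (hQ : Red.IsReductiveOver k Q) : Red.IsReductiveOver k R := by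
  haveI := hsm; haveI := hcon
  haveI : LocallyOfFiniteType Q.hom := inferInstance
  haveI : QuasiCompact Q.hom := quasiCompact_of_compactSpace _
  haveI : IsReduced Q.left := Groth.Agent.AV.isReduced_of_smooth_field Q.hom
  haveI : Flat f.left := Groth.L25.Translate.flat_of_denseRange f f.left.surjective.denseRange
  haveI : IsLocallyNoetherian Q.left := LocallyOfFiniteType.isLocallyNoetherian Q.hom
  haveI : LocallyOfFiniteType f.left := inferInstance
  haveI : LocallyOfFinitePresentation f.left := inferInstance
  refine ⟨inferInstance, hsm, hcon, fun U gU j hj hjc hUs hUc hN hU => ?_⟩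
  haveI := hj; haveI := hjc; haveI := hUs; haveI := hUc
  haveI : IsAffine U.left := isAffine_of_isAffineHom j.left
  haveI : Mono j := Over.mono_of_mono_left j
  haveI : LocallyOfFiniteType U.hom := inferInstance
  haveI : QuasiCompact U.hom := quasiCompact_of_compactSpace _
  haveI : IsReduced U.left := Groth.Agent.AV.isReduced_of_smooth_field U.hom
  obtain ⟨C, gC, p, i, hp, hi, hfac, hpf, hps, hic, hCs, hCc, hCN⟩ :=
    Groth.L19.AlgGrpBasic.exists_image_normal f j hN
  haveI := hp; haveI := hi; haveI := hps; haveI := hic; haveI := hCs; haveI := hCc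
  haveI : IsAffine C.left := isAffine_of_isAffineHom i.left
  haveI : IsFinite (j ≫ f).left := by
    haveI : IsFinite j.left := inferInstance
    rw [Over.comp_left]
    infer_instance
  haveI : IsFinite p.left := isFinite_factor p i (j ≫ f) hfac
  exact isTrivialGrp_of_image f j p i hfac
    (hQ.2.2.2 C i inferInstance hCs hCc hCN ((hasNoSubtorus_iff p).1 hU))

/-- semisimplicity over an algebraically closed field under isogenies -/
theorem isSemisimpleOver_of_isogeny {R Q : Over B₀} [GrpObj R] [GrpObj Q] [LocallyOfFiniteType R.hom] [QuasiCompact R.hom]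
    [IsAffine R.left] [Smooth Q.hom] [IsAffine Q.left] 
    (hsm : Smooth R.hom) (hcon : ConnectedSpace R.left) (f : R ⟶ Q) [IsMonHom f]
    [IsFinite f.left] [Surjective f.left] (hQ : Red.IsSemisimpleOver k Q) : Red.IsSemisimpleOver k R := by
  refine ⟨isReductiveOver_of_isogeny hsm hcon f hQ.1, fun T gT j hj hjc hN hT => ?_⟩
  haveI := hsm; haveI := hcon
  haveI : LocallyOfFiniteType Q.hom := inferInstance
  haveI : QuasiCompact Q.hom := quasiCompact_of_compactSpace _
  haveI : IsReduced Q.left := Groth.Agent.AV.isReduced_of_smooth_field Q.hom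
  haveI : Flat f.left := Groth.L25.Translate.flat_of_denseRange f f.left.surjective.denseRange
  haveI : IsLocallyNoetherian Q.left := LocallyOfFiniteType.isLocallyNoetherian Q.hom
  haveI : LocallyOfFiniteType f.left := inferInstance
  haveI : LocallyOfFinitePresentation f.left := inferInstance
  haveI := hj; haveI := hjc
  obtain ⟨hTa, hTs, hTc, -, -⟩ := Groth.L08.Borel.torus_props hT
  haveI := hTa; haveI := hTs; haveI := hTc
  haveI : Mono j := Over.mono_of_mono_left j
  haveI : LocallyOfFiniteType T.hom := inferInstance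
  haveI : IsReduced T.left := Groth.Agent.AV.isReduced_of_smooth_field T.hom
  obtain ⟨C, gC, p, i, hp, hi, hfac, hpf, hps, hic, hCs, hCc, hCN⟩ :=
    Groth.L19.AlgGrpBasic.exists_image_normal f j hN
  haveI := hp; haveI := hi; haveI := hps; haveI := hic; haveI := hCs; haveI := hCc
  haveI : IsAffine C.left := isAffine_of_isAffineHom i.left
  haveI : LocallyOfFiniteType C.hom := inferInstance
  haveI : IsReduced C.left := Groth.Agent.AV.isReduced_of_smooth_field C.hom
  exact isTrivialGrp_of_image f j p i hfac
    (hQ.2 C i inferInstance hCN (Groth.L08.Borel.isTorus_of_surjective_torus hT p))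

end Closed

variable {k : Type u} [Field k] {G G' : Over (Spec (CommRingCat.of k))} [GrpObj G] [GrpObj G']
  [IsAffine G'.left] [Smooth G'.hom] [Smooth G.hom] (φ : G' ⟶ G) [IsMonHom φ]

/-- a homomorphism with finitely many points in the kernel is finite -/
theorem isFinite_of_finite_kernel
    (hker : Finite ↥(pullback φ.left (η[G] : 𝟙_ (Over (Spec (CommRingCat.of k))) ⟶ G).left)) :
    IsFinite φ.left := by
  haveI : LocallyOfFiniteType G'.hom := inferInstance
  haveI : LocallyOfFiniteType G.hom := inferInstance
  haveI : QuasiCompact G'.hom := quasiCompact_of_compactSpace _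
  obtain ⟨E, gE, i, hi, hic, -, sq⟩ := Groth.L08.AbelianGrp.exists_kernel φ
  haveI := hic
  haveI : LocallyOfFiniteType E.hom := by rw [← Over.w i]; infer_instance
  haveI : QuasiCompact E.hom := by rw [← Over.w i]; infer_instance
  have sql := sq.map (Over.forget _)
  haveI : Finite E.left := @Finite.of_equiv _ _ hker (Scheme.homeoOfIso sql.isoPullback).toEquiv.symm
  haveI : LocallyQuasiFinite E.hom := .of_finite_preimage_singleton _ fun _ => Set.toFinite _
  haveI : IsFinite E.hom := IsFinite.of_locallyQuasiFinite E.hom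
  exact Groth.L18.GrpHomFinite.isFinite_of_kernel_finite φ i sq

variable [IsFinite φ.left] [Surjective φ.left] [ConnectedSpace G'.left] [IsAffine G.left] {Ω : Type u} [Field Ω]
  [IsAlgClosed Ω] (θ : Spec (CommRingCat.of Ω) ⟶ Spec (CommRingCat.of k))

include φ in
theorem bc_isogeny :
    (Red.IsReductiveOver Ω (Red.bc θ G) → Red.IsReductiveOver Ω (Red.bc θ G')) ∧
    (Red.IsSemisimpleOver Ω (Red.bc θ G) → Red.IsSemisimpleOver Ω (Red.bc θ G')) := by
  let F : Red.bc θ G' ⟶ Red.bc θ G := (Over.pullback θ).map φ
  haveI : IsMonHom F := inferInstanceAs (IsMonHom ((Over.pullback θ).map φ))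
  haveI : IsFinite F.left := MorphismProperty.of_isPullback (Groth.L08.HomLocus.isPullback_bc θ φ) ‹IsFinite φ.left›
  haveI : Surjective F.left := Groth.L08.Borel.surjective_map θ φ
  haveI := Groth.L08.Borel.smooth_bc θ G
  haveI := Groth.L08.Borel.smooth_bc θ G'
  haveI := Groth.L08.Borel.isAffine_bc θ G
  haveI := Groth.L08.Borel.isAffine_bc θ G'
  haveI : LocallyOfFiniteType (Red.bc θ G').hom := inferInstance
  haveI : QuasiCompact (Red.bc θ G').hom := quasiCompact_of_compactSpace _
  have hc := Groth.L08.Borel.connectedSpace_bc' θ G'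
  exact ⟨isReductiveOver_of_isogeny inferInstance hc F, isSemisimpleOver_of_isogeny inferInstance hc F⟩

end Groth.L19.SpecSub
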