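import Groth.Agent.L19.SpecSub.IdComp
import Groth.Agent.L19.IntegralHom
import Groth.Agent.L19.Topology
import Groth.Agent.L08.Borel.Proper
import Groth.Agent.L08.MonoClosed
import Groth.Agent.Lead.Neutral
import Groth.Agent.S7997
import Groth.Agent.S7983
import Groth.Agent.L26.AV.SmoothField
import Mathlib.Topology.Separation.Connected
import Mathlib.AlgebraicGeometry.AlgClosed.Basic
import Mathlib.AlgebraicGeometry.Morphisms.QuasiFinite

/-!
# Solvable connected subgroups under isogenies
-/

set_option autoImplicit false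
set_option backward.isDefEq.respectTransparency.types false
set_option linter.style.haveILetI false

universe u

open CategoryTheory CategoryTheory.Limits MonoidalCategory CartesianMonoidalCategory MonObj GrpObj AlgebraicGeometry
open scoped commutatorElement

noncomputable section

namespace Groth.L19.SpecSub

variable {k : Type u} [Field k] [IsAlgClosed k]

local notation "B₀" => Spec (CommRingCat.of k)
local notation "U₀" => 𝟙_ (Over (Spec (CommRingCat.of k)))

/-- rational points with the same closed point are equal -/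
theorem pt_ext {X : Over B₀} [LocallyOfFiniteType X.hom] {s t : U₀ ⟶ X}
    (h : s.left (IsLocalRing.closedPoint k) = t.left (IsLocalRing.closedPoint k)) : s = t :=
  Over.OverMorphism.ext (ext_of_apply_closedPoint_eq X.hom (Over.w s) (Over.w t) h)

/-- Finite kernels in connected groups are central on rational points. -/
theorem ker_central {R Q : Over B₀} [GrpObj R] [GrpObj Q] [LocallyOfFiniteType R.hom] [ConnectedSpace R.left]
    (f : R ⟶ Q) [IsMonHom f] [IsFinite f.left] (x : U₀ ⟶ R) (hx : x ≫ f = 1) (g : U₀ ⟶ R) :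
    g * x = x * g := by
  let c : R ⟶ R := 𝟙 R * (toUnit R ≫ x) * (𝟙 R)⁻¹
  have hgc : ∀ a : U₀ ⟶ R, a ≫ c = a * x * a⁻¹ := fun a => by
    simp only [c, MonObj.comp_mul, GrpObj.comp_inv, Category.comp_id, ← Category.assoc]
    rw [toUnit_unique (a ≫ toUnit R) (𝟙 _), Category.id_comp]
  let e : Q.left := (1 : U₀ ⟶ Q).left (IsLocalRing.closedPoint k)
  let P : Set R.left := f.left ⁻¹' {e} ∩ closedPoints R.left
  have hPf : P.Finite := (f.left.finite_preimage_singleton e).subset Set.inter_subset_left
  have hPc : IsClosed P := by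
    rw [← Set.biUnion_of_singleton P]
    exact hPf.isClosed_biUnion fun y hy => hy.2
  haveI : JacobsonSpace R.left := LocallyOfFiniteType.jacobsonSpace R.hom
  have hpt : ∀ y ∈ closedPoints R.left, c.left y ∈ P := by
    intro y hy
    obtain ⟨⟨s, hs⟩, hsy⟩ := (pointEquivClosedPoint R.hom).surjective ⟨y, hy⟩
    have hsy' : s (IsLocalRing.closedPoint k) = y := congrArg Subtype.val hsy
    let a : U₀ ⟶ R := Over.homMk s hs
    have hy2 : c.left y = (a ≫ c).left (IsLocalRing.closedPoint k) := by
      rw [Over.comp_left, Scheme.Hom.comp_apply]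
      exact congrArg c.left hsy'.symm
    rw [hy2, hgc]
    refine ⟨?_, ((pointEquivClosedPoint R.hom) ⟨_, Over.w (a * x * a⁻¹)⟩).2⟩
    show f.left _ = e
    rw [← Scheme.Hom.comp_apply, ← Over.comp_left, MonObj.mul_comp, MonObj.mul_comp, GrpObj.inv_comp, hx,
      _root_.mul_one, mul_inv_cancel]
  have huniv : Set.range c.left ⊆ P := by
    have h1 : closure (closedPoints R.left) ⊆ c.left ⁻¹' P :=
      closure_minimal hpt (hPc.preimage c.left.continuous)
    rw [closure_closedPoints] at h1
    rintro _ ⟨y, rfl⟩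
    exact h1 (Set.mem_univ y)
  have hsub : (Set.range c.left).Subsingleton := by
    by_contra hns
    obtain ⟨a, ha, b, hb, hab⟩ := Set.not_subsingleton_iff.1 hns
    have hd : _root_.IsDiscrete (Set.range c.left) := (hPf.subset huniv).isDiscrete_of_subset_closedPoints
      (huniv.trans Set.inter_subset_right)
    haveI := hd.to_subtype
    haveI := Subtype.preconnectedSpace (isPreconnected_range c.left.continuous)
    haveI : Subsingleton (Set.range c.left) := PreconnectedSpace.trivial_of_discrete
    exact hab (congrArg Subtype.val (Subsingleton.elim (⟨a, ha⟩ : Set.range c.left) ⟨b, hb⟩))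
  have h : g ≫ c = (1 : U₀ ⟶ R) ≫ c := pt_ext (hsub ⟨_, rfl⟩ ⟨_, rfl⟩)
  rw [hgc, hgc, _root_.one_mul, inv_one, _root_.mul_one] at h
  calc g * x = g * x * g⁻¹ * g := by group
    _ = x * g := by rw [h]

/-- A connected smooth group with a finite homomorphism to a solvable group is solvable. -/
theorem isSolvable_of_finite {R Q : Over B₀} [GrpObj R] [GrpObj Q] [Smooth R.hom] [QuasiCompact R.hom]
    [ConnectedSpace R.left] (f : R ⟶ Q) [IsMonHom f] [IsFinite f.left] (hQ : Red.IsSolvableGrp Q) :
    Red.IsSolvableGrp R := by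
  obtain ⟨n, hn⟩ := hQ
  let φ : (U₀ ⟶ R) →* (U₀ ⟶ Q) :=
    { toFun := fun a => a ≫ f, map_one' := MonObj.one_comp f, map_mul' := fun a b => MonObj.mul_comp a b f }
  refine Groth.L08.Borel.isSolvableGrp_of_pts ⟨⟨n + 1, ?_⟩⟩
  rw [derivedSeries_succ, eq_bot_iff, Subgroup.commutator_le]
  intro a ha b _
  have hafx : φ a = 1 := Subgroup.mem_bot.1 ((hn U₀).le
    (map_derivedSeries_le_derivedSeries φ n (Subgroup.mem_map_of_mem φ ha)))
  rw [Subgroup.mem_bot, commutatorElement_eq_one_iff_mul_comm]
  exact (ker_central f a hafx b).symm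

/-- dimensions agree along finite surjective morphisms -/
theorem dim_eq_of_finite_surjective {X Y : Scheme.{u}} (f : X ⟶ Y) [IsFinite f] [Surjective f] :
    topologicalKrullDim X = topologicalKrullDim Y :=
  le_antisymm (Groth.L19.topologicalKrullDim_le_of_isIntegralHom f)
    (Groth.L19.topologicalKrullDim_le_of_surjective_specializing f.surjective f.isClosedMap.specializingMap)

/-- a morphism into the range of a closed immersion, from a reduced group -/
theorem exists_factor {U G N : Over B₀} [GrpObj U] [GrpObj G] [GrpObj N] [IsReduced U.left] [IsReduced N.left] (v : U ⟶ G) [IsMonHom v]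
    (w : N ⟶ G) [IsMonHom w] [IsClosedImmersion w.left] (h : Set.range v.left ⊆ Set.range w.left) :
    ∃ r : U ⟶ N, IsMonHom r ∧ r ≫ w = v := by
  obtain ⟨r₀, hr₀⟩ := Groth.L00.ReducedSub.exists_lift w.left v.left h
  let r : U ⟶ N := Over.homMk r₀ (by rw [← Over.w w, reassoc_of% hr₀, Over.w])
  have hr : r ≫ w = v := Over.OverMorphism.ext hr₀
  haveI : Mono w := Over.mono_of_mono_left w
  haveI : IsMonHom (r ≫ w) := hr ▸ ‹IsMonHom v›
  refine ⟨r, ⟨?_, ?_⟩, hr⟩
  · rw [← cancel_mono w, Category.assoc, IsMonHom.one_hom (r ≫ w), IsMonHom.one_hom w]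
  · rw [← cancel_mono w, Category.assoc, Category.assoc, IsMonHom.mul_hom (r ≫ w), IsMonHom.mul_hom w,
      ← Category.assoc, tensorHom_comp_tensorHom]

theorem isFinite_factor {U G N : Over B₀} (r : U ⟶ N) (w : N ⟶ G) (v : U ⟶ G) (h : r ≫ w = v)
    [IsFinite v.left] [IsClosedImmersion w.left] : IsFinite r.left := by
  haveI : IsFinite (r.left ≫ w.left) := by rw [← Over.comp_left, h]; infer_instance
  exact MorphismProperty.of_postcomp (W := @IsFinite) (W' := @IsSeparated) r.left w.left
    inferInstance inferInstance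

/-- images of subgroups -/
theorem exists_image_hom {G H : Over B₀} [GrpObj G] [GrpObj H] [LocallyOfFiniteType H.hom] [QuasiCompact H.hom]
    (f : G ⟶ H) [IsMonHom f] [IsFinite f.left]
    (U : Over B₀) [GrpObj U] (i : U ⟶ G) [IsMonHom i] [IsClosedImmersion i.left] [Smooth U.hom]
    [ConnectedSpace U.left] :
    ∃ (V : Over B₀) (_ : GrpObj V) (j : V ⟶ H) (r : U ⟶ V), IsMonHom j ∧ IsClosedImmersion j.left ∧ Smooth V.hom ∧
      ConnectedSpace V.left ∧ IsMonHom r ∧ IsFinite r.left ∧ Surjective r.left ∧ (IsAffine U.left → IsAffine V.left) ∧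
      topologicalKrullDim V.left = topologicalKrullDim U.left := by
  let v : U ⟶ H := i ≫ f
  haveI : IsMonHom v := inferInstanceAs (IsMonHom (i ≫ f))
  haveI : IsFinite v.left := by
    haveI : IsFinite i.left := inferInstance
    rw [Over.comp_left]
    infer_instance
  haveI : LocallyOfFiniteType U.hom := inferInstance
  haveI : QuasiCompact U.hom := by
    rw [← Over.w v]
    infer_instance
  haveI : IsReduced U.left := Groth.Agent.AV.isReduced_of_smooth_field U.hom
  have hS := Groth.Lead.Neutral.range_isSubgroupSet v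
  obtain ⟨V, gV, w, hw, hred, hwc, hwr⟩ := Groth.L08.MonoClosed.exists_reduced_subgroup (G := H) _
    v.left.isClosedMap.isClosed_range hS.one_mem hS.mul_mem hS.inv_mem
  obtain ⟨r, hr, hrw⟩ := exists_factor v w hwr.symm.subset
  haveI : IsFinite r.left := isFinite_factor r w v hrw
  haveI hsurj : Surjective r.left := ⟨fun y => by
    obtain ⟨x, hx⟩ := hwr.subset (Set.mem_range_self y)
    refine ⟨x, w.left.isEmbedding.injective ?_⟩
    rw [← Scheme.Hom.comp_apply, ← Over.comp_left, hrw]
    exact hx⟩
  haveI : LocallyOfFiniteType V.hom := by rw [← Over.w w]; infer_instance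
  haveI : QuasiCompact V.hom := by rw [← Over.w w]; infer_instance
  haveI : Flat r.left := Groth.L25.Translate.flat_of_denseRange r hsurj.surj.denseRange
  refine ⟨V, gV, w, r, hw, hwc, Groth.L08.Borel.smooth_of_reduced_group V,
    hsurj.surj.connectedSpace r.left.continuous,
    hr, inferInstance, hsurj, (Groth.Agent.S7983.result k U V r).1,
    (dim_eq_of_finite_surjective r.left).symm⟩

/-- images of solvable subgroups -/
theorem exists_image {G H : Over B₀} [GrpObj G] [GrpObj H] [LocallyOfFiniteType H.hom] [QuasiCompact H.hom]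
    (f : G ⟶ H) [IsMonHom f] [IsFinite f.left]
    (U : Over B₀) [GrpObj U] (i : U ⟶ G) [IsMonHom i] [IsClosedImmersion i.left] [Smooth U.hom]
    [ConnectedSpace U.left] (hU : Red.IsSolvableGrp U) :
    ∃ (V : Over B₀) (_ : GrpObj V) (j : V ⟶ H), IsMonHom j ∧ IsClosedImmersion j.left ∧ Smooth V.hom ∧
      ConnectedSpace V.left ∧ Red.IsSolvableGrp V ∧ (IsAffine U.left → IsAffine V.left) ∧
      topologicalKrullDim V.left = topologicalKrullDim U.left := by
  obtain ⟨V, gV, j, r, hj, hjc, hVs, hVc, hr, hrf, hrsurj, haff, hd⟩ := exists_image_hom f U i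
  haveI := hVs; haveI := hr; haveI := hrsurj
  haveI : LocallyOfFiniteType U.hom := inferInstance
  haveI : QuasiCompact U.hom := by
    haveI : IsFinite i.left := inferInstance
    rw [← Over.w (i ≫ f), Over.comp_left]
    infer_instance
  haveI : LocallyOfFiniteType V.hom := inferInstance
  haveI : QuasiCompact V.hom := by
    haveI := hjc
    rw [← Over.w j]
    infer_instance
  haveI : IsReduced V.left := Groth.Agent.AV.isReduced_of_smooth_field V.hom
  haveI : Flat r.left := Groth.L25.Translate.flat_of_denseRange r hrsurj.surj.denseRange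
  exact ⟨V, gV, j, hj, hjc, hVs, hVc, Groth.Agent.S7997.result k U V r hU, haff, hd⟩

/-- preimages of subgroups -/
theorem exists_preimage_hom {G H : Over B₀} [GrpObj G] [GrpObj H] [LocallyOfFiniteType G.hom] [QuasiCompact G.hom]
    (f : G ⟶ H) [IsMonHom f] [IsFinite f.left] [Surjective f.left]
    (U : Over B₀) [GrpObj U] (i : U ⟶ H) [IsMonHom i] [IsClosedImmersion i.left] [Smooth U.hom]
    [ConnectedSpace U.left] :
    ∃ (V : Over B₀) (_ : GrpObj V) (j : V ⟶ G) (q : V ⟶ U), IsMonHom j ∧ IsClosedImmersion j.left ∧ Smooth V.hom ∧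
      ConnectedSpace V.left ∧ IsMonHom q ∧ IsFinite q.left ∧ (IsAffine U.left → IsAffine V.left) ∧
      topologicalKrullDim V.left = topologicalKrullDim U.left := by
  let C : Set G.left := f.left ⁻¹' Set.range i.left
  have hS := Groth.Lead.Neutral.range_isSubgroupSet i
  have h1 : η[G].left (IsLocalRing.closedPoint k) ∈ C := by
    show f.left _ ∈ Set.range i.left
    rw [← Scheme.Hom.comp_apply, ← Over.comp_left, IsMonHom.one_hom]
    exact hS.one_mem
  have hmul : ∀ z : (G ⊗ G).left, (fst G G).left z ∈ C → (snd G G).left z ∈ C → μ[G].left z ∈ C := by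
    intro z hz₁ hz₂
    show f.left _ ∈ Set.range i.left
    rw [← Scheme.Hom.comp_apply, ← Over.comp_left, IsMonHom.mul_hom, Over.comp_left, Scheme.Hom.comp_apply]
    refine hS.mul_mem _ ?_ ?_
    · rw [← Scheme.Hom.comp_apply, ← Over.comp_left, tensorHom_fst, Over.comp_left, Scheme.Hom.comp_apply]
      exact hz₁
    · rw [← Scheme.Hom.comp_apply, ← Over.comp_left, tensorHom_snd, Over.comp_left, Scheme.Hom.comp_apply]
      exact hz₂
  have hinv : ∀ x ∈ C, (GrpObj.inv (X := G)).left x ∈ C := by
    intro x hx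
    show f.left _ ∈ Set.range i.left
    rw [← Scheme.Hom.comp_apply, ← Over.comp_left, GrpObj.inv_hom, Over.comp_left, Scheme.Hom.comp_apply]
    exact hS.inv_mem _ hx
  obtain ⟨N, gN, w, hw, hred, hwc, hwr⟩ := Groth.L08.MonoClosed.exists_reduced_subgroup (G := G) C
    (i.left.isClosedEmbedding.isClosed_range.preimage f.left.continuous) h1 hmul hinv
  haveI : IsReduced U.left := Groth.Agent.AV.isReduced_of_smooth_field U.hom
  let v : N ⟶ H := w ≫ f
  haveI : IsMonHom v := inferInstanceAs (IsMonHom (w ≫ f))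
  haveI : IsFinite v.left := by
    haveI : IsFinite w.left := inferInstance
    rw [Over.comp_left]
    infer_instance
  obtain ⟨r, hr, hri⟩ := exists_factor v i (by
    rintro _ ⟨y, rfl⟩
    exact hwr.subset (Set.mem_range_self y))
  haveI : IsFinite r.left := isFinite_factor r i v hri
  haveI hsurj : Surjective r.left := ⟨fun y => by
    obtain ⟨x, hx⟩ := f.left.surjective (i.left y)
    obtain ⟨z, rfl⟩ := hwr.ge (show x ∈ C from ⟨y, hx.symm⟩)
    refine ⟨z, i.left.isEmbedding.injective ?_⟩
    rw [← Scheme.Hom.comp_apply, ← Over.comp_left, hri]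
    exact hx⟩
  haveI : LocallyOfFiniteType N.hom := by rw [← Over.w w]; infer_instance
  obtain ⟨C₀, gC, R, gR, c, j, hc, hcc, hj, hjc, -, -, hsm, hconn, hdim⟩ := exists_idComp N
  let q : R ⟶ U := j ≫ c ≫ r
  haveI : IsMonHom q := inferInstanceAs (IsMonHom (j ≫ c ≫ r))
  haveI : IsFinite q.left := by
    haveI : IsFinite j.left := inferInstance
    haveI : IsFinite c.left := inferInstance
    rw [Over.comp_left, Over.comp_left]
    infer_instance
  let e : R ⟶ G := j ≫ c ≫ w
  haveI : IsClosedImmersion e.left := by rw [Over.comp_left, Over.comp_left]; infer_instance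
  haveI : QuasiCompact R.hom := by rw [← Over.w e]; infer_instance
  refine ⟨R, gR, e, q, inferInstanceAs (IsMonHom (j ≫ c ≫ w)), inferInstance, hsm, hconn, inferInstance, inferInstance,
    fun _ => isAffine_of_isAffineHom q.left, ?_⟩
  rw [hdim, dim_eq_of_finite_surjective r.left]

/-- preimages of solvable subgroups -/
theorem exists_preimage {G H : Over B₀} [GrpObj G] [GrpObj H] [LocallyOfFiniteType G.hom] [QuasiCompact G.hom]
    (f : G ⟶ H) [IsMonHom f] [IsFinite f.left] [Surjective f.left]
    (U : Over B₀) [GrpObj U] (i : U ⟶ H) [IsMonHom i] [IsClosedImmersion i.left] [Smooth U.hom]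
    [ConnectedSpace U.left] (hU : Red.IsSolvableGrp U) :
    ∃ (V : Over B₀) (_ : GrpObj V) (j : V ⟶ G), IsMonHom j ∧ IsClosedImmersion j.left ∧ Smooth V.hom ∧
      ConnectedSpace V.left ∧ Red.IsSolvableGrp V ∧ (IsAffine U.left → IsAffine V.left) ∧
      topologicalKrullDim V.left = topologicalKrullDim U.left := by
  obtain ⟨V, gV, j, q, hj, hjc, hVs, hVc, hq, hqf, haff, hd⟩ := exists_preimage_hom f U i
  haveI := hVs; haveI := hVc; haveI := hq; haveI := hqf; haveI := hjc
  haveI : QuasiCompact V.hom := by rw [← Over.w j]; infer_instance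
  exact ⟨V, gV, j, hj, hjc, hVs, hVc, isSolvable_of_finite q hU, haff, hd⟩

end Groth.L19.SpecSub
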