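import Groth.Agent.L19.SpecSub.IsogenyProps

/-!
# Unipotent connected subgroups under isogenies
-/

set_option autoImplicit false
set_option backward.isDefEq.respectTransparency.types false
set_option linter.style.haveILetI false

universe u

open CategoryTheory CategoryTheory.Limits MonoidalCategory CartesianMonoidalCategory MonObj GrpObj AlgebraicGeometry

noncomputable section

namespace Groth.L19.SpecSub

variable {k : Type u} [Field k] [IsAlgClosed k]

local notation "B₀" => Spec (CommRingCat.of k)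
local notation "U₀" => 𝟙_ (Over (Spec (CommRingCat.of k)))

/-- A group with a finite homomorphism to an affine group without subtori has no subtori. -/
theorem hasNoSubtorus_of_finite {R Q : Over B₀} [GrpObj R] [GrpObj Q] [LocallyOfFiniteType R.hom]
    [QuasiCompact R.hom] [IsSeparated R.hom] [IsAffine Q.left] [LocallyOfFiniteType Q.hom]
    (q : R ⟶ Q) [IsMonHom q] [IsFinite q.left] (hQ : Red.HasNoSubtorus k Q) : Red.HasNoSubtorus k R := by
  intro S gS j hj hjm hS
  haveI := hj; haveI := hjm
  obtain ⟨hSa, hSs, hSc, -, -⟩ := Groth.L08.Borel.torus_props hS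
  haveI := hSa; haveI := hSs; haveI := hSc
  haveI : LocallyOfFiniteType S.hom := inferInstance
  haveI : QuasiCompact S.hom := quasiCompact_of_compactSpace _
  haveI : IsReduced S.left := Groth.Agent.AV.isReduced_of_smooth_field S.hom
  haveI : IsClosedImmersion j.left := by
    haveI : Mono j.left := inferInstanceAs (Mono ((Over.forget _).map j))
    haveI : QuasiCompact j.left := by
      haveI : QuasiCompact (j.left ≫ R.hom) := by rw [Over.w j]; infer_instance
      exact QuasiCompact.of_comp j.left R.hom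
    exact Groth.L08.MonoClosed.isClosedImmersion_of_field j
  let v : S ⟶ Q := j ≫ q
  haveI : IsMonHom v := inferInstanceAs (IsMonHom (j ≫ q))
  haveI : IsFinite v.left := by
    haveI : IsFinite j.left := inferInstance
    rw [Over.comp_left]
    infer_instance
  have hs := Groth.Lead.Neutral.range_isSubgroupSet v
  obtain ⟨V, gV, w, hw, hred, hwc, hwr⟩ := Groth.L08.MonoClosed.exists_reduced_subgroup (G := Q) _
    v.left.isClosedMap.isClosed_range hs.one_mem hs.mul_mem hs.inv_mem
  obtain ⟨r, hr, hrw⟩ := exists_factor v w hwr.symm.subset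
  haveI : Surjective r.left := ⟨fun y => by
    obtain ⟨x, hx⟩ := hwr.subset (Set.mem_range_self y)
    refine ⟨x, w.left.isEmbedding.injective ?_⟩
    rw [← Scheme.Hom.comp_apply, ← Over.comp_left, hrw]
    exact hx⟩
  haveI : IsAffine V.left := isAffine_of_isAffineHom w.left
  haveI : LocallyOfFiniteType V.hom := by rw [← Over.w w]; infer_instance
  haveI : Mono w := Over.mono_of_mono_left w
  have hV : Red.IsTorus V := Groth.L08.Borel.isTorus_of_surjective_torus hS r
  haveI : IsIso V.hom := hQ V w hV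
  haveI : IsIso ((Over.forget _).map (toUnit V)) := by
    show IsIso (toUnit V).left
    rw [show (toUnit V).left = V.hom by simp]
    infer_instance
  haveI : IsIso (toUnit V) := isIso_of_reflects_iso (toUnit V) (Over.forget _)
  have hη : toUnit V ≫ η[V] = 𝟙 V := by
    rw [← cancel_mono (toUnit V)]
    exact toUnit_unique _ _
  have hw1 : w = 1 := by
    rw [Hom.one_def, ← IsMonHom.one_hom w, ← Category.assoc, hη, Category.id_comp]
  have hv1 : j ≫ q = 1 := by
    rw [show j ≫ q = r ≫ w from hrw.symm, hw1, MonObj.comp_one]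
  have hj1 : j = 1 := eq_one_of_finite q j (fun a => by rw [Category.assoc, hv1, MonObj.comp_one]) η[S] (by
    rw [IsMonHom.one_hom, Hom.one_def, toUnit_unique (toUnit U₀) (𝟙 _), Category.id_comp])
  have hSη : toUnit S ≫ η[S] = 𝟙 S := by
    rw [← cancel_mono j, Category.id_comp, Category.assoc, IsMonHom.one_hom, hj1, Hom.one_def]
  haveI : IsIso (η[S] : U₀ ⟶ S) := ⟨toUnit S, toUnit_unique _ _, hSη⟩
  haveI : IsIso (η[S] : U₀ ⟶ S).left := inferInstanceAs (IsIso ((Over.forget _).map η[S]))
  show IsIso S.hom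
  have e : (η[S] : U₀ ⟶ S).left ≫ S.hom = 𝟙 _ := Over.w _
  rw [(IsIso.eq_inv_comp _).2 e]
  infer_instance

/-- unipotent subgroups of dimension at least `d` correspond under isogenies -/
theorem unipotent_dim_iff {G H : Over B₀} [GrpObj G] [GrpObj H] [LocallyOfFiniteType G.hom] [QuasiCompact G.hom]
    [LocallyOfFiniteType H.hom] [QuasiCompact H.hom] (f : G ⟶ H) [IsMonHom f] [IsFinite f.left]
    [Surjective f.left] (d : ℕ) :
    (∃ (U : Over B₀) (_ : GrpObj U) (i : U ⟶ G), IsMonHom i ∧ IsClosedImmersion i.left ∧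
        Smooth U.hom ∧ IsAffine U.left ∧ ConnectedSpace ↥U.left ∧ Red.HasNoSubtorus k U ∧
        (d : WithBot ℕ∞) ≤ topologicalKrullDim ↥U.left) ↔
    (∃ (U : Over B₀) (_ : GrpObj U) (i : U ⟶ H), IsMonHom i ∧ IsClosedImmersion i.left ∧
        Smooth U.hom ∧ IsAffine U.left ∧ ConnectedSpace ↥U.left ∧ Red.HasNoSubtorus k U ∧
        (d : WithBot ℕ∞) ≤ topologicalKrullDim ↥U.left) := by
  constructor
  · rintro ⟨U, gU, i, hi, hc, hs, ha, hconn, hq, hd⟩
    obtain ⟨V, gV, j, r, hj, hjc, hVs, hVc, hr, hrf, hrs, haff, hVd⟩ := exists_image_hom f U i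
    haveI := haff ha
    exact ⟨V, gV, j, hj, hjc, hVs, haff ha, hVc, (hasNoSubtorus_iff r).1 hq, hVd ▸ hd⟩
  · rintro ⟨U, gU, i, hi, hc, hs, ha, hconn, hq, hd⟩
    obtain ⟨V, gV, j, q, hj, hjc, hVs, hVc, hqm, hqf, haff, hVd⟩ := exists_preimage_hom f U i
    haveI := haff ha
    haveI : QuasiCompact V.hom := quasiCompact_of_compactSpace _
    exact ⟨V, gV, j, hj, hjc, hVs, haff ha, hVc, hasNoSubtorus_of_finite q hq, hVd ▸ hd⟩

end Groth.L19.SpecSub
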