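import Groth.Agent.L19.SpecSub.Derived
import Groth.Agent.L08.Borel.NeutralConn
import Groth.Agent.Lead.Neutral
import Groth.Agent.L26.AbSch.Bilinear

/-!
# The identity component of geometric fibres of a smooth group
-/

set_option autoImplicit false
set_option backward.isDefEq.respectTransparency.types false
set_option linter.style.haveILetI false

universe u

open CategoryTheory CategoryTheory.Limits MonoidalCategory CartesianMonoidalCategory MonObj GrpObj AlgebraicGeometry

noncomputable section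

namespace Groth.L19.SpecSub

/-- The clopen connected set containing one is unique. -/
theorem range_eq_of_clopen {X : Type*} [TopologicalSpace X] {A B : Set X} (hA : IsClopen A) (hA' : _root_.IsConnected A)
    (hB : IsClopen B) (hB' : _root_.IsConnected B) {x : X} (hxA : x ∈ A) (hxB : x ∈ B) : A = B :=
  subset_antisymm (hA'.isPreconnected.subset_isClopen hB ⟨x, hxA, hxB⟩)
    (hB'.isPreconnected.subset_isClopen hA ⟨x, hxB, hxA⟩)

variable {S : Scheme.{u}} (G : Over S) [GrpObj G] [Smooth G.hom]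

theorem neutral_geom {G0 : Over S} [GrpObj G0] (i : G0 ⟶ G) [IsMonHom i] [IsOpenImmersion i.left] [Smooth G0.hom]
    (hconn : ∀ s : S, _root_.IsConnected (G0.hom.base ⁻¹' {s})) {k : Type u} [Field k]
    (x : Spec (CommRingCat.of k) ⟶ S) :
    IsOpenImmersion ((Over.pullback x).map i).left ∧ IsClosedImmersion ((Over.pullback x).map i).left ∧
      ConnectedSpace ↥(Red.bc x G0).left := by
  haveI : IsOpenImmersion ((Over.pullback x).map i).left :=
    MorphismProperty.of_isPullback (Groth.L08.HomLocus.isPullback_bc x i) ‹IsOpenImmersion i.left›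
  let c : Red.bc x G0 ⟶ Red.bc x G := (Over.pullback x).map i
  haveI : IsMonHom c := inferInstanceAs (IsMonHom ((Over.pullback x).map i))
  have hcl : IsClosed (Set.range c.left) :=
    Groth.Lead.Neutral.isClosed_of_isOpen (Groth.Lead.Neutral.range_isSubgroupSet c) c.left.opensRange.2
  haveI : IsClosedImmersion c.left := IsClosedImmersion.of_isPreimmersion _ hcl
  haveI : ∀ s : S, ConnectedSpace ↥(G0.hom.fiber s) := fun s => by
    haveI := isConnected_iff_connectedSpace.1 (hconn s)
    exact (G0.hom.fiberHomeo s).symm.surjective.connectedSpace (G0.hom.fiberHomeo s).symm.continuous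
  haveI := Groth.Agent.AbSchHom.geometricallyConnected_of_fibres G0 ‹_›
  haveI : Subsingleton (Spec (CommRingCat.of k)) := inferInstanceAs (Subsingleton (PrimeSpectrum k))
  haveI : Nonempty (Spec (CommRingCat.of k)) := ⟨IsLocalRing.closedPoint k⟩
  haveI : ConnectedSpace (Spec (CommRingCat.of k)) := inferInstanceAs (ConnectedSpace (PrimeSpectrum k))
  haveI : ConnectedSpace ↥(pullback G0.hom x) := inferInstance
  exact ⟨inferInstance, ‹IsClosedImmersion c.left›, ‹ConnectedSpace ↥(pullback G0.hom x)›⟩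

theorem neutral_der_specializes {s s' : S} (hsp : s ⤳ s') (n : WithBot ℕ∞)
    (h : ∃ (C : Over (Spec (CommRingCat.of (AlgebraicClosure (S.residueField s))))) (_ : GrpObj C)
      (c : C ⟶ Red.geomFibre s G) (N : Over (Spec (CommRingCat.of (AlgebraicClosure (S.residueField s)))))
      (_ : GrpObj N) (i : N ⟶ C),
      IsMonHom c ∧ IsOpenImmersion c.left ∧ IsClosedImmersion c.left ∧ ConnectedSpace ↥C.left ∧
      IsMonHom i ∧ IsClosedImmersion i.left ∧ AlgGrp.IsNormalHom i ∧
      (∀ (T : Over (Spec (CommRingCat.of (AlgebraicClosure (S.residueField s))))) (g h : T ⟶ C),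
        ∃ m : T ⟶ N, g * h * g⁻¹ * h⁻¹ = m ≫ i) ∧ topologicalKrullDim ↥N.left ≤ n) :
    ∃ (C : Over (Spec (CommRingCat.of (AlgebraicClosure (S.residueField s'))))) (_ : GrpObj C)
      (c : C ⟶ Red.geomFibre s' G) (N : Over (Spec (CommRingCat.of (AlgebraicClosure (S.residueField s')))))
      (_ : GrpObj N) (i : N ⟶ C),
      IsMonHom c ∧ IsOpenImmersion c.left ∧ IsClosedImmersion c.left ∧ ConnectedSpace ↥C.left ∧
      IsMonHom i ∧ IsClosedImmersion i.left ∧ AlgGrp.IsNormalHom i ∧
      (∀ (T : Over (Spec (CommRingCat.of (AlgebraicClosure (S.residueField s'))))) (g h : T ⟶ C),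
        ∃ m : T ⟶ N, g * h * g⁻¹ * h⁻¹ = m ≫ i) ∧ topologicalKrullDim ↥N.left ≤ n := by
  obtain ⟨C, gC, c, N, gN, iN, hc, hco, hcc, hCconn, hiN, hiNc, hnorm, hcomm, hd⟩ := h
  obtain ⟨G0, g0, i, hi, -, hio, hs0, -, hconn⟩ := Groth.L08.Borel.exists_neutral G
  obtain ⟨ho, hc', hcn⟩ := neutral_geom G i hconn (Red.geomPt s)
  let c₀ : Red.bc (Red.geomPt s) G0 ⟶ Red.geomFibre s G := (Over.pullback (Red.geomPt s)).map i
  haveI : IsMonHom c₀ := inferInstanceAs (IsMonHom ((Over.pullback (Red.geomPt s)).map i))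
  haveI : IsOpenImmersion c₀.left := ho
  haveI : IsClosedImmersion c₀.left := hc'
  haveI : ConnectedSpace ↥(Red.bc (Red.geomPt s) G0).left := hcn
  have hrange : Set.range c.left = Set.range c₀.left := by
    refine range_eq_of_clopen ⟨c.left.isClosedEmbedding.isClosed_range, c.left.opensRange.2⟩
      (isConnected_range c.left.continuous) ⟨c₀.left.isClosedEmbedding.isClosed_range, c₀.left.opensRange.2⟩
      (isConnected_range c₀.left.continuous)
      (x := Groth.L25.Component.one (Red.geomFibre s G)) ?_ ?_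
    · exact (Groth.Lead.Neutral.range_isSubgroupSet c).one_mem
    · exact (Groth.Lead.Neutral.range_isSubgroupSet c₀).one_mem
  let e₁ : C.left ≅ (Red.bc (Red.geomPt s) G0).left := IsOpenImmersion.isoOfRangeEq c.left c₀.left hrange
  have he₁ : e₁.hom ≫ c₀.left = c.left := IsOpenImmersion.isoOfRangeEq_hom_fac _ _ _
  let e : C ≅ Red.bc (Red.geomPt s) G0 := Over.isoMk e₁ (by
    rw [← Over.w c₀, ← Category.assoc, he₁, Over.w c])
  haveI : Mono c₀ := Over.mono_of_mono_left c₀
  have hec : e.hom ≫ c₀ = c := Over.OverMorphism.ext he₁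
  haveI : IsMonHom (e.hom ≫ c₀) := hec ▸ hc
  haveI : IsMonHom e.hom := isMonHom_of_fac e.hom c₀
  have hP : Has PDer G0 (topologicalKrullDim ↥N.left) (Red.geomPt s) := by
    refine ⟨N, gN, iN ≫ e.hom, inferInstance, isClosedImmersion_comp_iso iN e, ?_, rfl⟩
    have := stable_der.iso iN (Iso.refl _) e hiN (inferInstanceAs (IsMonHom (𝟙 _))) inferInstance ⟨hnorm, hcomm⟩
    simpa using this
  obtain ⟨N', gN', iN', hiN', hiNc', ⟨hn', hm'⟩, hd'⟩ := der_specializes G0 hsp hP
  obtain ⟨ho', hcl', hcn'⟩ := neutral_geom G i hconn (Red.geomPt s')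
  exact ⟨Red.bc (Red.geomPt s') G0, inferInstance, (Over.pullback (Red.geomPt s')).map i, N', gN', iN',
    inferInstanceAs (IsMonHom ((Over.pullback (Red.geomPt s')).map i)), ho', hcl', hcn', hiN', hiNc', hn', hm',
    hd' ▸ hd⟩

end Groth.L19.SpecSub
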