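import Groth.Agent.L25.LimHom
import Groth.Agent.L08.HomLocus
import Groth.Prelude.Def_AGF
import Groth.Prelude.Def_AlgGrp

/-!
# Subgroups of a group scheme at field valued points: transport along isomorphisms
-/

set_option autoImplicit false
set_option backward.isDefEq.respectTransparency.types false
set_option linter.style.haveILetI false

universe u

open CategoryTheory CategoryTheory.Limits MonoidalCategory CartesianMonoidalCategory MonObj GrpObj AlgebraicGeometry

noncomputable section

namespace Groth.L19.SpecSub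

/-- A factorisation of a homomorphism through a monomorphic homomorphism is a homomorphism. -/
theorem isMonHom_of_fac {C : Type*} [Category C] [CartesianMonoidalCategory C] {X Y Z : C}
    [MonObj X] [MonObj Y] [MonObj Z] (u : X ⟶ Y) (j : Y ⟶ Z) [IsMonHom j] [Mono j] [IsMonHom (u ≫ j)] :
    IsMonHom u := by
  refine ⟨?_, ?_⟩
  · rw [← cancel_mono j, Category.assoc, IsMonHom.one_hom (u ≫ j), IsMonHom.one_hom j]
  · rw [← cancel_mono j, Category.assoc, Category.assoc, IsMonHom.mul_hom (u ≫ j), IsMonHom.mul_hom j,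
      ← Category.assoc, tensorHom_comp_tensorHom]

/-- A property of homomorphisms of group schemes. -/
abbrev Pred := ∀ ⦃B : Scheme.{u}⦄ ⦃H G : Over B⦄ [GrpObj H] [GrpObj G], (H ⟶ G) → Prop

/-- Invariance of a property of subgroups under isomorphisms and base change. -/
structure Stable (P : Pred.{u}) : Prop where
  iso : ∀ {B : Scheme.{u}} {H H' G G' : Over B} [GrpObj H] [GrpObj H'] [GrpObj G] [GrpObj G'] (i : H ⟶ G)
    (a : H' ≅ H) (e : G ≅ G'), IsMonHom i → IsMonHom a.hom → IsMonHom e.hom → P i → P (a.hom ≫ i ≫ e.hom)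
  bc : ∀ {B B' : Scheme.{u}} (g : B' ⟶ B) {H G : Over B} [GrpObj H] [GrpObj G] (i : H ⟶ G),
    IsMonHom i → P i → P ((Over.pullback g).map i : Red.bc g H ⟶ Red.bc g G)

variable (P : Pred.{u}) {S : Scheme.{u}} (G : Over S) [GrpObj G] (d : WithBot ℕ∞)

/-- the fibre of `G` at the point `x` has a closed subgroup of dimension `d` with property `P` -/
def Has {F : Type u} [Field F] (x : Spec (CommRingCat.of F) ⟶ S) : Prop :=
  ∃ (H : Over (Spec (CommRingCat.of F))) (_ : GrpObj H) (i : H ⟶ Red.bc x G),
    IsMonHom i ∧ IsClosedImmersion i.left ∧ P i ∧ topologicalKrullDim ↥H.left = d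

variable {P G d}

theorem isClosedImmersion_bc {B B' : Scheme.{u}} (g : B' ⟶ B) {H K : Over B} (i : H ⟶ K)
    [IsClosedImmersion i.left] : IsClosedImmersion ((Over.pullback g).map i).left :=
  MorphismProperty.of_isPullback (Groth.L08.HomLocus.isPullback_bc g i) ‹IsClosedImmersion i.left›

theorem isClosedImmersion_comp_iso {B : Scheme.{u}} {H K K' : Over B} (i : H ⟶ K) [IsClosedImmersion i.left]
    (e : K ≅ K') : IsClosedImmersion (i ≫ e.hom).left := by
  haveI : IsIso e.hom.left := inferInstanceAs (IsIso ((Over.forget B).map e.hom))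
  rw [Over.comp_left]
  infer_instance

/-- Transport along an isomorphism of fields. -/
theorem has_congr (hP : Stable P) {F F' : Type u} [Field F] [Field F'] (φ : F →+* F')
    (hφ : Function.Bijective φ) {x : Spec (CommRingCat.of F) ⟶ S} {x' : Spec (CommRingCat.of F') ⟶ S}
    (hx : Spec.map (CommRingCat.ofHom φ) ≫ x = x') (h : Has P G d x) : Has P G d x' := by
  obtain ⟨H, inst, i, hi, hc, hp, hd⟩ := h
  let g := Spec.map (CommRingCat.ofHom φ)
  haveI : IsIso (CommRingCat.ofHom φ) := (ConcreteCategory.isIso_iff_bijective _).2 hφ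
  haveI : IsIso g := inferInstance
  haveI := Groth.L25.LimHom.isMonHom_cmp hx G
  let e := Groth.L25.LimHom.cmp hx G
  let i' : Red.bc g H ⟶ Red.bc g (Red.bc x G) := (Over.pullback g).map i
  haveI : IsMonHom i' := inferInstanceAs (IsMonHom ((Over.pullback g).map i))
  haveI : IsClosedImmersion i'.left := isClosedImmersion_bc g i
  refine ⟨Red.bc g H, inferInstance, i' ≫ e.hom, inferInstance, isClosedImmersion_comp_iso i' e, ?_, ?_⟩
  · have := hP.iso i' (Iso.refl _) e inferInstance (inferInstanceAs (IsMonHom (𝟙 _))) inferInstance (hP.bc g i hi hp)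
    simpa using this
  · rw [← hd]
    exact IsHomeomorph.topologicalKrullDim_eq _
      (Scheme.homeoOfIso (asIso (pullback.fst H.hom g))).isHomeomorph

end Groth.L19.SpecSub
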