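import Groth.Agent.L19.SpecSub.SemiabField
import Groth.Agent.L19.FrobKernel
import Groth.Agent.L19.AlgGrpBasic.GmIsog
import Groth.Agent.L25.MonoClosed.Main
import Groth.Agent.L08.AffHull.AntiAffine
import Groth.Agent.L08.Albanese.Basic
import Groth.Agent.L08.Chev.Comp
import Groth.Agent.L08.Cube.MulSurj
import Groth.Agent.L08.DeligneScheme
import Groth.Agent.L26.AV.Isogeny
import Groth.Agent.L08.GrpDim
import Groth.Agent.S12186
import Groth.Agent.S14602
import Mathlib.CategoryTheory.Limits.Constructions.Over.Connected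

/-!
# Powers and semiabelian subgroups of commutative groups in positive characteristic
-/

set_option autoImplicit false
set_option backward.isDefEq.respectTransparency.types false
set_option linter.style.haveILetI false
set_option linter.unusedSectionVars false

universe u

open CategoryTheory CategoryTheory.Limits MonoidalCategory CartesianMonoidalCategory MonObj GrpObj AlgebraicGeometry
open Groth.L08.P1Hom (lineK lineAt)

noncomputable section

namespace Groth.L19.SpecSub

variable {k : Type u} [Field k]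

/-- A torus over an algebraically closed field is semiabelian. -/
theorem isSemiab_torus [IsAlgClosed k] {T : Over (Spec (CommRingCat.of k))} [GrpObj T] (hT : Red.IsTorus T) :
    IsSemiab T := by
  obtain ⟨hTa, hTs, hTc, -, -⟩ := Groth.L08.Borel.torus_props hT
  haveI := hTa; haveI := hTs; haveI := hTc
  haveI : QuasiCompact T.hom := inferInstance
  exact isSemiab_of_lineConst fun f => Groth.L08.P1Hom.const_line_torus k hT f

/-- An abelian variety over an algebraically closed field is semiabelian. -/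
theorem isSemiab_proper [IsAlgClosed k] (A : Over (Spec (CommRingCat.of k))) [GrpObj A] [IsProper A.hom] [Smooth A.hom]
    [ConnectedSpace ↥A.left] : IsSemiab A := by
  refine isSemiab_of_lineConst fun f => ?_
  obtain ⟨c, hc⟩ := Groth.L08.P1Hom.const_of_affineLine (k := k) f
  rw [hc, ← Category.assoc (lineAt k 0), Subsingleton.elim (lineAt k 0 ≫ toUnit _) (𝟙 _), Category.id_comp]

/-- A smooth group with surjective trivial endomorphism is trivial. -/
theorem isIso_unit_of_surjective_one {G : Over (Spec (CommRingCat.of k))} [GrpObj G] [Smooth G.hom]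
    (h : Surjective (1 : G ⟶ G).left) : IsIso η[G] := by
  haveI := Groth.L08.AbelianGrp.isSeparated G
  haveI : IsClosedImmersion η[G].left := by
    have hw : η[G].left ≫ G.hom = 𝟙 _ := Over.w η[G]
    haveI : IsClosedImmersion (η[G].left ≫ G.hom) := by rw [hw]; infer_instance
    exact IsClosedImmersion.of_comp η[G].left G.hom
  haveI : Surjective η[G].left := by
    haveI : Surjective ((toUnit G).left ≫ η[G].left) := by rw [← Over.comp_left, ← Hom.one_def]; exact h
    exact Surjective.of_comp (toUnit G).left η[G].left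
  haveI : IsReduced G.left := Groth.Agent.AV.isReduced_of_smooth_field G.hom
  haveI : IsIso η[G].left := isIso_of_isClosedImmersion_of_surjective η[G].left
  haveI : IsIso ((Over.forget _).map η[G]) := ‹IsIso η[G].left›
  exact isIso_of_reflects_iso η[G] (Over.forget _)

theorem eq_one_of_isIso_unit {X G : Over (Spec (CommRingCat.of k))} [GrpObj G] [IsIso η[G]] (f : X ⟶ G) : f = 1 := by
  rw [← cancel_mono (inv η[G])]
  exact toUnit_unique _ _

theorem range_of_isKernel {N G E : Over (Spec (CommRingCat.of k))} [GrpObj E] {j : N ⟶ G} {q : G ⟶ E}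
    (h : AlgGrp.IsKernel j q) : Set.range j.left = q.left ⁻¹' Set.range η[E].left := by
  have sq' : IsPullback j.left (toUnit N).left q.left η[E].left :=
    IsPullback.map (Over.forget (Spec (CommRingCat.of k))) h
  ext x
  constructor
  · rintro ⟨y, rfl⟩
    refine ⟨(toUnit N).left y, ?_⟩
    rw [← Scheme.Hom.comp_apply, ← sq'.w, Scheme.Hom.comp_apply]
  · rintro ⟨y, hy⟩
    obtain ⟨z, hz, -⟩ := Scheme.exists_preimage_of_isPullback sq' x y hy.symm
    exact ⟨z, hz⟩

/-- A homomorphism from a semiabelian variety to a group without semiabelian subgroups is trivial. -/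
theorem eq_one_of_noSemiab {E G : Over (Spec (CommRingCat.of k))} [GrpObj E] [GrpObj G] [LocallyOfFiniteType E.hom]
    [QuasiCompact E.hom] [LocallyOfFiniteType G.hom] [QuasiCompact G.hom] (hE : IsSemiab E)
    (hG : ∀ (S : Over (Spec (CommRingCat.of k))) [GrpObj S] (s : S ⟶ G) [IsMonHom s] [IsClosedImmersion s.left],
      IsSemiab S → IsIso η[S]) (g : E ⟶ G) [IsMonHom g] : g = 1 := by
  haveI := Groth.L08.AbelianGrp.isSeparated G
  obtain ⟨C, _, p, i, hp, hi, hpi, hpf, hps, hpl, hic⟩ := Groth.L08.AbelianGrp.exists_image g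
  haveI := hp; haveI := hi; haveI := hpf; haveI := hps; haveI := hpl; haveI := hic
  haveI : LocallyOfFiniteType C.hom := by rw [← Over.w i]; infer_instance
  haveI : QuasiCompact C.hom := by rw [← Over.w i]; infer_instance
  haveI : IsIso η[C] := hG C i (hE.of_surjective p)
  rw [← hpi, eq_one_of_isIso_unit p, MonObj.one_comp]

/-- Powers on a torus over an algebraically closed field are surjective. -/
theorem surjective_pow_torus [IsAlgClosed k] {T : Over (Spec (CommRingCat.of k))} [GrpObj T] (hT : Red.IsTorus T)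
    (n : ℕ) (hn : 1 ≤ n) : Surjective ((𝟙 T : T ⟶ T) ^ n).left := by
  obtain ⟨r, ⟨E⟩⟩ := Groth.L08.Borel.exists_laurent_of_torus hT
  let e' := E ≪≫ (Groth.L25.Bridge.dsIso k (Fin r → ℤ)).symm
  let e : T ≅ Red.DS (Spec (CommRingCat.of k)) (Fin r → ℤ) := (Grp.forget _).mapIso e'
  haveI : IsMonHom e.hom := e'.hom.hom.isMonHom_hom
  haveI : IsMonHom e.inv := e'.inv.hom.isMonHom_hom
  haveI : IsIso e.hom.left := inferInstanceAs (IsIso ((Over.forget _).map e.hom))
  haveI : IsIso e.inv.left := inferInstanceAs (IsIso ((Over.forget _).map e.inv))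
  haveI := (Groth.L19.AlgGrpBasic.pow_DS_props (k := k) (Fin r → ℤ) n hn).1
  have he : (𝟙 T : T ⟶ T) ^ n = e.hom ≫ ((𝟙 _ : Red.DS (Spec (CommRingCat.of k)) (Fin r → ℤ) ⟶ _) ^ n) ≫ e.inv := by
    rw [← Category.assoc, MonObj.comp_pow, Category.comp_id, Iso.eq_comp_inv, MonObj.pow_comp, Category.id_comp]
  rw [he, Over.comp_left, Over.comp_left]
  infer_instance

/-- A semiabelian variety over an algebraically closed field with finite exponent is trivial. -/
theorem IsSemiab.isIso_unit_of_pow [IsAlgClosed k] {S : Over (Spec (CommRingCat.of k))} [GrpObj S]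
    [LocallyOfFiniteType S.hom] [QuasiCompact S.hom] (h : IsSemiab S) (n : ℕ) (hn : 0 < n)
    (hpow : (𝟙 S : S ⟶ S) ^ n = 1) : IsIso η[S] := by
  obtain ⟨T, _, i, A, _, q, hi, hic, hT, hq, hqs, hqf, hkq, hAp, hAs, hAc⟩ := h
  haveI := hi; haveI := hic; haveI := hq; haveI := hqs; haveI := hqf; haveI := hAp; haveI := hAs; haveI := hAc
  obtain ⟨-, hTs, -, -, -⟩ := Groth.L08.Borel.torus_props hT
  haveI := hTs
  haveI : Mono i := (Over.forget _).mono_of_mono_map (inferInstanceAs (Mono i.left))
  haveI : LocallyOfFinitePresentation q.left := lfp_hom_field q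
  haveI : Epi q := Groth.L08.GQuot.epi_of_cover q
  have hA : (𝟙 A : A ⟶ A) ^ n = 1 := by
    rw [← cancel_epi q, MonObj.comp_pow, Category.comp_id, MonObj.comp_one]
    have := congrArg (· ≫ q) hpow
    simpa [MonObj.pow_comp] using this
  have hT1 : (𝟙 T : T ⟶ T) ^ n = 1 := by
    rw [← cancel_mono i, MonObj.pow_comp, Category.id_comp, MonObj.one_comp]
    have := congrArg (i ≫ ·) hpow
    simpa [MonObj.comp_pow] using this
  haveI : GeometricallyIntegral A.hom :=
    haveI : GeometricallyReduced A.hom := Groth.Agent.AV.geometricallyReduced_of_smooth A.hom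
    Groth.Agent.AV.geometricallyIntegral_of_connected A
  haveI : IsIso η[A] := by
    refine isIso_unit_of_surjective_one ?_
    have h2 : Surjective (𝟙 A ^ n).left := Groth.L08.Cube.surjective_pow (A := A) hn
    rwa [hA] at h2
  haveI : IsIso η[T] := by
    refine isIso_unit_of_surjective_one ?_
    have h2 := surjective_pow_torus hT n hn
    rwa [hT1] at h2
  let l := hkq.lift (𝟙 S) (toUnit S) (by rw [Category.id_comp, eq_one_of_isIso_unit q, Hom.one_def])
  have hl : l ≫ i = 𝟙 S := hkq.lift_fst _ _ _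
  have h1 : (1 : S ⟶ S) = 𝟙 S := by rw [← hl, eq_one_of_isIso_unit l, MonObj.one_comp]
  exact ⟨toUnit S, toUnit_unique _ _, by rw [← Hom.one_def, h1]⟩

section Key

variable (p : ℕ) [Fact p.Prime] [CharP k p]
include p

/-- Over an algebraically closed field of characteristic `p`, a smooth connected commutative group without
semiabelian subgroups has finite exponent. -/
theorem exists_pow_eq_one_alg [IsAlgClosed k] (Q : Over (Spec (CommRingCat.of k))) [GrpObj Q] [IsCommMonObj Q]
    [Smooth Q.hom] [QuasiCompact Q.hom] [ConnectedSpace ↥Q.left]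
    (hQ : ∀ (S : Over (Spec (CommRingCat.of k))) [GrpObj S] (s : S ⟶ Q) [IsMonHom s] [IsClosedImmersion s.left],
      IsSemiab S → IsIso η[S]) :
    ∃ n : ℕ, 0 < n ∧ (𝟙 Q : Q ⟶ Q) ^ n = 1 := by
  haveI := Groth.L08.AbelianGrp.isSeparated Q
  obtain ⟨L, _, l, A, _, α, hl, hlc, hLs, hLc, hLa, -, hα, hαs, hαf, hαl, hker, hAp, hAs, hAc⟩ :=
    Groth.L08.Chev.exists_chevalley (G := Q)
  haveI := hl; haveI := hlc; haveI := hLs; haveI := hLc; haveI := hLa; haveI := hα; haveI := hαs; haveI := hαf
  haveI := hαl; haveI := hAp; haveI := hAs; haveI := hAc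
  haveI : Mono l := (Over.forget _).mono_of_mono_map (inferInstanceAs (Mono l.left))
  haveI : IsCommMonObj L := ⟨by
    rw [← cancel_mono l, Category.assoc, IsMonHom.mul_hom l, ← Category.assoc, ← BraidedCategory.braiding_naturality,
      Category.assoc, IsCommMonObj.mul_comm]⟩
  haveI : IsAffineHom L.hom := isAffineHom_of_isAffine _
  have hns : Red.HasNoSubtorus k L := by
    intro T _ j _ _ hT
    haveI : Mono (j ≫ l) := mono_comp j l
    haveI : IsClosedImmersion (j ≫ l).left :=
      Groth.L25.MonoClosed.isClosedImmersion_of_mono (Groth.L25.Locus.isMultTypeFT_of_isTorus hT) (j ≫ l)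
    haveI : IsIso η[T] := hQ T (j ≫ l) (isSemiab_torus hT)
    show IsIso T.hom
    have h := Over.w η[T]
    haveI : IsIso η[T].left := inferInstanceAs (IsIso ((Over.forget _).map η[T]))
    have h2 : T.hom = inv η[T].left := by
      rw [← cancel_epi η[T].left, IsIso.hom_inv_id]; exact h
    rw [h2]; infer_instance
  obtain ⟨d, -, hd⟩ := Groth.L08.GrpDim.exists_dim (G := L)
  have hL : (𝟙 L : L ⟶ L) ^ (p ^ d) = 1 := Groth.Agent.S12186.result p k L hns d hd
  have hN : 0 < p ^ d := pow_pos (Fact.out : p.Prime).pos d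
  haveI : IsMonHom ((𝟙 Q : Q ⟶ Q) ^ (p ^ d)) := Groth.Agent.AV.Isogeny.isMonHom_pow _
  obtain ⟨g, hg⟩ := Groth.L08.AffHull.exists_desc_cover α ((𝟙 Q : Q ⟶ Q) ^ (p ^ d)) (fun {X} a b hab => by
    obtain ⟨z, hz, -⟩ := hker.exists_lift (a * b⁻¹) (toUnit X) (by
      rw [MonObj.mul_comp, GrpObj.inv_comp, hab, mul_inv_cancel, Hom.one_def])
    have h1 : (a * b⁻¹) ^ (p ^ d) = 1 := by
      have h2 := congrArg (z ≫ ·) hL
      simp only [MonObj.comp_pow, Category.comp_id, MonObj.comp_one] at h2
      rw [← hz, ← MonObj.pow_comp, h2, MonObj.one_comp]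
    rw [MonObj.comp_pow, MonObj.comp_pow, Category.comp_id, Category.comp_id]
    rwa [mul_pow, inv_pow, mul_inv_eq_one] at h1)
  haveI : Epi α := Groth.L08.GQuot.epi_of_cover α
  haveI : Epi (α ⊗ₘ α) := by
    have hh := Groth.L08.GQuot.cover_tensor α Q
    obtain ⟨⟨_, _, _⟩, -⟩ := hh
    obtain ⟨-, ⟨_, _, _⟩⟩ := Groth.L08.GQuot.cover_tensor α A
    rw [MonoidalCategory.tensorHom_def]
    haveI : Epi (α ▷ Q) := Groth.L08.GQuot.epi_of_cover _
    haveI : Epi (A ◁ α) := Groth.L08.GQuot.epi_of_cover _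
    infer_instance
  haveI : IsMonHom g := by
    refine IsMonHom.mk ?_ ?_
    · rw [← IsMonHom.one_hom α, Category.assoc, hg, IsMonHom.one_hom]
    · rw [← cancel_epi (α ⊗ₘ α), ← reassoc_of% (IsMonHom.mul_hom α), hg, IsMonHom.mul_hom,
        ← Category.assoc, MonoidalCategory.tensorHom_comp_tensorHom, hg]
  refine ⟨p ^ d, hN, ?_⟩
  rw [← hg, eq_one_of_noSemiab (isSemiab_proper A) hQ g, MonObj.comp_one]

/-- Over an algebraically closed field of characteristic `p`, a power map of a smooth connected commutative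
group factors through a semiabelian subgroup. -/
theorem exists_pow_fac_alg [IsAlgClosed k] (H : Over (Spec (CommRingCat.of k))) [GrpObj H] [IsCommMonObj H]
    [Smooth H.hom] [QuasiCompact H.hom] [ConnectedSpace ↥H.left] :
    ∃ (n : ℕ) (S : Over (Spec (CommRingCat.of k))) (_ : GrpObj S) (s : S ⟶ H) (h : H ⟶ S),
      0 < n ∧ IsMonHom s ∧ IsClosedImmersion s.left ∧ IsSemiab S ∧ h ≫ s = (𝟙 H : H ⟶ H) ^ n := by
  obtain ⟨S, _, s, hs, hsc, hSP, -, hquot⟩ := Groth.Agent.S14602.result k H
  haveI := hs; haveI := hsc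
  obtain ⟨Q, _, q, hq, hqs, hqf, hql, hQl, hQq, hQc, hker⟩ := Groth.L08.AbelianGrp.exists_quotient s
  haveI := hq; haveI := hqs; haveI := hqf; haveI := hql; haveI := hQl; haveI := hQq; haveI := hQc
  haveI : Smooth Q.hom := Groth.L19.AlgGrpBasic.smooth_of_cover q
  haveI : ConnectedSpace ↥Q.left := q.left.surjective.connectedSpace q.left.continuous
  obtain ⟨n, hn, hn1⟩ := exists_pow_eq_one_alg p Q fun S'' _ s'' _ _ h => hquot Q q hker S'' s'' h
  have h1 : ((𝟙 H : H ⟶ H) ^ n) ≫ q = 1 := by
    rw [MonObj.pow_comp, Category.id_comp, ← Category.comp_id q, ← MonObj.comp_pow, hn1, MonObj.comp_one]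
  exact ⟨n, S, inferInstance, s, hker.lift _ (toUnit H) (by rw [h1, Hom.one_def]), hn, hs, hsc, hSP,
    hker.lift_fst _ _ _⟩

/-- The image of a suitable power map of a smooth connected commutative group is semiabelian. -/
theorem exists_semiab_image (H : Over (Spec (CommRingCat.of k))) [GrpObj H] [IsCommMonObj H]
    [Smooth H.hom] [QuasiCompact H.hom] [ConnectedSpace ↥H.left] :
    ∃ (n : ℕ) (C : Over (Spec (CommRingCat.of k))) (_ : GrpObj C) (π : H ⟶ C) (i : C ⟶ H),
      0 < n ∧ IsMonHom π ∧ IsMonHom i ∧ IsClosedImmersion i.left ∧ Surjective π.left ∧ IsSemiab C ∧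
      π ≫ i = (𝟙 H : H ⟶ H) ^ n := by
  let K := AlgebraicClosure k
  let t := AbVar.ext k K
  haveI := smooth_gbc H
  haveI := qc_gbc H
  haveI : ConnectedSpace ↥(gbc H).left := Groth.L08.ChevPerf.connectedSpace_bc H
  haveI : CharP K p := charP_of_injective_algebraMap (algebraMap k K).injective p
  haveI : IsCommMonObj (gbc H) := inferInstanceAs (IsCommMonObj ((Over.pullback t).obj H))
  obtain ⟨n, S, _, s, h, hn, hs, hsc, hSP, hh⟩ := exists_pow_fac_alg p (gbc H)
  haveI : IsMonHom ((𝟙 H : H ⟶ H) ^ n) := Groth.Agent.AV.Isogeny.isMonHom_pow n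
  haveI := Groth.L08.AbelianGrp.isSeparated H
  obtain ⟨C, _, π, i, hπ, hi, hπi, hπf, hπs, hπl, hic⟩ := Groth.L08.AbelianGrp.exists_image ((𝟙 H : H ⟶ H) ^ n)
  haveI := hπ; haveI := hi; haveI := hπf; haveI := hπs; haveI := hπl; haveI := hic
  haveI : LocallyOfFiniteType C.hom := by rw [← Over.w i]; infer_instance
  haveI : QuasiCompact C.hom := by rw [← Over.w i]; infer_instance
  haveI : Smooth C.hom := Groth.L19.AlgGrpBasic.smooth_of_cover π
  haveI : ConnectedSpace ↥C.left := π.left.surjective.connectedSpace π.left.continuous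
  refine ⟨n, C, inferInstance, π, i, hn, hπ, hi, hic, hπs, isSemiab_of_lineConst_gbc ?_, hπi⟩
  let πK := (Over.pullback t).map π
  let iK := (Over.pullback t).map i
  have sq := Groth.L08.Albanese.isPullback_bc_map (K := K) π
  haveI : Surjective πK.left := MorphismProperty.of_isPullback (P := @Surjective) sq.flip hπs
  haveI : Flat πK.left := MorphismProperty.of_isPullback (P := @Flat) sq.flip hπf
  haveI : LocallyOfFinitePresentation πK.left :=
    MorphismProperty.of_isPullback (P := @LocallyOfFinitePresentation) sq.flip hπl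
  haveI : IsClosedImmersion iK.left :=
    MorphismProperty.of_isPullback (P := @IsClosedImmersion) (Groth.L08.Albanese.isPullback_bc_map (K := K) i).flip hic
  haveI : Mono iK := (Over.forget _).mono_of_mono_map (inferInstanceAs (Mono iK.left))
  haveI : Mono s := (Over.forget _).mono_of_mono_map (inferInstanceAs (Mono s.left))
  have hK : πK ≫ iK = h ≫ s := by
    rw [hh, ← Functor.map_comp, hπi]
    exact ((Over.pullback t).homMonoidHom (X := H) (M := H)).map_pow (𝟙 H) n |>.trans
      (congrArg (· ^ n) ((Over.pullback t).map_id H))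
  obtain ⟨g, hg⟩ := Groth.L08.AffHull.exists_desc_cover πK h (fun a b hab => by
    rw [← cancel_mono s, Category.assoc, Category.assoc, ← hK, reassoc_of% hab])
  have hgs : g ≫ s = iK := by
    haveI : Epi πK := Groth.L08.GQuot.epi_of_cover πK
    rw [← cancel_epi πK, reassoc_of% hg, hK]
  haveI : Mono g := mono_of_mono_fac hgs
  exact hSP.lineConst.of_mono g

/-- A commutative group of finite type over a field of characteristic `p` without semiabelian subgroups has
finite exponent. -/
theorem exists_pow_eq_one (G : Over (Spec (CommRingCat.of k))) [GrpObj G] [IsCommMonObj G]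
    [LocallyOfFiniteType G.hom] [QuasiCompact G.hom]
    (hG : ∀ (S : Over (Spec (CommRingCat.of k))) [GrpObj S] (s : S ⟶ G) [IsMonHom s] [IsClosedImmersion s.left],
      IsSemiab S → IsIso η[S]) :
    ∃ n : ℕ, 0 < n ∧ (𝟙 G : G ⟶ G) ^ n = 1 := by
  obtain ⟨F, G', gF, gG', e, v, hFf, -, hG's, hec, he, hv, hvs, hvf, hvl, hker⟩ :=
    Groth.L19.FrobKernel.exists_finite_kernel p (G := G)
  haveI := hFf; haveI := hG's; haveI := hec; haveI := he; haveI := hv; haveI := hvs; haveI := hvf; haveI := hvl
  haveI : Mono e := (Over.forget _).mono_of_mono_map (inferInstanceAs (Mono e.left))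
  haveI : IsCommMonObj F := ⟨by
    rw [← cancel_mono e, Category.assoc, IsMonHom.mul_hom e, ← Category.assoc, ← BraidedCategory.braiding_naturality,
      Category.assoc, IsCommMonObj.mul_comm]⟩
  haveI : IsCommMonObj G' := Groth.L08.AbelianGrp.isCommMonObj_of_cover v
  haveI : LocallyOfFiniteType G'.hom := inferInstance
  haveI : QuasiCompact G'.hom := by
    haveI : CompactSpace ↥G.left := QuasiCompact.compactSpace_of_compactSpace G.hom
    haveI : CompactSpace ↥G'.left := ⟨by
      rw [← v.left.surjective.range_eq]; exact isCompact_range v.left.continuous⟩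
    exact (HasAffineProperty.iff_of_isAffine (P := @QuasiCompact)).2 ‹_›
  have hsub : Subsingleton ↥(Spec (CommRingCat.of k)) := inferInstanceAs (Subsingleton (PrimeSpectrum k))
  let r := F.hom.finrank (IsLocalRing.closedPoint k)
  haveI : Surjective F.hom := ⟨fun x => ⟨η[F].left (IsLocalRing.closedPoint k), Subsingleton.elim (α := PrimeSpectrum k) _ _⟩⟩
  haveI : LocallyOfFinitePresentation F.hom := inferInstance
  have hr : 1 ≤ r := (Scheme.Hom.one_le_finrank_iff_surjective F.hom).2 ‹_› _
  have hF : (𝟙 F : F ⟶ F) ^ r = 1 := Groth.L08.Deligne.pow_eq_one F r fun s =>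
    congrArg F.hom.finrank (Subsingleton.elim (α := PrimeSpectrum k) _ _)
  obtain ⟨g, hg⟩ := Groth.L08.AffHull.exists_desc_cover v ((𝟙 G : G ⟶ G) ^ r) (fun {X} a b hab => by
    obtain ⟨z, hz, -⟩ := hker.exists_lift (a * b⁻¹) (toUnit X) (by
      rw [MonObj.mul_comp, GrpObj.inv_comp, hab, mul_inv_cancel, Hom.one_def])
    have h1 : (a * b⁻¹) ^ r = 1 := by
      have h2 := congrArg (z ≫ ·) hF
      simp only [MonObj.comp_pow, Category.comp_id, MonObj.comp_one] at h2
      rw [← hz, ← MonObj.pow_comp, h2, MonObj.one_comp]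
    rw [MonObj.comp_pow, MonObj.comp_pow, Category.comp_id, Category.comp_id]
    rwa [mul_pow, inv_pow, mul_inv_eq_one] at h1)
  haveI : IsMonHom ((𝟙 G : G ⟶ G) ^ r) := Groth.Agent.AV.Isogeny.isMonHom_pow r
  haveI : Epi v := Groth.L08.GQuot.epi_of_cover v
  haveI : Epi (v ⊗ₘ v) := by
    obtain ⟨⟨_, _, _⟩, -⟩ := Groth.L08.GQuot.cover_tensor v G
    obtain ⟨-, ⟨_, _, _⟩⟩ := Groth.L08.GQuot.cover_tensor v G'
    rw [MonoidalCategory.tensorHom_def]
    haveI : Epi (v ▷ G) := Groth.L08.GQuot.epi_of_cover _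
    haveI : Epi (G' ◁ v) := Groth.L08.GQuot.epi_of_cover _
    infer_instance
  haveI : IsMonHom g := by
    refine IsMonHom.mk ?_ ?_
    · rw [← IsMonHom.one_hom v, Category.assoc, hg, IsMonHom.one_hom]
    · rw [← cancel_epi (v ⊗ₘ v), ← reassoc_of% (IsMonHom.mul_hom v), hg, IsMonHom.mul_hom,
        ← Category.assoc, MonoidalCategory.tensorHom_comp_tensorHom, hg]
  obtain ⟨G₀, _, j, hd⟩ := Groth.L08.Chev.exists_idComp G'
  haveI := hd.hom; haveI := hd.closedImm; haveI := hd.openImm
  haveI : ConnectedSpace ↥G₀.left := hd.connectedSpace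
  haveI : Smooth G₀.hom := by rw [← Over.w j]; infer_instance
  haveI : QuasiCompact G₀.hom := by rw [← Over.w j]; infer_instance
  haveI : Mono j := (Over.forget _).mono_of_mono_map (inferInstanceAs (Mono j.left))
  haveI : IsCommMonObj G₀ := ⟨by
    rw [← cancel_mono j, Category.assoc, IsMonHom.mul_hom j, ← Category.assoc, ← BraidedCategory.braiding_naturality,
      Category.assoc, IsCommMonObj.mul_comm]⟩
  obtain ⟨n, C, _, π, i, hn, hπ, hi, hic, -, hC, hπi⟩ := exists_semiab_image p G₀
  haveI := hπ; haveI := hi; haveI := hic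
  haveI : LocallyOfFiniteType C.hom := by rw [← Over.w i]; infer_instance
  haveI : QuasiCompact C.hom := by rw [← Over.w i]; infer_instance
  obtain ⟨E, _, q, hq, hqs, hqf, hql, hEl, hEq, hEc, hkq⟩ := Groth.L08.AbelianGrp.exists_quotient j
  haveI := hq; haveI := hqs; haveI := hqf; haveI := hql; haveI := hEl; haveI := hEq; haveI := hEc
  haveI : IsFinite E.hom := by
    refine Groth.L08.Albanese.isFinite_of_isOpen_one E ?_
    have himg : q.left '' Set.range j.left = {Groth.L25.Component.one E} := by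
      have hr' : Set.range j.left = q.left ⁻¹' Set.range η[E].left := by
        exact range_of_isKernel hkq
      rw [hr', Set.image_preimage_eq _ q.left.surjective]
      refine Set.eq_singleton_iff_unique_mem.2 ⟨⟨_, rfl⟩, ?_⟩
      rintro _ ⟨x, rfl⟩
      exact congrArg η[E].left (Subsingleton.elim (α := PrimeSpectrum k) _ _)
    rw [← himg]
    haveI : UniversallyOpen q.left := inferInstance
    exact q.left.isOpenMap _ j.left.isOpenEmbedding.isOpen_range
  let m := E.hom.finrank (IsLocalRing.closedPoint k)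
  haveI : Surjective E.hom := ⟨fun x => ⟨η[E].left (IsLocalRing.closedPoint k), Subsingleton.elim (α := PrimeSpectrum k) _ _⟩⟩
  haveI : LocallyOfFinitePresentation E.hom := inferInstance
  have hm : 1 ≤ m := (Scheme.Hom.one_le_finrank_iff_surjective E.hom).2 ‹_› _
  have hE : (𝟙 E : E ⟶ E) ^ m = 1 := Groth.L08.Deligne.pow_eq_one E m fun s =>
    congrArg E.hom.finrank (Subsingleton.elim (α := PrimeSpectrum k) _ _)
  have h1 : ((𝟙 G' : G' ⟶ G') ^ m) ≫ q = 1 := by
    rw [MonObj.pow_comp, Category.id_comp, ← Category.comp_id q, ← MonObj.comp_pow, hE, MonObj.comp_one]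
  obtain ⟨u, hu⟩ : ∃ u : G' ⟶ G₀, u ≫ j = (𝟙 G' : G' ⟶ G') ^ m :=
    ⟨hkq.lift _ (toUnit G') (by rw [h1, Hom.one_def]), hkq.lift_fst _ _ _⟩
  have hzero : (i ≫ j) ≫ g = 1 := eq_one_of_noSemiab hC hG ((i ≫ j) ≫ g)
  refine ⟨r * m * n, Nat.mul_pos (Nat.mul_pos hr hm) hn, ?_⟩
  have h2 : (((𝟙 G' : G' ⟶ G') ^ m) ^ n) ≫ g = 1 := by
    have e1 : u ≫ π ≫ i ≫ j = ((𝟙 G' : G' ⟶ G') ^ m) ^ n := by
      rw [reassoc_of% hπi, MonObj.pow_comp, Category.id_comp, MonObj.comp_pow, hu]
    rw [← e1, Category.assoc, Category.assoc, hzero, MonObj.comp_one, MonObj.comp_one]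
  calc (𝟙 G : G ⟶ G) ^ (r * m * n) = v ≫ ((((𝟙 G' : G' ⟶ G') ^ m) ^ n) ≫ g) := by
        rw [← pow_mul, MonObj.pow_comp, Category.id_comp, MonObj.comp_pow, hg, ← pow_mul, _root_.mul_assoc]
    _ = 1 := by rw [h2, MonObj.comp_one]

end Key

end Groth.L19.SpecSub
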