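import Groth.Agent.S14585
import Groth.Agent.L19.SpecSub.SemiAbelianDesc
import Groth.Agent.L08.SmallNorm.HasAff
import Groth.Agent.L08.ChevPerf.Perfect
import Groth.Agent.L25.Locus.Torus

/-!
# The affine line criterion: base change, finite targets
-/

set_option autoImplicit false
set_option backward.isDefEq.respectTransparency.types false
set_option linter.style.haveILetI false
set_option linter.unusedSectionVars false

universe u

open CategoryTheory CategoryTheory.Limits MonoidalCategory CartesianMonoidalCategory MonObj GrpObj AlgebraicGeometry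
open Groth.L08.P1Hom (lineK lineAt)

noncomputable section

namespace Groth.L19.SpecSub

variable {k : Type u} [Field k]

/-- Semiabelian: an extension of an abelian variety by a torus. -/
def IsSemiab {K : Type u} [Field K] (G : Over (Spec (CommRingCat.of K))) [GrpObj G] : Prop :=
  ∃ (T : Over (Spec (CommRingCat.of K))) (_ : GrpObj T) (i : T ⟶ G) (A : Over (Spec (CommRingCat.of K))) (_ : GrpObj A) (q : G ⟶ A),
    IsMonHom i ∧ IsClosedImmersion i.left ∧ Red.IsTorus T ∧ IsMonHom q ∧ Surjective q.left ∧ Flat q.left ∧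
    AlgGrp.IsKernel i q ∧ IsProper A.hom ∧ Smooth A.hom ∧ ConnectedSpace ↥A.left

/-- Semiabelian varieties stay semiabelian after field extension. -/
theorem IsSemiab.bc {G : Over (Spec (CommRingCat.of k))} [GrpObj G] (h : IsSemiab G) (K : Type u) [Field K] [Algebra k K] :
    IsSemiab (Red.bc (AbVar.ext k K) G) := by
  obtain ⟨T, _, i, A, _, q, hi, hic, hT, hq, hqs, hqf, hker, hAp, hAs, hAc⟩ := h
  haveI := hi; haveI := hq; haveI := hic; haveI := hqs; haveI := hqf; haveI := hAp; haveI := hAs; haveI := hAc
  let t := AbVar.ext k K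
  refine ⟨Red.bc t T, inferInstance, (Over.pullback t).map i, Red.bc t A, inferInstance, (Over.pullback t).map q,
    inferInstance, ?_, L25.Locus.isTorus_bc hT t, inferInstance, ?_, ?_, Groth.L08.SmallNorm.isKernel_bc t hker, ?_, ?_,
    Groth.L08.ChevPerf.connectedSpace_bc A⟩
  · exact MorphismProperty.of_isPullback (P := @IsClosedImmersion) (Groth.L08.Albanese.isPullback_bc_map (K := K) i).flip hic
  · exact MorphismProperty.of_isPullback (P := @Surjective) (Groth.L08.Albanese.isPullback_bc_map (K := K) q).flip hqs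
  · exact MorphismProperty.of_isPullback (P := @Flat) (Groth.L08.Albanese.isPullback_bc_map (K := K) q).flip hqf
  · exact MorphismProperty.pullback_snd _ _ hAp
  · exact MorphismProperty.pullback_snd _ _ hAs

/-- A morphism from the affine line to a finite scheme over a field is constant. -/
theorem const_of_finite {N : Over (Spec (CommRingCat.of k))} [IsFinite N.hom] (f : lineK k ⟶ N) :
    f = toUnit _ ≫ lineAt k 0 ≫ f := by
  haveI : IsAffine N.left := isAffine_of_isAffineHom N.hom
  let B := Γ(N.left, ⊤)
  let a : CommRingCat.of k ⟶ B := (Scheme.ΓSpecIso (CommRingCat.of k)).inv ≫ N.hom.appTop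
  algebraize [a.hom]
  haveI : Module.Finite k B := by
    have h := ((HasAffineProperty.iff_of_isAffine (P := @IsFinite) (f := N.hom)).1 inferInstance).2.comp
      (RingHom.Finite.of_surjective (Scheme.ΓSpecIso (CommRingCat.of k)).inv.hom
        (Scheme.ΓSpecIso (CommRingCat.of k)).commRingCatIsoToRingEquiv.symm.surjective)
    exact RingHom.finite_algebraMap.1 h
  obtain ⟨φ, hφ⟩ : ∃ φ : B →+* Polynomial k, φ = (f.left.appTop ≫ (Scheme.ΓSpecIso (CommRingCat.of (Polynomial k))).hom).hom :=
    ⟨_, rfl⟩
  have hcomm : ∀ c : k, φ (algebraMap k B c) = Polynomial.C c := by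
    intro c
    have hw : N.hom.appTop ≫ f.left.appTop = (lineK k).hom.appTop := by
      rw [← Scheme.Hom.comp_appTop, Over.w f]
    have h2 : a ≫ f.left.appTop ≫ (Scheme.ΓSpecIso (CommRingCat.of (Polynomial k))).hom =
        CommRingCat.ofHom (Polynomial.C : k →+* Polynomial k) := by
      simp only [a, Category.assoc]
      rw [reassoc_of% hw]
      show _ ≫ (Spec.map _).appTop ≫ _ = _
      rw [← Scheme.ΓSpecIso_inv_naturality_assoc]
      simp
    rw [hφ]
    exact congr(($h2).hom c)
  let ψ : B →ₐ[k] Polynomial k := { φ with commutes' := hcomm }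
  have hconst : ∀ b : B, Polynomial.C ((φ b).eval 0) = φ b := by
    intro b
    obtain ⟨p, hp, hpb⟩ := Algebra.IsIntegral.isIntegral (R := k) b
    have hint : IsIntegral k (φ b) := IsIntegral.map ψ ⟨p, hp, hpb⟩
    have hdeg : (φ b).natDegree = 0 := by
      by_contra hd
      have halg := Polynomial.transcendental_X k
      obtain ⟨r, hr, hr0⟩ := hint
      have h0 : r.comp (φ b) = 0 := by
        rw [Polynomial.comp_eq_aeval]; exact hr0
      rcases Polynomial.comp_eq_zero_iff.1 h0 with h | ⟨-, h⟩
      · exact hr.ne_zero h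
      · exact hd (by rw [h, Polynomial.natDegree_C])
    conv_rhs => rw [Polynomial.eq_C_of_natDegree_eq_zero hdeg]
    rw [Polynomial.coeff_zero_eq_eval_zero]
  apply Over.OverMorphism.ext
  refine ext_of_isAffine ?_
  have h3 : (toUnit (lineK k) ≫ lineAt k 0 ≫ f).left =
      Spec.map (CommRingCat.ofHom ((Polynomial.C : k →+* Polynomial k).comp (Polynomial.evalRingHom (0 : k)))) ≫ f.left := by
    rw [Over.comp_left, Over.comp_left, Over.toUnit_left, ← Category.assoc, CommRingCat.ofHom_comp, Spec.map_comp]
    rfl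
  rw [h3, Scheme.Hom.comp_appTop, ← cancel_mono (Scheme.ΓSpecIso (CommRingCat.of (Polynomial k))).hom,
    Category.assoc, Scheme.ΓSpecIso_naturality]
  refine CommRingCat.hom_ext (RingHom.ext fun b => ?_)
  subst hφ
  exact (hconst b).symm

/-- The two models of the affine line. -/
def lineIso (K : Type u) [Field K] :
    lineK K ≅ Over.mk (𝔸(PUnit.{u + 1}; Spec (CommRingCat.of K)) ↘ Spec (CommRingCat.of K)) :=
  let φ : MvPolynomial PUnit.{u + 1} K ≃ₐ[K] Polynomial K := MvPolynomial.pUnitAlgEquiv K
  Over.isoMk (Scheme.Spec.mapIso φ.toRingEquiv.toCommRingCatIso.op ≪≫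
    (AffineSpace.SpecIso PUnit.{u + 1} (CommRingCat.of K)).symm) (by
      show (Spec.map _ ≫ (AffineSpace.SpecIso _ _).inv) ≫
        (𝔸(PUnit.{u + 1}; Spec (CommRingCat.of K)) ↘ Spec (CommRingCat.of K)) = Spec.map _
      rw [Category.assoc, AffineSpace.SpecIso_inv_over, ← Spec.map_comp]
      congr 1
      exact CommRingCat.hom_ext (RingHom.ext fun c => φ.commutes c))

end Groth.L19.SpecSub
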