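import Groth.Agent.L19.SpecSub.SemiabField
import Groth.Agent.L08.MonoClosed
import Groth.Agent.L08.Albanese.Basic
import Groth.Agent.L08.Chev.Comp
import Groth.Agent.L08.GQuot.Field
import Groth.Agent.L08.GQuot.Struct
import Groth.Agent.L25.GrpDeriv
import Groth.Agent.L25.CommWords
import Groth.Agent.L19.AlgGrpBasic.GeomPoint
import Groth.Agent.L19.SpecSub.SabExponent
import Groth.Agent.S14594

/-!
# Quotients with semiabelian target
-/

set_option autoImplicit false
set_option backward.isDefEq.respectTransparency.types false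
set_option linter.style.haveILetI false
set_option linter.unusedSectionVars false

universe u

open CategoryTheory CategoryTheory.Limits MonoidalCategory CartesianMonoidalCategory MonObj GrpObj AlgebraicGeometry

noncomputable section

namespace Groth.L19.SpecSub

variable {k : Type u} [Field k]

/-- A group embedded in the product of two semiabelian varieties, if smooth and connected, is semiabelian. -/
theorem isSemiab_of_mono_prod {E Q₁ Q₂ : Over (Spec (CommRingCat.of k))} [GrpObj E] [GrpObj Q₁] [GrpObj Q₂]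
    [Smooth E.hom] [QuasiCompact E.hom] [ConnectedSpace ↥E.left] (e : E ⟶ Q₁ ⊗ Q₂) [Mono e]
    (h₁ : IsSemiab Q₁) (h₂ : IsSemiab Q₂) : IsSemiab E := by
  let t := AbVar.ext k (AlgebraicClosure k)
  let F := Over.pullback t
  refine isSemiab_of_lineConst_gbc fun f => ?_
  haveI : Mono (F.map e ≫ Functor.OplaxMonoidal.δ F Q₁ Q₂) := inferInstance
  rw [← cancel_mono (F.map e ≫ Functor.OplaxMonoidal.δ F Q₁ Q₂)]
  apply CartesianMonoidalCategory.hom_ext
  · simp only [Category.assoc]
    rw [Functor.OplaxMonoidal.δ_fst, ← Functor.map_comp]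
    exact (h₁.bc (AlgebraicClosure k)).lineConst (f ≫ F.map (e ≫ fst Q₁ Q₂))
  · simp only [Category.assoc]
    rw [Functor.OplaxMonoidal.δ_snd, ← Functor.map_comp]
    exact (h₂.bc (AlgebraicClosure k)).lineConst (f ≫ F.map (e ≫ snd Q₁ Q₂))

/-- A semiabelian target of a surjection from a quasi-compact scheme is of finite type. -/
theorem ft_of_cover_sab {G Q : Over (Spec (CommRingCat.of k))} [GrpObj Q] [QuasiCompact G.hom]
    (q : G ⟶ Q) [Surjective q.left] (h : IsSemiab Q) : LocallyOfFiniteType Q.hom ∧ QuasiCompact Q.hom := by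
  obtain ⟨T, _, i, A, _, p, hi, hic, hT, hp, hps, hpf, hkp, hAp, hAs, hAc⟩ := h
  haveI := hp; haveI := hps; haveI := hpf; haveI := hAs; haveI := hAp
  haveI : CompactSpace ↥G.left := QuasiCompact.compactSpace_of_compactSpace G.hom
  haveI : CompactSpace ↥Q.left := ⟨by rw [← q.left.surjective.range_eq]; exact isCompact_range q.left.continuous⟩
  haveI hqc : QuasiCompact Q.hom := (HasAffineProperty.iff_of_isAffine (P := @QuasiCompact)).2 ‹_›
  haveI : QuasiCompact (p.left ≫ A.hom) := by rw [Over.w p]; exact hqc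
  haveI : QuasiCompact p.left := QuasiCompact.of_comp p.left A.hom
  haveI : Smooth T.hom := Groth.L08.Borel.smooth_of_isTorus hT
  haveI := Groth.L19.AlgGrpBasic.smooth_of_isKernel i p hkp
  exact ⟨by rw [← Over.w p]; infer_instance, hqc⟩

/-- The quotient of an algebraic group by a closed normal subgroup. -/
theorem exists_normal_quotient {G H : Over (Spec (CommRingCat.of k))} [GrpObj G] [GrpObj H]
    [LocallyOfFiniteType G.hom] [QuasiCompact G.hom] (j : H ⟶ G) [IsMonHom j] [IsClosedImmersion j.left]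
    (hN : AlgGrp.IsNormalHom j) :
    ∃ (Q : Over (Spec (CommRingCat.of k))) (_ : GrpObj Q) (q : G ⟶ Q), IsMonHom q ∧ Surjective q.left ∧
      Flat q.left ∧ LocallyOfFinitePresentation q.left ∧ LocallyOfFiniteType Q.hom ∧ QuasiCompact Q.hom ∧
      AlgGrp.IsKernel j q := by
  haveI : Mono j := (Over.forget _).mono_of_mono_map (inferInstanceAs (Mono j.left))
  haveI : LocallyOfFiniteType H.hom := by rw [← Over.w j]; infer_instance
  obtain ⟨Y, p, _, _, _, sqp⟩ := Groth.L08.GQuot.exists_quotient_field j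
  obtain ⟨Q, q, hs, hf, hl, sqq, hlft, -, hqc, -, -⟩ := Groth.L08.GQuot.exists_struct p sqp
  obtain ⟨gQ, hq, hker⟩ := Groth.L08.GQuot.exists_grp hN q sqq
  exact ⟨Q, gQ, q, hq, hs, hf, hl, hlft inferInstance, hqc inferInstance, hker⟩

/-- Over a perfect field, the kernel of a homomorphism onto a semiabelian variety contains a smooth connected
normal subgroup with semiabelian quotient. -/
theorem exists_connected_sab_kernel [PerfectField k] {G E : Over (Spec (CommRingCat.of k))} [GrpObj G] [GrpObj E]
    [Smooth G.hom] [QuasiCompact G.hom] [ConnectedSpace ↥G.left] [LocallyOfFiniteType E.hom] [QuasiCompact E.hom]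
    (π : G ⟶ E) [IsMonHom π] [Surjective π.left] [Flat π.left] (hE : IsSemiab E) :
    ∃ (R : Over (Spec (CommRingCat.of k))) (_ : GrpObj R) (r : R ⟶ G) (Q : Over (Spec (CommRingCat.of k)))
      (_ : GrpObj Q) (q : G ⟶ Q), IsMonHom r ∧ IsClosedImmersion r.left ∧ AlgGrp.IsNormalHom r ∧ Smooth R.hom ∧
      ConnectedSpace ↥R.left ∧ r ≫ π = 1 ∧ IsMonHom q ∧ Surjective q.left ∧ Flat q.left ∧ AlgGrp.IsKernel r q ∧
      IsSemiab Q := by
  haveI := Groth.L08.AbelianGrp.isSeparated E
  haveI : LocallyOfFinitePresentation π.left := lfp_hom_field π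
  obtain ⟨P, _, iP, hiP, hiPc, -, hkP⟩ := Groth.L08.AbelianGrp.exists_kernel π
  haveI := hiP; haveI := hiPc
  haveI : Mono iP := (Over.forget _).mono_of_mono_map (inferInstanceAs (Mono iP.left))
  haveI : LocallyOfFiniteType P.hom := by rw [← Over.w iP]; infer_instance
  haveI : QuasiCompact P.hom := by rw [← Over.w iP]; infer_instance
  obtain ⟨P₀, _, j, hd⟩ := Groth.L08.Chev.exists_idComp P
  haveI := hd.hom; haveI := hd.closedImm; haveI := hd.openImm
  haveI : ConnectedSpace ↥P₀.left := hd.connectedSpace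
  haveI : LocallyOfFiniteType P₀.hom := by rw [← Over.w j]; infer_instance
  haveI : QuasiCompact P₀.hom := by rw [← Over.w j]; infer_instance
  haveI : Mono j := (Over.forget _).mono_of_mono_map (inferInstanceAs (Mono j.left))
  have hN₀ : AlgGrp.IsNormalHom (j ≫ iP) :=
    Groth.L08.Albanese.isNormalHom_component (Groth.L08.Albanese.isNormalHom_of_kernel hkP) j hd.range
  obtain ⟨R, gR, r₀, hr₀, hRred, hr₀c, hr₀range⟩ := Groth.L08.MonoClosed.exists_reduced_subgroup (G := P₀)
    Set.univ isClosed_univ trivial (fun _ _ _ => trivial) (fun _ _ => trivial)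
  haveI := hr₀; haveI := hRred; haveI := hr₀c
  haveI : Surjective r₀.left := ⟨Set.range_eq_univ.1 hr₀range⟩
  haveI : LocallyOfFiniteType R.hom := by rw [← Over.w r₀]; infer_instance
  haveI : Smooth R.hom :=
    haveI : GrpObj (Over.mk R.hom) := gR
    Groth.L25.GrpDeriv.smooth_of_perfectField R.hom
  let er : ↥R.left ≃ₜ ↥P₀.left :=
    (r₀.left.isEmbedding.toHomeomorph).trans ((Homeomorph.setCongr hr₀range).trans (Homeomorph.Set.univ _))
  haveI : ConnectedSpace ↥R.left := er.symm.surjective.connectedSpace er.symm.continuous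
  let r : R ⟶ G := r₀ ≫ j ≫ iP
  haveI : IsClosedImmersion r.left := by
    rw [Over.comp_left, Over.comp_left]; infer_instance
  have hRn : AlgGrp.IsNormalHom r := by
    obtain ⟨c, hc⟩ := hN₀ (G ⊗ R) (fst G R) (snd G R ≫ r₀)
    haveI : Smooth (G ⊗ R).hom := Groth.L25.CommWords.smooth_tensor G R
    haveI : IsReduced (G ⊗ R).left := Groth.Agent.AV.isReduced_of_smooth_field (G ⊗ R).hom
    obtain ⟨l, hl⟩ := Groth.L19.AlgGrpBasic.exists_lift_of_range r₀ c
      (by rw [hr₀range]; exact Set.subset_univ _)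
    intro T g n
    refine ⟨lift g n ≫ l, ?_⟩
    show g * (n ≫ r₀ ≫ j ≫ iP) * g⁻¹ = (lift g n ≫ l) ≫ r₀ ≫ j ≫ iP
    rw [Category.assoc, ← Category.assoc l r₀, hl, ← hc]
    simp only [MonObj.comp_mul, GrpObj.comp_inv, lift_fst, Category.assoc, lift_snd_assoc]
  obtain ⟨Q, _, q, hq, hqs, hqf, hql, hQl, hQq, hkq⟩ := exists_normal_quotient r hRn
  haveI := hq; haveI := hqs; haveI := hqf; haveI := hql; haveI := hQl; haveI := hQq
  have hPπ : iP ≫ π = 1 := hkP.w.trans (Hom.one_def).symm
  have hrπ : r ≫ π = 1 := by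
    show (r₀ ≫ j ≫ iP) ≫ π = 1
    rw [Category.assoc, Category.assoc, hPπ, MonObj.comp_one, MonObj.comp_one]
  refine ⟨R, gR, r, Q, inferInstance, q, inferInstance, inferInstance, hRn, inferInstance, inferInstance,
    hrπ, hq, hqs, hqf, hkq, ?_⟩
  haveI : Smooth Q.hom := Groth.L19.AlgGrpBasic.smooth_of_cover q
  haveI : ConnectedSpace ↥Q.left := q.left.surjective.connectedSpace q.left.continuous
  obtain ⟨f, hf⟩ := Groth.L08.AffHull.exists_desc_cover q π (fun {T} a b hab => by
    obtain ⟨z, hz, -⟩ := hkq.exists_lift (a * b⁻¹) (toUnit T) (by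
      rw [MonObj.mul_comp, GrpObj.inv_comp, hab, mul_inv_cancel, Hom.one_def])
    have h1 := congrArg (z ≫ ·) hrπ
    simp only [MonObj.comp_one, ← Category.assoc, hz, MonObj.mul_comp, GrpObj.inv_comp] at h1
    exact mul_inv_eq_one.1 h1)
  haveI : Epi q := Groth.L08.GQuot.epi_of_cover q
  haveI : IsMonHom f := by
    obtain ⟨_, _, _⟩ := Groth.L08.GQuot.cover_tensor₂ q
    haveI : Epi (q ⊗ₘ q) := Groth.L08.GQuot.epi_of_cover _
    refine IsMonHom.mk ?_ ?_
    · rw [← IsMonHom.one_hom q, Category.assoc, hf, IsMonHom.one_hom]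
    · rw [← cancel_epi (q ⊗ₘ q), ← reassoc_of% (IsMonHom.mul_hom q), hf, IsMonHom.mul_hom,
        ← Category.assoc, MonoidalCategory.tensorHom_comp_tensorHom, hf]
  haveI : Surjective f.left := by
    haveI : Surjective (q.left ≫ f.left) := by rw [← Over.comp_left, hf]; infer_instance
    exact Surjective.of_comp q.left f.left
  obtain ⟨N, _, n, hn, hnc, -, hkN⟩ := Groth.L08.AbelianGrp.exists_kernel f
  haveI := hn; haveI := hnc
  haveI : Mono n := (Over.forget _).mono_of_mono_map (inferInstanceAs (Mono n.left))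
  haveI : LocallyOfFiniteType N.hom := by rw [← Over.w n]; infer_instance
  haveI : QuasiCompact N.hom := by rw [← Over.w n]; infer_instance
  obtain ⟨k₀, hk₀⟩ : ∃ k₀ : P ⟶ N, k₀ ≫ n = iP ≫ q :=
    ⟨hkN.lift (iP ≫ q) (toUnit P) (by rw [Category.assoc, hf]; exact hkP.w), hkN.lift_fst _ _ _⟩
  have hsq : IsPullback k₀ iP n q := by
    refine IsPullback.mk' hk₀ (fun T a b _ h2 => (cancel_mono iP).1 h2) (fun T a b hab => ?_)
    obtain ⟨z, hz, -⟩ := hkP.exists_lift b (toUnit T) (by
      rw [← hf, ← Category.assoc, ← hab, Category.assoc, hkN.w, ← Category.assoc, toUnit_unique (a ≫ toUnit N) (toUnit T)])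
    exact ⟨z, by rw [← cancel_mono n, Category.assoc, hk₀, ← Category.assoc, hz, hab], hz⟩
  have sqf : IsPullback k₀.left iP.left n.left q.left := hsq.map (Over.forget (Spec (CommRingCat.of k)))
  haveI : Surjective k₀.left := MorphismProperty.of_isPullback (P := @Surjective) sqf.flip hqs
  haveI : Flat k₀.left := MorphismProperty.of_isPullback (P := @Flat) sqf.flip hqf
  haveI : LocallyOfFinitePresentation k₀.left :=
    MorphismProperty.of_isPullback (P := @LocallyOfFinitePresentation) sqf.flip hql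
  haveI : IsFinite N.hom := by
    refine Groth.L08.Albanese.isFinite_of_isOpen_one N ?_
    have hr1 : r₀ ≫ j ≫ k₀ = 1 := by
      rw [← cancel_mono n, Category.assoc, Category.assoc, hk₀, MonObj.one_comp]
      have h1 : r ≫ q = 1 := hkq.w.trans (Hom.one_def).symm
      simpa [r, Category.assoc] using h1
    have himg : k₀.left '' Set.range j.left = {Groth.L25.Component.one N} := by
      apply Set.Subset.antisymm
      · rintro _ ⟨_, ⟨x, rfl⟩, rfl⟩
        obtain ⟨y, rfl⟩ := r₀.left.surjective x
        have h2 := congr(($hr1).left y)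
        rw [Hom.one_def] at h2
        simp only [Over.comp_left, Scheme.Hom.comp_apply] at h2
        rw [Set.mem_singleton_iff, h2]
        exact congrArg η[N].left (Subsingleton.elim (α := PrimeSpectrum k) _ _)
      · rintro _ rfl
        refine ⟨(η[P]).left (IsLocalRing.closedPoint k), ?_, ?_⟩
        · rw [hd.range]; exact mem_connectedComponent
        · have h3 : η[P] ≫ k₀ = η[N] := by
            rw [← cancel_mono n, Category.assoc, hk₀, ← Category.assoc, IsMonHom.one_hom, IsMonHom.one_hom,
              IsMonHom.one_hom]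
          exact congr(($h3).left (IsLocalRing.closedPoint k))
    rw [← himg]
    haveI : UniversallyOpen k₀.left := inferInstance
    exact k₀.left.isOpenMap _ j.left.isOpenEmbedding.isOpen_range
  exact Groth.Agent.S14594.result k Q E f N n hkN hE

end Groth.L19.SpecSub
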