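import Groth.Agent.L19.SpecSub.SemiabCrit
import Groth.Agent.L08.P1Hom.SemiabComm
import Groth.Agent.L08.Chev.Gaff
import Groth.Agent.L08.Borel.TorusImage
import Groth.Agent.S14756

/-!
# Semiabelian varieties over an algebraically closed field: subgroups, extensions, quotients
-/

set_option autoImplicit false
set_option backward.isDefEq.respectTransparency.types false
set_option linter.style.haveILetI false
set_option linter.unusedSectionVars false

universe u

open CategoryTheory CategoryTheory.Limits MonoidalCategory CartesianMonoidalCategory MonObj GrpObj AlgebraicGeometry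
open Groth.L08.P1Hom (lineK lineAt)

noncomputable section

namespace Groth.L19.SpecSub

variable {k : Type u} [Field k] [IsAlgClosed k]

/-- Every morphism from the affine line into `G` is constant. -/
def LineConst (G : Over (Spec (CommRingCat.of k))) : Prop :=
  ∀ f : lineK k ⟶ G, f = toUnit _ ≫ lineAt k 0 ≫ f

theorem IsSemiab.lineConst {G : Over (Spec (CommRingCat.of k))} [GrpObj G] (h : IsSemiab G) : LineConst G := by
  obtain ⟨T, _, i, A, _, q, hi, -, hT, hq, -, -, hker, hA, -, -⟩ := h
  haveI := hi; haveI := hq; haveI := hA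
  exact fun f => const_of_semiabelian i hT q hker f

theorem isSemiab_of_lineConst {G : Over (Spec (CommRingCat.of k))} [GrpObj G] [Smooth G.hom] [QuasiCompact G.hom]
    [ConnectedSpace ↥G.left] (h : LineConst G) : IsSemiab G := by
  refine (Groth.Agent.S14585.result k G).2 fun f => ?_
  let e := lineIso k
  refine ⟨lineAt k 0 ≫ e.hom ≫ f, (cancel_epi e.hom).1 ((h (e.hom ≫ f)).trans ?_)⟩
  rw [← Category.assoc e.hom (toUnit _), Subsingleton.elim (e.hom ≫ toUnit _) (toUnit _)]

theorem LineConst.of_mono {H G : Over (Spec (CommRingCat.of k))} (j : H ⟶ G) [Mono j] (h : LineConst G) :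
    LineConst H := fun f => by
  rw [← cancel_mono j, Category.assoc, Category.assoc]
  exact h (f ≫ j)

theorem LineConst.of_isKernel {G' G G'' : Over (Spec (CommRingCat.of k))} [GrpObj G'] [GrpObj G] [GrpObj G'']
    {j : G' ⟶ G} {p : G ⟶ G''} [IsMonHom j] [IsMonHom p] (hker : AlgGrp.IsKernel j p)
    (h' : LineConst G') (h'' : LineConst G'') : LineConst G := fun f => by
  obtain ⟨g, hg⟩ : ∃ g, g = f * (toUnit _ ≫ lineAt k 0 ≫ f)⁻¹ := ⟨_, rfl⟩
  have hz : lineAt k 0 ≫ g = 1 := by
    rw [hg, MonObj.comp_mul, GrpObj.comp_inv, ← Category.assoc (lineAt k 0) (toUnit _),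
      Subsingleton.elim (lineAt k 0 ≫ toUnit _) (𝟙 _), Category.id_comp, mul_inv_cancel]
  have hgp : g ≫ p = 1 := by
    rw [h'' (g ≫ p), ← Category.assoc (lineAt k 0), hz, MonObj.one_comp, MonObj.comp_one]
  let hh := hker.lift g (toUnit _) (by rw [hgp, Hom.one_def])
  have hhi : hh ≫ j = g := hker.lift_fst _ _ _
  have h1 : g = 1 := by
    rw [← hhi, h' hh]
    simp only [Category.assoc]
    rw [hhi, hz, MonObj.comp_one]
  rw [hg] at h1
  exact mul_inv_eq_one.1 h1

/-- The kernel of a homomorphism to a proper group contains the affine connected subgroups. -/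
theorem exists_fac_of_affine {N G Q N' : Over (Spec (CommRingCat.of k))} [GrpObj N] [GrpObj G] [GrpObj Q] [GrpObj N']
    [IsProper Q.hom] {i : N ⟶ G} {q : G ⟶ Q} [IsMonHom q] (hker : AlgGrp.IsKernel i q) (i' : N' ⟶ G) [IsMonHom i']
    [Smooth N'.hom] [ConnectedSpace ↥N'.left] [IsAffine N'.left] : ∃ f : N' ⟶ N, f ≫ i = i' :=
  ⟨hker.lift i' (toUnit _) (by rw [Groth.L08.Chev.hom_to_proper_eq_one (i' ≫ q), Hom.one_def]), hker.lift_fst _ _ _⟩

/-- A quotient of a semiabelian variety is semiabelian. -/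
theorem IsSemiab.of_quotient {K G Q : Over (Spec (CommRingCat.of k))} [GrpObj K] [GrpObj G] [GrpObj Q]
    [QuasiCompact K.hom] [LocallyOfFiniteType K.hom] [Smooth G.hom] [QuasiCompact G.hom]
    [Smooth Q.hom] [QuasiCompact Q.hom] [ConnectedSpace ↥Q.left]
    (j : K ⟶ G) [IsMonHom j] [IsClosedImmersion j.left] (π : G ⟶ Q) [IsMonHom π] [Flat π.left] [Surjective π.left]
    (hker : AlgGrp.IsKernel j π) (h : IsSemiab G) : IsSemiab Q := by
  obtain ⟨T, _, i, A, _, q, hi, hic, hT, hq, hqs, hqf, hkq, hAp, hAs, hAc⟩ := h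
  haveI := hi; haveI := hic; haveI := hq; haveI := hqs; haveI := hqf; haveI := hAp; haveI := hAs; haveI := hAc
  haveI : IsCommMonObj G := Groth.L08.P1Hom.isCommMonObj_of_extension i hT q hkq
  obtain ⟨hTa, hTs, hTc, -, -⟩ := Groth.L08.Borel.torus_props hT
  haveI := hTa; haveI := hTs; haveI := hTc
  have hTn : AlgGrp.IsNormalHom i := fun X g n => ⟨n, by rw [mul_comm g, mul_inv_cancel_right]⟩
  obtain ⟨L, _, l, B, _, r, hl, hlc, hLs, hLc, hLa, hLn, hr, hrs, hrf, -, hkr, hBp, hBs, hBc⟩ :=
    Groth.L08.Chev.exists_chevalley (G := Q)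
  haveI := hl; haveI := hlc; haveI := hLs; haveI := hLc; haveI := hLa; haveI := hr; haveI := hBp
  obtain ⟨f, hf, hfs⟩ := Groth.Agent.S14756.result k K G Q j π hker T i hTn
    (fun N' _ i' _ _ _ _ _ _ => exists_fac_of_affine hkq i') L l hLn
    (fun N' _ i' _ _ _ _ _ _ => exists_fac_of_affine hkr i')
  haveI := hfs
  haveI : Mono l := (Over.forget _).mono_of_mono_map (inferInstanceAs (Mono l.left))
  haveI : IsMonHom f := by
    haveI : IsMonHom (f ≫ l) := by rw [hf]; infer_instance
    refine IsMonHom.mk ?_ ?_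
    · rw [← cancel_mono l, Category.assoc, IsMonHom.one_hom (f ≫ l), IsMonHom.one_hom l]
    · rw [← cancel_mono l, Category.assoc, IsMonHom.mul_hom (f ≫ l), Category.assoc, IsMonHom.mul_hom l,
        ← Category.assoc, ← MonoidalCategory.tensorHom_comp_tensorHom]
  haveI : IsReduced L.left := Groth.Agent.AV.isReduced_of_smooth_field L.hom
  exact ⟨L, inferInstance, l, B, inferInstance, r, hl, hlc,
    Groth.L08.Borel.isTorus_of_surjective_torus hT f, hr, hrs, hrf, hkr, hBp, hBs, hBc⟩

end Groth.L19.SpecSub
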