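import Groth.Agent.L19.SpecSub.Points
import Groth.Agent.L26.Neron.Closure
import Groth.Agent.Lead.GrpFibreDim
import Mathlib.RingTheory.DiscreteValuationRing.Basic
import Mathlib.AlgebraicGeometry.Morphisms.FinitePresentation

/-!
# Specialisation of subgroups over a discrete valuation ring
-/

set_option autoImplicit false
set_option backward.isDefEq.respectTransparency.types false
set_option linter.style.haveILetI false

universe u

open CategoryTheory CategoryTheory.Limits MonoidalCategory CartesianMonoidalCategory MonObj GrpObj AlgebraicGeometry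

noncomputable section

namespace Groth.L19.SpecSub

/-- The base change to a point is homeomorphic to the fibre. -/
theorem dim_pullback {T B : Scheme.{u}} (g : T ⟶ B) [IsPreimmersion g] (Z : Over B) (s : B)
    (hs : Set.range g = {s}) :
    topologicalKrullDim ↥(pullback Z.hom g) = topologicalKrullDim ↥(Z.hom ⁻¹' {s}) := by
  haveI : IsPreimmersion (pullback.fst Z.hom g) := MorphismProperty.pullback_fst _ _ ‹IsPreimmersion g›
  exact IsHomeomorph.topologicalKrullDim_eq _
    (((pullback.fst Z.hom g).isEmbedding.toHomeomorph).trans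
      (Homeomorph.setCongr (by rw [Scheme.Pullback.range_fst, hs]))).isHomeomorph

variable (V : Type u) [CommRing V] [IsDomain V] [IsDiscreteValuationRing V]

/-- the closed point of a local scheme as a morphism -/
abbrev resPt : Spec (CommRingCat.of (IsLocalRing.ResidueField V)) ⟶ Spec (CommRingCat.of V) :=
  Spec.map (CommRingCat.ofHom (algebraMap V (IsLocalRing.ResidueField V)))

/-- Properties which specialise along the closure over a discrete valuation ring. -/
def Specialises (P : Pred.{u}) {S : Scheme.{u}} (G : Over S) [GrpObj G] : Prop :=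
  ∀ (V : Type u) [CommRing V] [IsDomain V] [IsDiscreteValuationRing V] (f : Spec (CommRingCat.of V) ⟶ S)
    (H : Over (Spec (CommRingCat.of V))) [GrpObj H] (j : H ⟶ Red.bc f G),
    IsMonHom j → IsClosedImmersion j.left → Flat H.hom →
    P ((Over.pullback (Neron.genPt V)).map j : Red.bc (Neron.genPt V) H ⟶ Red.bc (Neron.genPt V) (Red.bc f G)) →
    P ((Over.pullback (resPt V)).map j : Red.bc (resPt V) H ⟶ Red.bc (resPt V) (Red.bc f G))

variable {V} {P : Pred.{u}} {S : Scheme.{u}} {G : Over S} [GrpObj G] {d : WithBot ℕ∞}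

theorem dvr_step [LocallyOfFinitePresentation G.hom] (hP : Stable P) (hS : Specialises P G)
    (f : Spec (CommRingCat.of V) ⟶ S) (h : Has P G d (Neron.genPt V ≫ f)) : Has P G d (resPt V ≫ f) := by
  obtain ⟨H₀, inst, i₀, hi₀, hc₀, hp, hd⟩ := h
  let gp := Neron.genPt V
  let G' := Red.bc f G
  let e₀ := Groth.L25.LimHom.cmp (rfl : gp ≫ f = gp ≫ f) G
  haveI : IsMonHom e₀.hom := Groth.L25.LimHom.isMonHom_cmp rfl G
  let i : H₀ ⟶ Red.bc gp G' := i₀ ≫ e₀.inv
  haveI : IsMonHom i := inferInstanceAs (IsMonHom (i₀ ≫ e₀.inv))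
  haveI : IsClosedImmersion i.left := isClosedImmersion_comp_iso i₀ e₀.symm
  haveI : LocallyOfFinitePresentation G'.hom :=
    MorphismProperty.pullback_snd _ _ ‹LocallyOfFinitePresentation G.hom›
  obtain ⟨H, instH, j, φ, hj, hjc, hflat, sq, hφ, -⟩ := Groth.Agent.NeronL.exists_closure G' H₀ i
  haveI : LocallyOfFiniteType H.hom := by rw [← Over.w j]; infer_instance
  haveI : LocallyOfFinitePresentation H.hom := inferInstance
  -- the generic fibre of the closure
  haveI : IsIso ((Over.forget _).map (Over.homMk sq.isoPullback.hom sq.isoPullback_hom_snd : H₀ ⟶ Red.bc gp H)) :=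
    inferInstanceAs (IsIso sq.isoPullback.hom)
  let u : H₀ ⟶ Red.bc gp H := Over.homMk sq.isoPullback.hom sq.isoPullback_hom_snd
  haveI : IsIso u := isIso_of_reflects_iso u (Over.forget _)
  let jK : Red.bc gp H ⟶ Red.bc gp G' := (Over.pullback gp).map j
  haveI : IsMonHom jK := inferInstanceAs (IsMonHom ((Over.pullback gp).map j))
  haveI : IsClosedImmersion jK.left := isClosedImmersion_bc gp j
  haveI : Mono jK := Over.mono_of_mono_left jK
  have hu : u ≫ jK = i := by
    apply Over.OverMorphism.ext
    apply pullback.hom_ext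
    · rw [Over.comp_left, Category.assoc, Groth.Agent.NeronL.pb_map_fst, ← Category.assoc]
      exact (congrArg (· ≫ j.left) sq.isoPullback_hom_fst).trans hφ
    · rw [Over.comp_left, Category.assoc, Groth.Agent.NeronL.pb_map_snd]
      exact sq.isoPullback_hom_snd.trans (Over.w i).symm
  haveI : IsMonHom (u ≫ jK) := hu ▸ ‹IsMonHom i›
  haveI : IsMonHom u := isMonHom_of_fac u jK
  have hpi : P i := by
    have := hP.iso i₀ (Iso.refl _) e₀.symm hi₀ (inferInstanceAs (IsMonHom (𝟙 _)))
      (inferInstanceAs (IsMonHom e₀.inv)) hp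
    simpa using this
  have hpK : P jK := by
    have := hP.iso i (asIso u).symm (Iso.refl _) inferInstance (inferInstanceAs (IsMonHom (asIso u).inv))
      (inferInstanceAs (IsMonHom (𝟙 _))) hpi
    have e : (asIso u).symm.hom ≫ i ≫ (Iso.refl (Red.bc gp G')).hom = jK := by
      simp [← hu]
    rwa [e] at this
  let e₁ := Groth.L25.LimHom.cmp (rfl : resPt V ≫ f = resPt V ≫ f) G
  haveI : IsMonHom e₁.hom := Groth.L25.LimHom.isMonHom_cmp rfl G
  let js : Red.bc (resPt V) H ⟶ Red.bc (resPt V) G' := (Over.pullback (resPt V)).map j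
  haveI : IsMonHom js := inferInstanceAs (IsMonHom ((Over.pullback (resPt V)).map j))
  haveI : IsClosedImmersion js.left := isClosedImmersion_bc _ j
  refine ⟨Red.bc (resPt V) H, inferInstance, js ≫ e₁.hom, inferInstance, isClosedImmersion_comp_iso js e₁, ?_, ?_⟩
  · have := hP.iso js (Iso.refl _) e₁ inferInstance (inferInstanceAs (IsMonHom (𝟙 _))) inferInstance
      (hS V f H j hj hjc hflat hpK)
    simpa using this
  · haveI : IsPreimmersion gp :=
      IsPreimmersion.of_isLocalization (R := V) (S := FractionRing V) (nonZeroDivisors V)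
    haveI : IsClosedImmersion (resPt V) :=
      IsClosedImmersion.spec_of_surjective _ IsLocalRing.residue_surjective
    rw [← hd]
    have h1 : topologicalKrullDim ↥H₀.left = topologicalKrullDim ↥(pullback H.hom gp) :=
      IsHomeomorph.topologicalKrullDim_eq _ (Scheme.homeoOfIso sq.isoPullback).isHomeomorph
    have hr : ∀ (F : Type u) [Field F] (g : Spec (CommRingCat.of F) ⟶ Spec (CommRingCat.of V)),
        Set.range g = {g (IsLocalRing.closedPoint F)} := fun F _ g => by
      ext y
      refine ⟨?_, fun hy => ⟨_, hy.symm⟩⟩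
      rintro ⟨x, rfl⟩
      rw [Subsingleton.elim x (IsLocalRing.closedPoint F)]
      rfl
    have r1 := hr _ gp
    have r2 := hr _ (resPt V)
    rw [h1, dim_pullback gp H _ r1]
    show topologicalKrullDim ↥(pullback H.hom (resPt V)) = _
    rw [dim_pullback (resPt V) H _ r2]
    exact (Groth.Lead.GrpFibreDim.isLocallyConstant H).apply_eq_of_preconnectedSpace _ _

end Groth.L19.SpecSub
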