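import Groth.Agent.L19.SpecSub.EqConnected
import Groth.Agent.L19.SpecSub.ValClosure
import Groth.Agent.S18082

/-!
# Solvability and nilpotency on connected subgroups of the special fibre
-/

set_option autoImplicit false
set_option backward.isDefEq.respectTransparency.types false
set_option linter.style.haveILetI false

universe u

open CategoryTheory CategoryTheory.Limits MonoidalCategory CartesianMonoidalCategory MonObj GrpObj AlgebraicGeometry
open scoped commutatorElement

noncomputable section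

namespace Groth.L19.SpecSub

open Groth.Agent.S18082 (lP lW dP dW lS dS)

theorem dS_map {Γ Δ : Type*} [Group Γ] [Group Δ] (φ : Γ →* Δ) : ∀ n, ∀ x ∈ dS Γ n, φ x ∈ dS Δ n
  | 0 => fun _ _ => trivial
  | n + 1 => by
    rintro _ ⟨a, ha, b, hb, rfl⟩
    exact ⟨φ a, dS_map φ n a ha, φ b, dS_map φ n b hb, (map_commutatorElement φ a b).symm⟩

theorem lS_map {Γ Δ : Type*} [Group Γ] [Group Δ] (φ : Γ →* Δ) : ∀ n, ∀ x ∈ lS Γ n, φ x ∈ lS Δ n
  | 0 => fun _ _ => trivial
  | n + 1 => by
    rintro _ ⟨a, ha, b, rfl⟩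
    exact ⟨φ a, lS_map φ n a ha, φ b, (map_commutatorElement φ a b).symm⟩

section Words

variable {S : Scheme.{u}} (G : Over S) [GrpObj G]

theorem dW_mem_dS : ∀ n, dW G n ∈ dS (dP G n ⟶ G) n
  | 0 => trivial
  | n + 1 => ⟨_, dS_map (Groth.Agent.S18082.precomp G (fst (dP G n) (dP G n))) n _ (dW_mem_dS n),
      _, dS_map (Groth.Agent.S18082.precomp G (snd (dP G n) (dP G n))) n _ (dW_mem_dS n), rfl⟩

theorem lW_mem_lS : ∀ n, lW G n ∈ lS (lP G n ⟶ G) n
  | 0 => trivial
  | n + 1 => ⟨_, lS_map (Groth.Agent.S18082.precomp G (fst (lP G n) G)) n _ (lW_mem_lS n),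
      _, rfl⟩

/-- the tuple of units -/
def dPt : (n : ℕ) → (𝟙_ (Over S) ⟶ dP G n)
  | 0 => η[G]
  | n + 1 => lift (dPt n) (dPt n)

/-- the tuple of units -/
def lPt : (n : ℕ) → (𝟙_ (Over S) ⟶ lP G n)
  | 0 => η[G]
  | n + 1 => lift (lPt n) η[G]

theorem dPt_dW : ∀ n, dPt G n ≫ dW G n = 1
  | 0 => (Category.comp_id _).trans (by rw [Hom.one_def, toUnit_unique (toUnit (𝟙_ (Over S))) (𝟙 _), Category.id_comp]; rfl)
  | n + 1 => by
    change lift (dPt G n) (dPt G n) ≫ ⁅fst (dP G n) (dP G n) ≫ dW G n, snd (dP G n) (dP G n) ≫ dW G n⁆ = 1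
    rw [Groth.Agent.S18082.comp_commutator, lift_fst_assoc, lift_snd_assoc, dPt_dW n, commutatorElement_one_left]

theorem lPt_lW : ∀ n, lPt G n ≫ lW G n = 1
  | 0 => (Category.comp_id _).trans (by rw [Hom.one_def, toUnit_unique (toUnit (𝟙_ (Over S))) (𝟙 _), Category.id_comp]; rfl)
  | n + 1 => by
    change lift (lPt G n) η[G] ≫ ⁅fst (lP G n) G ≫ lW G n, snd (lP G n) G⁆ = 1
    rw [Groth.Agent.S18082.comp_commutator, lift_fst_assoc, lift_snd, lPt_lW n, commutatorElement_one_left]

end Words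

variable {V : Type u} [CommRing V] {K : Type u} [Field K] [Algebra V K] [IsFractionRing V K]
  {k : Type u} [Field k] (r : Spec (CommRingCat.of k) ⟶ Spec (CommRingCat.of V))
  (H : Over (Spec (CommRingCat.of V))) [GrpObj H]

theorem eq_one_of_connected [IsDomain V] [IsSeparated (pullback.snd H.hom r)] {X : Over (Spec (CommRingCat.of V))}
    [Flat X.hom] (W : X ⟶ H) (hW : Groth.Agent.S18082.ε (genPtOf V K) X ≫ W = 1)
    {T : Over (Spec (CommRingCat.of k))} [ConnectedSpace T.left] (f : (Over.map r).obj T ⟶ X)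
    (o : 𝟙_ (Over (Spec (CommRingCat.of k))) ⟶ T) (ho : (Over.map r).map o ≫ f ≫ W = 1) : f ≫ W = 1 := by
  rw [← MonObj.comp_one (Groth.Agent.S18082.ε (genPtOf V K) X)] at hW
  replace ho : (Over.map r).map o ≫ f ≫ W = (Over.map r).map o ≫ f ≫ (1 : X ⟶ H) :=
    ho.trans (by rw [MonObj.comp_one, MonObj.comp_one])
  refine Eq.trans ?_ (MonObj.comp_one f)
  haveI : Nonempty (𝟙_ (Over (Spec (CommRingCat.of k)))).left := ⟨IsLocalRing.closedPoint k⟩
  haveI : ConnectedSpace ((Over.map r).obj T).left := ‹ConnectedSpace T.left›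
  apply Over.OverMorphism.ext
  exact eq_of_connected H.hom W.left (1 : X ⟶ H).left ((Over.w W).trans (Over.w _).symm)
    (pullback.fst X.hom (genPtOf V K)) congr(CommaMorphism.left $hW) r f.left T.hom
    (by rw [Over.w W, Over.w f]; rfl) o.left congr(CommaMorphism.left $ho)

theorem map_comp_push {C : Over (Spec (CommRingCat.of k))} [GrpObj C] (c : C ⟶ Red.bc r H) [IsMonHom c]
    {T T' : Over (Spec (CommRingCat.of k))} (g : T' ⟶ T) (a : T ⟶ C) :
    (Over.map r).map g ≫ Groth.Agent.S18082.push H r T (a ≫ c) =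
      Groth.Agent.S18082.push H r T' ((g ≫ a) ≫ c) :=
  (((Over.mapPullbackAdj r).homEquiv_naturality_left_symm g (a ≫ c)).symm).trans
    (congrArg _ (Category.assoc _ _ _).symm)

/-- postcomposition with a homomorphism, on points of the source -/
def toH {C : Over (Spec (CommRingCat.of k))} [GrpObj C] (c : C ⟶ Red.bc r H) [IsMonHom c]
    (T : Over (Spec (CommRingCat.of k))) : (T ⟶ C) →* ((Over.map r).obj T ⟶ H) :=
  (Groth.Agent.S18082.push H r T).comp
    { toFun := fun a => a ≫ c, map_one' := MonObj.one_comp c, map_mul' := fun a b => MonObj.mul_comp a b c }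

theorem toH_injective {C : Over (Spec (CommRingCat.of k))} [GrpObj C] (c : C ⟶ Red.bc r H) [IsMonHom c] [Mono c]
    (T : Over (Spec (CommRingCat.of k))) : Function.Injective (toH r H c T) :=
  (Groth.Agent.S18082.push_inj H r T).comp fun _ _ h => (cancel_mono c).1 h

theorem word_eq_one [IsDomain V] [IsSeparated (pullback.snd H.hom r)]
    {C : Over (Spec (CommRingCat.of k))} [GrpObj C] (c : C ⟶ Red.bc r H) [IsMonHom c] [Mono c]
    {X : Over (Spec (CommRingCat.of V))} [Flat X.hom] (W : X ⟶ H)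
    (hW : Groth.Agent.S18082.ε (genPtOf V K) X ≫ W = 1)
    {T : Over (Spec (CommRingCat.of k))} [ConnectedSpace T.left] (w : T ⟶ C)
    (o : 𝟙_ (Over (Spec (CommRingCat.of k))) ⟶ T) (ho : o ≫ w = 1)
    (hf : ∃ f, f ≫ W = toH r H c T w) : w = 1 := by
  obtain ⟨f, hf⟩ := hf
  refine toH_injective r H c T ?_
  rw [map_one, ← hf]
  refine eq_one_of_connected r H W hW f o ?_
  rw [hf]
  refine (map_comp_push r H c o w).trans ?_
  rw [ho, MonObj.one_comp, map_one]

/-- solvability passes to subgroups of the special fibre with connected powers -/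
theorem solvable_special [IsDomain V] [Flat H.hom] [IsSeparated (pullback.snd H.hom r)]
    {C : Over (Spec (CommRingCat.of k))} [GrpObj C] (c : C ⟶ Red.bc r H) [IsMonHom c] [Mono c]
    (hconn : ∀ n, ConnectedSpace (dP C n).left) (hK : Red.IsSolvableGrp (Red.bc (genPtOf V K) H)) :
    Red.IsSolvableGrp C := by
  obtain ⟨n, hn⟩ := hK
  refine ⟨n, fun Z => le_bot_iff.1 ((Groth.Agent.S18082.der_le n).trans ((Subgroup.closure_le _).2 fun s hs => ?_))⟩
  obtain ⟨f, rfl⟩ := Groth.Agent.S18082.dS_exists C Z n s hs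
  haveI := hconn n
  haveI := Groth.Agent.S18082.dP_flat H n
  have hW : Groth.Agent.S18082.ε (genPtOf V K) (dP H n) ≫ dW H n = 1 :=
    Subgroup.mem_bot.1 ((Groth.Agent.S18082.der_eq_bot (Groth.Agent.S18082.pull H (genPtOf V K) _)
      (Groth.Agent.S18082.pull_inj H (genPtOf V K) _) (hn _)).le
      (map_derivedSeries_le_derivedSeries
        (Groth.Agent.S18082.precomp H (Groth.Agent.S18082.ε (genPtOf V K) (dP H n))) n
        (Subgroup.mem_map_of_mem _ (Groth.Agent.S18082.dW_mem H n))))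
  rw [word_eq_one (K := K) r H c (dW H n) hW (dW C n) (dPt C n) (dPt_dW C n)
    (Groth.Agent.S18082.dS_exists H _ n _ (dS_map (toH r H c _) n _ (dW_mem_dS C n))), MonObj.comp_one]
  exact one_mem _

/-- nilpotency passes to subgroups of the special fibre with connected powers -/
theorem nilpotent_special [IsDomain V] [Flat H.hom] [IsSeparated (pullback.snd H.hom r)]
    {C : Over (Spec (CommRingCat.of k))} [GrpObj C] (c : C ⟶ Red.bc r H) [IsMonHom c] [Mono c]
    (hconn : ∀ n, ConnectedSpace (lP C n).left) (hK : AGF.IsNilpotentGrp (Red.bc (genPtOf V K) H)) :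
    AGF.IsNilpotentGrp C := by
  obtain ⟨n, hn⟩ := hK
  refine ⟨n, fun Z => (Groth.Agent.S7999.upper_eq_top_iff n).2
    (le_bot_iff.1 ((Groth.Agent.S18082.lcs_le n).trans ((Subgroup.closure_le _).2 fun s hs => ?_)))⟩
  obtain ⟨f, rfl⟩ := Groth.Agent.S18082.lS_exists C Z n s hs
  haveI := hconn n
  haveI := Groth.Agent.S18082.lP_flat H n
  have hW : Groth.Agent.S18082.ε (genPtOf V K) (lP H n) ≫ lW H n = 1 :=
    Subgroup.mem_bot.1 ((Groth.Agent.S18082.lcs_eq_bot (Groth.Agent.S18082.pull H (genPtOf V K) _)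
      (Groth.Agent.S18082.pull_inj H (genPtOf V K) _) ((Groth.Agent.S7999.upper_eq_top_iff n).1 (hn _))).le
      (Subgroup.lowerCentralSeries.map
        (Groth.Agent.S18082.precomp H (Groth.Agent.S18082.ε (genPtOf V K) (lP H n))) n
        (Subgroup.mem_map_of_mem _ (Groth.Agent.S18082.lW_mem H n))))
  rw [word_eq_one (K := K) r H c (lW H n) hW (lW C n) (lPt C n) (lPt_lW C n)
    (Groth.Agent.S18082.lS_exists H _ n _ (lS_map (toH r H c _) n _ (lW_mem_lS C n))), MonObj.comp_one]
  exact one_mem _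

/-- commutativity passes to connected subgroups of the special fibre -/
theorem comm_special [IsDomain V] [Flat H.hom] [IsSeparated (pullback.snd H.hom r)]
    {C : Over (Spec (CommRingCat.of k))} [GrpObj C] (c : C ⟶ Red.bc r H) [IsMonHom c] [Mono c]
    [ConnectedSpace (C ⊗ C).left] [IsCommMonObj (Red.bc (genPtOf V K) H)] : IsCommMonObj C := by
  haveI : Flat (dP H 1).hom := Groth.Agent.S18082.dP_flat H 1
  have hW : Groth.Agent.S18082.ε (genPtOf V K) (dP H 1) ≫ dW H 1 = 1 := by
    refine (Groth.Agent.S18082.comp_commutator H _ _ _).trans ?_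
    refine Groth.Agent.S18082.pull_inj H (genPtOf V K) _ ?_
    rw [map_commutatorElement, map_one]
    exact commutatorElement_eq_one_iff_mul_comm.2 (mul_comm _ _)
  haveI : ConnectedSpace (dP C 1).left := ‹ConnectedSpace (C ⊗ C).left›
  have h1 := word_eq_one (K := K) r H c (dW H 1) hW (dW C 1) (dPt C 1) (dPt_dW C 1)
    (Groth.Agent.S18082.dS_exists H _ 1 _ (dS_map (toH r H c _) 1 _ (dW_mem_dS C 1)))
  change ⁅fst C C ≫ 𝟙 C, snd C C ≫ 𝟙 C⁆ = 1 at h1
  rw [Category.comp_id, Category.comp_id, commutatorElement_eq_one_iff_mul_comm] at h1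
  exact IsCommMonObj.mk (by rw [MonObj.mul_eq_mul, MonObj.comp_mul, braiding_hom_fst, braiding_hom_snd]; exact h1.symm)

end Groth.L19.SpecSub
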